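import Mathlib
import Cfsg.Prelude.Def_Blocks
import Cfsg.Agent.Blocks.Basic
import Cfsg.Agent.Blocks.Local
import Cfsg.Agent.S0906
import Cfsg.Agent.S0908
set_option linter.all false

/-!
# Defect and degrees (helper592)

Small consequences of `#D = p ^ d(B)`.
-/

set_option autoImplicit false
open Cfsg

namespace Cfsg.Agent.H592.Defect

open Cfsg.Agent.Blocks Cfsg.Agent.Blocks.Local

variable {G : Type*} [Group G]

theorem exists_defectGroup [Finite G] (p : ℕ) [Fact p.Prime] {M : Ideal AlgInt}
    (hM : IsPModular p M) {B : Set (IrrCharacter G)} (hB : IsPBlock M B) :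
    ∃ D : Subgroup G, IsDefectGroup p M B D := by
  obtain ⟨h, hh⟩ := Cfsg.Agent.S0906.result p M hM B hB
  obtain ⟨S⟩ : Nonempty (Sylow p (Subgroup.centralizer ({h} : Set G))) := inferInstance
  exact ⟨_, h, hh, S, rfl⟩

theorem isPGroup_of_isDefectGroup [Finite G] {p : ℕ} [Fact p.Prime] {M : Ideal AlgInt}
    {B : Set (IrrCharacter G)} {D : Subgroup G} (hD : IsDefectGroup p M B D) :
    IsPGroup p D := by
  obtain ⟨g, -, Q, hQ⟩ := hD
  rw [hQ]
  exact Q.2.map _

theorem factorization_card_defect [Finite G] (p : ℕ) [hp : Fact p.Prime] {M : Ideal AlgInt}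
    (hM : IsPModular p M) {B : Set (IrrCharacter G)} (hB : IsPBlock M B) {D : Subgroup G}
    (hD : IsDefectGroup p M B D) : (Nat.card D).factorization p = blockDefect p B := by
  rw [Cfsg.Agent.S0908.result p M hM B hB D hD, hp.out.factorization_pow]
  simp

/-- Every character of a block with defect group `D` has `ν(χ(1)) ≥ ν(#G) - ν(#D)`. -/
theorem le_degree_add [Finite G] (p : ℕ) [hp : Fact p.Prime] {M : Ideal AlgInt}
    (hM : IsPModular p M) {B : Set (IrrCharacter G)} (hB : IsPBlock M B) {D : Subgroup G}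
    (hD : IsDefectGroup p M B D) {χ : IrrCharacter G} (hχ : χ ∈ B) :
    (Nat.card G).factorization p ≤
      (charDegree (χ : G → ℂ)).factorization p + (Nat.card D).factorization p := by
  rw [factorization_card_defect p hM hB hD, Basic.blockDefect_def]
  have h1 : sInf ((fun χ : IrrCharacter G => (charDegree (χ : G → ℂ)).factorization p) '' B) ≤
      (charDegree (χ : G → ℂ)).factorization p := Nat.sInf_le ⟨χ, hχ, rfl⟩
  omega

/-- A lower bound for the `p`-parts of all degrees in a block bounds its defect group. -/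
theorem card_defect_le [Finite G] (p : ℕ) [hp : Fact p.Prime] {M : Ideal AlgInt}
    (hM : IsPModular p M) {B : Set (IrrCharacter G)} (hB : IsPBlock M B) {D : Subgroup G}
    (hD : IsDefectGroup p M B D) {n : ℕ}
    (h : ∀ χ ∈ B, (Nat.card G).factorization p ≤
      (charDegree (χ : G → ℂ)).factorization p + n) :
    (Nat.card D).factorization p ≤ n := by
  have hprime : M.IsPrime := isPrime_of_isPModular hM
  rw [factorization_card_defect p hM hB hD, Basic.blockDefect_def]
  obtain ⟨χ₀, hχ₀⟩ := Basic.isPBlock_nonempty hB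
  have h1 : sInf ((fun χ : IrrCharacter G => (charDegree (χ : G → ℂ)).factorization p) '' B) ∈
      ((fun χ : IrrCharacter G => (charDegree (χ : G → ℂ)).factorization p) '' B) :=
    Nat.sInf_mem ⟨_, χ₀, hχ₀, rfl⟩
  obtain ⟨χ, hχ, h2⟩ := h1
  have h3 := h χ hχ
  change (charDegree (χ : G → ℂ)).factorization p = _ at h2
  omega

/-- Some member of a block has height zero. -/
theorem exists_height_zero [Finite G] (p : ℕ) {M : Ideal AlgInt}
    (hM : IsPModular p M) {B : Set (IrrCharacter G)} (hB : IsPBlock M B) :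
    ∃ χ ∈ B, (∀ ψ ∈ B, (charDegree (χ : G → ℂ)).factorization p ≤
        (charDegree (ψ : G → ℂ)).factorization p) ∧
      blockDefect p B = (Nat.card G).factorization p -
        (charDegree (χ : G → ℂ)).factorization p := by
  have hprime : M.IsPrime := isPrime_of_isPModular hM
  obtain ⟨χ₀, hχ₀⟩ := Basic.isPBlock_nonempty hB
  have h1 : sInf ((fun χ : IrrCharacter G => (charDegree (χ : G → ℂ)).factorization p) '' B) ∈
      ((fun χ : IrrCharacter G => (charDegree (χ : G → ℂ)).factorization p) '' B) :=
    Nat.sInf_mem ⟨_, χ₀, hχ₀, rfl⟩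
  obtain ⟨χ, hχ, h2⟩ := h1
  change (charDegree (χ : G → ℂ)).factorization p = _ at h2
  refine ⟨χ, hχ, fun ψ hψ => ?_, ?_⟩
  · rw [h2]
    exact Nat.sInf_le ⟨ψ, hψ, rfl⟩
  · rw [Basic.blockDefect_def, h2]

theorem card_eq_pow_factorization [Finite G] (p : ℕ) [hp : Fact p.Prime] {P : Subgroup G}
    (hP : IsPGroup p P) : Nat.card P = p ^ (Nat.card P).factorization p := by
  obtain ⟨k, hk⟩ := (IsPGroup.iff_card (p := p) (G := P)).1 hP
  rw [hk, hp.out.factorization_pow]
  simp

/-- Two nested `p`-subgroups with the same `p`-adic valuation of the order are equal. -/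
theorem eq_of_le_of_factorization [Finite G] (p : ℕ) [hp : Fact p.Prime] {P D : Subgroup G}
    (hP : IsPGroup p P) (hD : IsPGroup p D) (hPD : P ≤ D)
    (h : (Nat.card D).factorization p ≤ (Nat.card P).factorization p) : P = D := by
  refine Subgroup.eq_of_le_of_card_ge hPD ?_
  rw [card_eq_pow_factorization p hP, card_eq_pow_factorization p hD]
  exact Nat.pow_le_pow_right hp.out.pos h

end Cfsg.Agent.H592.Defect
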