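import Mathlib
import Cfsg.Agent.Blocks.OrbitSum
import Cfsg.Agent.Blocks.Central
import Cfsg.Prelude.Def_Blocks
import Cfsg.Agent.Characters.Core
import Cfsg.Agent.Blocks.Basic
import Cfsg.Agent.Blocks.Local
import Cfsg.Agent.Blocks.ClassSum
import Cfsg.Agent.Blocks.ConvCentral
import Cfsg.Agent.Blocks.BlockIdem
import Cfsg.Agent.Blocks.CentralScalar
import Cfsg.Agent.S0913
import Cfsg.Agent.Characters.Clifford
import Cfsg.Agent.Blocks.Covering
import Cfsg.Agent.Blocks.Over
import Cfsg.Agent.H592.Defect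
import Cfsg.Agent.S0911
import Cfsg.Agent.S0959
import Cfsg.Agent.S0964
set_option linter.all false

-- part: H592/KnorrAlg
section
/-!
# The algebra behind Knörr's theorem on covering blocks (helper592)

`k` a field of characteristic `p`, `N` normal in the finite group `G`, `Q ≤ N` a `p`-subgroup.
The elements of `k[G]` commuting with `N` form a ring graded by `G / N`; those vanishing on
`C_G(Q)` form a graded right ideal.  `eq_zero_of_van` : an idempotent `e` in this ideal with
`e f = e`, `f ∈ Z(k[N])`, is zero if `z f` is nilpotent for every `z ∈ Z(k[N])` vanishing on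
`C_N(Q)`.
-/

set_option autoImplicit false
set_option linter.unusedSectionVars false

namespace Cfsg.Agent.H592.KnorrAlg

open MonoidAlgebra
open Cfsg.Agent.Blocks.Central (ofFun coeff_ofFun ext_coeff coeff_mul_eq_sum mem_center_iff)

variable {k : Type*} [Field k] {G : Type*} [Group G]

/-- Invariance of an element of the group algebra under conjugation by `N`. -/
def Inv (N : Subgroup G) (a : MonoidAlgebra k G) : Prop :=
  ∀ n ∈ N, ∀ g : G, a.coeff (n * g * n⁻¹) = a.coeff g

/-- The coefficients on `C_G(Q)` are zero. -/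
def Van (Q : Subgroup G) (a : MonoidAlgebra k G) : Prop :=
  ∀ c ∈ Subgroup.centralizer (Q : Set G), a.coeff c = 0

/-- Support in a coset. -/
def Deg (N : Subgroup G) [N.Normal] (d : G ⧸ N) (a : MonoidAlgebra k G) : Prop :=
  ∀ g : G, a.coeff g ≠ 0 → (g : G ⧸ N) = d

variable [Fintype G] (N : Subgroup G)

theorem Inv.mul {N : Subgroup G} {a b : MonoidAlgebra k G} (ha : Inv N a) (hb : Inv N b) :
    Inv N (a * b) := by
  intro n hn g
  rw [coeff_mul_eq_sum, coeff_mul_eq_sum]
  symm
  refine Fintype.sum_equiv (MulAut.conj n).toEquiv _ _ fun x => ?_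
  have h1 : a.coeff ((MulAut.conj n).toEquiv x) = a.coeff x := ha n hn x
  have h2 : ((MulAut.conj n).toEquiv x)⁻¹ * (n * g * n⁻¹) = n * (x⁻¹ * g) * n⁻¹ := by
    change (n * x * n⁻¹)⁻¹ * (n * g * n⁻¹) = n * (x⁻¹ * g) * n⁻¹
    group
  rw [h1, h2, hb n hn]

/-- Brauer's argument. -/
theorem Van.mul {p : ℕ} [Fact p.Prime] [CharP k p] {N Q : Subgroup G} (hQN : Q ≤ N)
    (hQ : IsPGroup p Q) {a b : MonoidAlgebra k G} (ha : Inv N a) (hav : Van Q a)
    (hb : Inv N b) : Van Q (a * b) := by
  classical
  intro c hc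
  rw [coeff_mul_eq_sum]
  obtain ⟨r, hr⟩ := Cfsg.Agent.Blocks.OrbitSum.sum_eq_sum_centralizer_add_smul Q hQ
    (fun x => a.coeff x * b.coeff (x⁻¹ * c)) (by
      intro u hu x
      have h1 : (u * x * u⁻¹)⁻¹ * c = u * (x⁻¹ * c) * u⁻¹ := by
        have h2 : u * c = c * u := Subgroup.mem_centralizer_iff.1 hc u hu
        calc (u * x * u⁻¹)⁻¹ * c = u * x⁻¹ * u⁻¹ * (c * u) * u⁻¹ := by group
          _ = u * x⁻¹ * u⁻¹ * (u * c) * u⁻¹ := by rw [h2]
          _ = u * (x⁻¹ * c) * u⁻¹ := by group
      change a.coeff (u * x * u⁻¹) * b.coeff ((u * x * u⁻¹)⁻¹ * c) = _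
      rw [h1, ha u (hQN hu), hb u (hQN hu)])
  rw [hr, Finset.sum_eq_zero, zero_add, ← Nat.cast_smul_eq_nsmul k p r, CharP.cast_eq_zero,
    zero_smul]
  intro x hx
  rw [hav x (Finset.mem_filter.1 hx).2, zero_mul]

section comp

variable [N.Normal]

/-- The component of degree `d`. -/
noncomputable def comp (d : G ⧸ N) (a : MonoidAlgebra k G) : MonoidAlgebra k G :=
  haveI := Classical.decEq (G ⧸ N)
  ofFun (fun g => if (g : G ⧸ N) = d then a.coeff g else 0)

theorem coeff_comp (d : G ⧸ N) [DecidableEq (G ⧸ N)] (a : MonoidAlgebra k G) (g : G) :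
    (comp N d a).coeff g = if (g : G ⧸ N) = d then a.coeff g else 0 := by
  unfold comp
  rw [coeff_ofFun]
  congr

theorem deg_comp (d : G ⧸ N) (a : MonoidAlgebra k G) : Deg N d (comp N d a) := by
  classical
  intro g hg
  rw [coeff_comp] at hg
  by_contra h
  rw [if_neg h] at hg
  exact hg rfl

theorem coeff_finsetSum {ι : Type*} (s : Finset ι) (f : ι → MonoidAlgebra k G) (g : G) :
    (∑ i ∈ s, f i).coeff g = ∑ i ∈ s, (f i).coeff g := by
  classical
  induction s using Finset.induction_on with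
  | empty => simp
  | insert i s hi ih =>
    rw [Finset.sum_insert hi, Finset.sum_insert hi, ← ih]
    simp

theorem sum_comp [Fintype (G ⧸ N)] (a : MonoidAlgebra k G) : ∑ d : G ⧸ N, comp N d a = a := by
  classical
  refine ext_coeff fun g => ?_
  rw [coeff_finsetSum, Finset.sum_congr rfl fun d _ => coeff_comp N d a g]
  simp

theorem comp_mul {s : G ⧸ N} {u : MonoidAlgebra k G} (hu : Deg N s u) (d : G ⧸ N)
    (x : MonoidAlgebra k G) : comp N d (u * x) = u * comp N (s⁻¹ * d) x := by
  classical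
  refine ext_coeff fun g => ?_
  rw [coeff_comp, coeff_mul_eq_sum, coeff_mul_eq_sum]
  have h1 : ∀ y : G, u.coeff y * (comp N (s⁻¹ * d) x).coeff (y⁻¹ * g) =
      if (g : G ⧸ N) = d then u.coeff y * x.coeff (y⁻¹ * g) else 0 := by
    intro y
    by_cases hy : u.coeff y = 0
    · rw [hy]
      simp
    · have h2 := hu y hy
      rw [coeff_comp]
      have h3 : ((y⁻¹ * g : G) : G ⧸ N) = s⁻¹ * d ↔ (g : G ⧸ N) = d := by
        rw [QuotientGroup.mk_mul, QuotientGroup.mk_inv, h2, mul_right_inj]
      by_cases hg : (g : G ⧸ N) = d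
      · rw [if_pos (h3.2 hg), if_pos hg]
      · rw [if_neg (fun h => hg (h3.1 h)), if_neg hg, mul_zero]
  rw [Finset.sum_congr rfl fun y _ => h1 y]
  split_ifs with hg
  · rfl
  · rw [Finset.sum_const_zero]

theorem Inv.comp {N : Subgroup G} [N.Normal] {a : MonoidAlgebra k G} (ha : Inv N a)
    (d : G ⧸ N) : Inv N (comp N d a) := by
  classical
  intro n hn g
  rw [coeff_comp, coeff_comp, ha n hn]
  have h1 : ((n * g * n⁻¹ : G) : G ⧸ N) = (g : G ⧸ N) := by
    have h2 : ((n : G) : G ⧸ N) = 1 := (QuotientGroup.eq_one_iff n).2 hn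
    rw [QuotientGroup.mk_mul, QuotientGroup.mk_mul, QuotientGroup.mk_inv, h2]
    simp
  rw [h1]

theorem Van.comp {Q : Subgroup G} {a : MonoidAlgebra k G} (ha : Van Q a)
    (d : G ⧸ N) : Van Q (comp N d a) := by
  classical
  intro c hc
  rw [coeff_comp, ha c hc, ite_self]

end comp

/-! ### The group algebra of `N` -/

/-- The inclusion of group algebras. -/
noncomputable def inc : MonoidAlgebra k N →+* MonoidAlgebra k G :=
  MonoidAlgebra.mapDomainRingHom k N.subtype

theorem coeff_inc (a : MonoidAlgebra k N) (n : N) : (inc N a).coeff (n : G) = a.coeff n :=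
  Finsupp.mapDomain_apply (f := N.subtype) N.subtype_injective _ n

theorem coeff_inc_of_notMem (a : MonoidAlgebra k N) {g : G} (hg : g ∉ N) :
    (inc N a).coeff g = 0 :=
  Finsupp.mapDomain_of_notMem_range (f := N.subtype) _ _ (by simpa using hg)

theorem deg_inc [N.Normal] (a : MonoidAlgebra k N) : Deg N 1 (inc N a) := by
  intro g hg
  rw [QuotientGroup.eq_one_iff]
  by_contra h
  exact hg (coeff_inc_of_notMem N a h)

/-- Elements of degree one come from `N`. -/
theorem exists_inc [N.Normal] {a : MonoidAlgebra k G} (ha : Deg N 1 a) :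
    a = inc N (ofFun fun n : N => a.coeff n) := by
  refine ext_coeff fun g => ?_
  by_cases hg : g ∈ N
  · exact ((coeff_inc N (ofFun fun n : N => a.coeff n) ⟨g, hg⟩).trans (coeff_ofFun _ _)).symm
  · rw [coeff_inc_of_notMem N _ hg]
    by_contra h
    exact hg ((QuotientGroup.eq_one_iff g).1 (ha g h))

/-- Elements of `k[N]` commute with the invariant elements. -/
theorem inc_mul_comm (z : MonoidAlgebra k N) {a : MonoidAlgebra k G} (ha : Inv N a) :
    inc N z * a = a * inc N z := by
  classical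
  refine ext_coeff fun g => ?_
  rw [coeff_mul_eq_sum, coeff_mul_eq_sum]
  symm
  refine Fintype.sum_equiv ((Equiv.inv G).trans (Equiv.mulRight g)) _ _ fun x => ?_
  change a.coeff x * (inc N z).coeff (x⁻¹ * g) =
    (inc N z).coeff (x⁻¹ * g) * a.coeff ((x⁻¹ * g)⁻¹ * g)
  by_cases hg : x⁻¹ * g ∈ N
  · have h1 : (x⁻¹ * g)⁻¹ * g = (x⁻¹ * g)⁻¹ * x * ((x⁻¹ * g)⁻¹)⁻¹ := by group
    rw [h1, ha _ (inv_mem hg), mul_comm]
  · rw [coeff_inc_of_notMem N z hg, zero_mul, mul_zero]

theorem inv_inc [N.Normal] {z : MonoidAlgebra k N}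
    (hz : z ∈ Subalgebra.center k (MonoidAlgebra k N)) : Inv N (inc N z) := by
  intro n hn g
  by_cases hg : g ∈ N
  · have h1 := coeff_inc N z (⟨n, hn⟩ * ⟨g, hg⟩ * ⟨n, hn⟩⁻¹)
    have h2 := coeff_inc N z ⟨g, hg⟩
    have h3 := mem_center_iff.1 hz ⟨g, hg⟩ ⟨n, hn⟩
    rw [← h1] at h3
    rw [← h2] at h3
    exact h3
  · have h1 : n * g * n⁻¹ ∉ N := by
      intro h
      apply hg
      have h2 := mul_mem (mul_mem (inv_mem hn) h) hn
      have h3 : n⁻¹ * (n * g * n⁻¹) * n = g := by group
      rwa [h3] at h2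
    rw [coeff_inc_of_notMem N z hg, coeff_inc_of_notMem N z h1]

/-- The centre of `k[N]` inside `k[G]`. -/
noncomputable def incZ : Subalgebra.center k (MonoidAlgebra k N) →+* MonoidAlgebra k G :=
  (inc N).comp (Subalgebra.center k (MonoidAlgebra k N)).val.toRingHom

theorem incZ_apply (z : Subalgebra.center k (MonoidAlgebra k N)) :
    incZ N z = inc N (z : MonoidAlgebra k N) := rfl

theorem inv_incZ [N.Normal] (z : Subalgebra.center k (MonoidAlgebra k N)) :
    Inv N (incZ N z) := by
  rw [incZ_apply]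
  exact inv_inc N z.2

theorem incZ_mul_comm (z : Subalgebra.center k (MonoidAlgebra k N)) {a : MonoidAlgebra k G}
    (ha : Inv N a) : incZ N z * a = a * incZ N z := by
  have h1 := inc_mul_comm N (z : MonoidAlgebra k N) ha
  rw [incZ_apply]
  exact h1

theorem comp_incZ_mul [N.Normal] (z : Subalgebra.center k (MonoidAlgebra k N)) (d : G ⧸ N)
    (a : MonoidAlgebra k G) : comp N d (incZ N z * a) = incZ N z * comp N d a := by
  have h1 := comp_mul N (deg_inc N (z : MonoidAlgebra k N)) d a
  rw [inv_one, one_mul] at h1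
  rw [incZ_apply]
  exact h1

theorem comp_zero [N.Normal] (d : G ⧸ N) : comp N d (0 : MonoidAlgebra k G) = 0 := by
  classical
  refine ext_coeff fun g => ?_
  rw [coeff_comp]
  simp

theorem exists_incZ [N.Normal] {x : MonoidAlgebra k G} (hx : Inv N x) {Q : Subgroup G}
    (hxv : Van Q x) : ∃ z : Subalgebra.center k (MonoidAlgebra k N), comp N 1 x = incZ N z ∧
      ∀ c : N, (c : G) ∈ Subgroup.centralizer (Q : Set G) →
        (z : MonoidAlgebra k N).coeff c = 0 := by
  have h1 := exists_inc N (deg_comp N 1 x)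
  have h2 : (ofFun fun n : N => (comp N 1 x).coeff n) ∈
      Subalgebra.center k (MonoidAlgebra k N) := by
    rw [mem_center_iff]
    intro g h
    rw [coeff_ofFun, coeff_ofFun]
    exact (hx.comp 1) h h.2 g
  have h3 : ∀ c : N, (c : G) ∈ Subgroup.centralizer (Q : Set G) →
      (ofFun fun n : N => (comp N 1 x).coeff n).coeff c = 0 := by
    intro c hc
    rw [coeff_ofFun]
    exact hxv.comp N 1 _ hc
  generalize (ofFun fun n : N => (comp N 1 x).coeff n) = y at h1 h2 h3
  exact ⟨⟨y, h2⟩, h1, h3⟩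

theorem exists_annihilated (J : Ideal (Subalgebra.center k (MonoidAlgebra k N))) {n : ℕ}
    (hn : J ^ n = 0) {e : MonoidAlgebra k G} (hne : e ≠ 0) :
    ∃ y : Subalgebra.center k (MonoidAlgebra k N), incZ N y * e ≠ 0 ∧
      ∀ z ∈ J, incZ N z * (incZ N y * e) = 0 := by
  classical
  by_contra hcon
  push Not at hcon
  have key : ∀ j : ℕ, ∃ y ∈ J ^ j, incZ N y * e ≠ 0 := by
    intro j
    induction j with
    | zero => exact ⟨1, by simp, by rw [map_one, one_mul]; exact hne⟩
    | succ j ih =>
      obtain ⟨y, hy, hye⟩ := ih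
      obtain ⟨z, hz, hze⟩ := hcon y hye
      refine ⟨z * y, ?_, ?_⟩
      · rw [pow_succ, mul_comm (J ^ j)]
        exact Ideal.mul_mem_mul hz hy
      · rw [map_mul, mul_assoc]
        exact hze
  obtain ⟨y, hy, hye⟩ := key n
  rw [hn] at hy
  have h2 : y = 0 := hy
  rw [h2, map_zero, zero_mul] at hye
  exact hye rfl

/-- **The main lemma.** -/
theorem eq_zero_of_van {p : ℕ} [Fact p.Prime] [CharP k p] [N.Normal] {Q : Subgroup G}
    (hQN : Q ≤ N) (hQ : IsPGroup p Q) (f : Subalgebra.center k (MonoidAlgebra k N))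
    (hf : ∀ z : Subalgebra.center k (MonoidAlgebra k N),
      (∀ c : N, (c : G) ∈ Subgroup.centralizer (Q : Set G) →
        (z : MonoidAlgebra k N).coeff c = 0) → IsNilpotent (z * f))
    {e : MonoidAlgebra k G} (he : Inv N e) (hv : Van Q e) (hee : e * e = e)
    (hef : e * incZ N f = e) : e = 0 := by
  classical
  by_contra hne
  have : Finite N := inferInstance
  have hfin : Module.Finite k (MonoidAlgebra k N) := inferInstance
  have : IsNoetherianRing (Subalgebra.center k (MonoidAlgebra k N)) := by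
    have h1 : IsNoetherian k (Subalgebra.center k (MonoidAlgebra k N)) :=
      isNoetherian_of_injective (Subalgebra.center k (MonoidAlgebra k N)).val.toLinearMap
        Subtype.val_injective
    exact isNoetherian_of_tower k h1
  obtain ⟨n, hn⟩ := IsNoetherianRing.isNilpotent_nilradical
    (Subalgebra.center k (MonoidAlgebra k N))
  obtain ⟨y, hye, hyJ⟩ := exists_annihilated N
    (nilradical (Subalgebra.center k (MonoidAlgebra k N))) hn hne
  have hdeg1 : ∀ x : MonoidAlgebra k G, Inv N x → Van Q x →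
      ∃ z : Subalgebra.center k (MonoidAlgebra k N), comp N 1 x = incZ N z ∧
        z * f ∈ nilradical (Subalgebra.center k (MonoidAlgebra k N)) := by
    intro x hx hxv
    obtain ⟨z, hz1, hz2⟩ := exists_incZ N hx hxv
    exact ⟨z, hz1, mem_nilradical.2 (hf z hz2)⟩
  generalize nilradical (Subalgebra.center k (MonoidAlgebra k N)) = J at hn hyJ hdeg1
  -- the pigeonhole argument
  have : Fintype (G ⧸ N) := Fintype.ofFinite _
  have claim : ∀ (n : ℕ) (D : Finset (G ⧸ N)), (Finset.univ \ D).card ≤ n →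
      ∀ s ∈ D, ∀ u : MonoidAlgebra k G, Inv N u → Deg N s u → (∀ z ∈ J, incZ N z * u = 0) →
        u * incZ N f = u →
        (∀ x : MonoidAlgebra k G, Inv N x → Van Q x → ∀ d ∈ D, comp N d (u * x) = 0) →
        u * e ^ (n + 1) = 0 := by
    intro n
    induction n with
    | zero =>
      intro D hD s hs u hu hus hJu huf hux
      have hDu : ∀ d, d ∈ D := by
        intro d
        by_contra hd
        have h1 : d ∈ Finset.univ \ D := Finset.mem_sdiff.2 ⟨Finset.mem_univ _, hd⟩
        rw [Finset.card_eq_zero.1 (Nat.le_zero.1 hD)] at h1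
        exact absurd h1 (Finset.notMem_empty d)
      rw [zero_add, pow_one, ← sum_comp N (u * e)]
      exact Finset.sum_eq_zero fun d _ => hux e he hv d (hDu d)
    | succ n ih =>
      intro D hD s hs u hu hus hJu huf hux
      have h0 : u * e ^ (n + 1 + 1) = ∑ d : G ⧸ N, comp N d (u * e) * e ^ (n + 1) := by
        rw [← Finset.sum_mul, sum_comp, pow_succ' e (n + 1), mul_assoc]
      rw [h0]
      refine Finset.sum_eq_zero fun d _ => ?_
      by_cases hd : d ∈ D
      · rw [hux e he hv d hd, zero_mul]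
      · have hec : Inv N (comp N (s⁻¹ * d) e) := he.comp _
        have hevc : Van Q (comp N (s⁻¹ * d) e) := hv.comp N _
        have hu' : comp N d (u * e) = u * comp N (s⁻¹ * d) e := comp_mul N hus d e
        have hJu' : ∀ z ∈ J, incZ N z * comp N d (u * e) = 0 := by
          intro z hz
          rw [hu', ← mul_assoc, hJu z hz, zero_mul]
        have hinv' : Inv N (comp N d (u * e)) := (hu.mul he).comp d
        have huf' : comp N d (u * e) * incZ N f = comp N d (u * e) := by
          rw [hu', mul_assoc, ← incZ_mul_comm N f hec, ← mul_assoc, huf]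
        refine ih (insert d D) ?_ d (Finset.mem_insert_self d D) _ hinv' (deg_comp N d _) hJu'
          huf' ?_
        · have h1 : (Finset.univ \ insert d D : Finset (G ⧸ N)) = (Finset.univ \ D).erase d := by
            ext x
            simp only [Finset.mem_sdiff, Finset.mem_univ, true_and, Finset.mem_insert,
              Finset.mem_erase, not_or]
          rw [h1, Finset.card_erase_of_mem (Finset.mem_sdiff.2 ⟨Finset.mem_univ _, hd⟩)]
          omega
        · intro x hx hxv d' hd'
          rcases Finset.mem_insert.1 hd' with rfl | hd'D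
          · rw [comp_mul N (deg_comp N d' _), inv_mul_cancel]
            obtain ⟨z, hz1, hz2⟩ := hdeg1 x hx hxv
            rw [hz1, ← huf', mul_assoc, ← map_mul, ← incZ_mul_comm N _ hinv', mul_comm f z]
            exact hJu' _ hz2
          · rw [hu', mul_assoc]
            exact hux _ (hec.mul hx) (Van.mul hQN hQ hec hevc hx) d' hd'D
  -- conclusion
  have hye' : incZ N y * e = incZ N y * e * e ^ (Fintype.card (G ⧸ N) + 1) := by
    have h1 : ∀ m : ℕ, e ^ (m + 1) = e := by
      intro m
      induction m with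
      | zero => simp
      | succ m ih => rw [pow_succ, ih, hee]
    rw [h1, mul_assoc, hee]
  apply hye
  rw [hye', ← sum_comp N (incZ N y * e), Finset.sum_mul]
  refine Finset.sum_eq_zero fun d _ => ?_
  have hinvy : Inv N (incZ N y * e) := (inv_incZ N y).mul he
  have hJd : ∀ z ∈ J, incZ N z * comp N d (incZ N y * e) = 0 := by
    intro z hz
    rw [← comp_incZ_mul, hyJ z hz, comp_zero]
  have hfd : comp N d (incZ N y * e) * incZ N f = comp N d (incZ N y * e) := by
    rw [← incZ_mul_comm N f (hinvy.comp d), ← comp_incZ_mul, incZ_mul_comm N f hinvy, mul_assoc,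
      hef]
  refine claim _ {d} ?_ d (Finset.mem_singleton_self d) _ (hinvy.comp d) (deg_comp N d _) hJd hfd
    ?_
  · exact (Finset.card_le_univ _)
  · intro x hx hxv d' hd'
    rw [Finset.mem_singleton.1 hd', comp_mul N (deg_comp N d _), inv_mul_cancel]
    obtain ⟨z, hz1, hz2⟩ := hdeg1 x hx hxv
    rw [hz1, ← hfd, mul_assoc, ← map_mul, ← incZ_mul_comm N _ (hinvy.comp d), mul_comm f z]
    exact hJd _ hz2

end Cfsg.Agent.H592.KnorrAlg
end

-- part: H592/Reduce
section
/-!
# Reduction of functions modulo `M` to the group algebra over the residue field (helper592)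

* `rd M f` : the element of `k[G]`, `k = ResField M`, with coefficients the residues of `f`;
  multiplicative for convolution (`rd_conv`);
* `isNilpotent_rd` : a central element all of whose central characters vanish is nilpotent;
* `eB M B` : the block idempotent in `k[G]`, idempotent, central, nonzero.
-/

set_option autoImplicit false
set_option linter.unusedSectionVars false

open Cfsg

namespace Cfsg.Agent.H592.Reduce

open Cfsg.Agent.Characters.Core Cfsg.Agent.Blocks Cfsg.Agent.Blocks.Local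
open Cfsg.Agent.Blocks.ConvCentral (conv conv_apply lin lin_def lin_conv isClassFunction_conv)
open Cfsg.Agent.Blocks.Central (ofFun coeff_ofFun ext_coeff coeff_mul_eq_sum mem_center_iff)
open Cfsg.Agent.Blocks.BlockIdem (eq_zero_of_lin isClassFunction_blockCoeff lin_blockCoeff
  conv_blockCoeff_self)
open scoped ComplexConjugate

variable {G : Type*} [Group G]

/-- Reduction of a function modulo `M`. -/
noncomputable def rd [Finite G] (M : Ideal AlgInt) [M.IsPrime] (f : G → ℂ) :
    MonoidAlgebra (ResField M) G :=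
  ofFun fun g => redC M (f g)

variable {p : ℕ} {M : Ideal AlgInt} [M.IsPrime]

theorem coeff_rd [Finite G] (f : G → ℂ) (g : G) : (rd M f).coeff g = redC M (f g) :=
  coeff_ofFun _ _

theorem coeff_rd_ne_zero [Finite G] {f : G → ℂ} (g : G) (h : (rd M f).coeff g ≠ 0) :
    MemLocalRing M (f g) ∧ ¬ MemLocalIdeal M (f g) := by
  rw [coeff_rd] at h
  have h1 : MemLocalRing M (f g) := by
    by_contra hcon
    exact h (redC_of_not hcon)
  exact ⟨h1, fun h2 => h ((redC_eq_zero_iff h1).2 h2)⟩

theorem coeff_rd_eq_zero_iff [Finite G] {f : G → ℂ} (g : G) (h1 : MemLocalRing M (f g)) :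
    (rd M f).coeff g = 0 ↔ MemLocalIdeal M (f g) := by
  rw [coeff_rd]
  exact redC_eq_zero_iff h1

theorem memLocalRing_conv [Fintype G] {f f' : G → ℂ} (hf : ∀ g, MemLocalRing M (f g))
    (hf' : ∀ g, MemLocalRing M (f' g)) (g : G) : MemLocalRing M (conv f f' g) := by
  rw [conv_apply]
  exact memLocalRing_sum fun x _ => memLocalRing_mul (hf _) (hf' _)

theorem rd_conv [Fintype G] {f f' : G → ℂ} (hf : ∀ g, MemLocalRing M (f g))
    (hf' : ∀ g, MemLocalRing M (f' g)) : rd M (conv f f') = rd M f * rd M f' := by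
  refine ext_coeff fun g => ?_
  rw [coeff_rd, coeff_mul_eq_sum, conv_apply,
    redC_sum (fun x _ => memLocalRing_mul (hf _) (hf' _))]
  refine Finset.sum_congr rfl fun x _ => ?_
  rw [redC_mul (hf _) (hf' _), coeff_rd, coeff_rd]

theorem rd_mem_center [Finite G] {f : G → ℂ} (hf : IsClassFunction G f) :
    rd M f ∈ Subalgebra.center (ResField M) (MonoidAlgebra (ResField M) G) := by
  rw [mem_center_iff]
  intro g h
  rw [coeff_rd, coeff_rd, hf g h]

/-- **Nilpotency**: a central element killed by all central characters is nilpotent. -/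
theorem isNilpotent_rd [Fintype G] {z : G → ℂ} (hz : IsClassFunction G z)
    (hzR : ∀ g, MemLocalRing M (z g))
    (hlin : ∀ χ : IrrCharacter G, MemLocalIdeal M (lin (χ : G → ℂ) z / (χ : G → ℂ) 1)) :
    IsNilpotent (rd M z) := by
  classical
  have hfin : Finite (IrrCharacter G) := finite_irr
  have : Fintype (IrrCharacter G) := Fintype.ofFinite _
  have key : ∀ T : Finset (IrrCharacter G), ∃ f : G → ℂ, IsClassFunction G f ∧
      (∀ g, MemLocalRing M (f g)) ∧ rd M f = rd M z ^ (T.card + 1) ∧
      ∀ χ ∈ T, lin (χ : G → ℂ) f = 0 := by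
    intro T
    induction T using Finset.induction_on with
    | empty => exact ⟨z, hz, hzR, by simp, by simp⟩
    | insert χ T hχT ih =>
      obtain ⟨f, hf, hfR, hfz, hfT⟩ := ih
      have hχ1 := Basic.irr_one_ne_zero χ.2
      set c : ℂ := lin (χ : G → ℂ) z / (χ : G → ℂ) 1 with hc
      have hcR : MemLocalRing M c := memLocalRing_of_memLocalIdeal (hlin χ)
      refine ⟨fun g => conv z f g - c * f g, ?_, ?_, ?_, ?_⟩
      · intro g k
        change conv z f (k * g * k⁻¹) - c * f (k * g * k⁻¹) = conv z f g - c * f g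
        rw [isClassFunction_conv hz hf g k, hf g k]
      · intro g
        exact memLocalRing_sub (memLocalRing_conv hzR hfR g) (memLocalRing_mul hcR (hfR g))
      · rw [Finset.card_insert_of_notMem hχT, pow_succ' (rd M z) (T.card + 1), ← hfz,
          ← rd_conv hzR hfR]
        refine ext_coeff fun g => ?_
        rw [coeff_rd, coeff_rd]
        rw [redC_sub (memLocalRing_conv hzR hfR g) (memLocalRing_mul hcR (hfR g)),
          redC_mul hcR (hfR g), (redC_eq_zero_iff hcR).2 (hlin χ), zero_mul, sub_zero]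
      · intro ψ hψ
        have hψ1 := Basic.irr_one_ne_zero ψ.2
        have h1 := lin_conv ψ.2 (f := z) (f' := f) hz
        have h2 : lin (ψ : G → ℂ) (fun g => conv z f g - c * f g) =
            lin (ψ : G → ℂ) (conv z f) - c * lin (ψ : G → ℂ) f := by
          rw [lin_def, lin_def, lin_def, Finset.mul_sum, ← Finset.sum_sub_distrib]
          refine Finset.sum_congr rfl fun x _ => ?_
          ring
        rw [h2]
        rcases Finset.mem_insert.1 hψ with rfl | hψT
        · apply mul_right_cancel₀ hψ1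
          rw [sub_mul, h1, hc]
          field_simp
          ring
        · rw [hfT ψ hψT, mul_zero] at h1
          rw [hfT ψ hψT, (mul_eq_zero.1 h1).resolve_right hψ1, mul_zero, sub_zero]
  obtain ⟨f, hf, -, hfz, hfT⟩ := key Finset.univ
  have hf0 : f = 0 := eq_zero_of_lin hf fun χ => hfT χ (Finset.mem_univ _)
  refine ⟨_, hfz.symm.trans ?_⟩
  rw [hf0]
  refine ext_coeff fun g => ?_
  rw [coeff_rd]
  simp [redC_zero]

/-- The block idempotent over the residue field. -/
noncomputable def eB [Finite G] (M : Ideal AlgInt) [M.IsPrime] (B : Set (IrrCharacter G)) :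
    MonoidAlgebra (ResField M) G :=
  rd M (blockCoeff B)

theorem coeff_eB [Finite G] (B : Set (IrrCharacter G)) (g : G) :
    (eB M B).coeff g = redC M (blockCoeff B g) := coeff_rd _ _

theorem eB_mem_center [Finite G] (B : Set (IrrCharacter G)) :
    eB M B ∈ Subalgebra.center (ResField M) (MonoidAlgebra (ResField M) G) :=
  rd_mem_center (isClassFunction_blockCoeff B)

theorem eB_mul_self [Finite G] [Fact p.Prime] (hM : IsPModular p M) {B : Set (IrrCharacter G)}
    (hB : IsPBlock M B) : eB M B * eB M B = eB M B := by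
  have := Fintype.ofFinite G
  have h1 : ∀ g, MemLocalRing M (blockCoeff B g) :=
    fun g => Cfsg.Agent.S0913.result p M hM B hB g
  unfold eB
  rw [← rd_conv h1 h1, conv_blockCoeff_self]

/-- Values of a central character of a class function with local values. -/
theorem memLocalRing_lin [Fintype G] {χ : IrrCharacter G} {f : G → ℂ}
    (hf : IsClassFunction G f) (hfR : ∀ g, MemLocalRing M (f g)) :
    MemLocalRing M (lin (χ : G → ℂ) f / (χ : G → ℂ) 1) := by
  have h1 := ClassSum.memLocalRing_sum (isIrr_isClassFunction χ.2)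
    (fun g => memLocalRing_of_isIntegral (CentralScalar.isIntegral_centralChar χ.2 g)) hf hfR
  have h2 : lin (χ : G → ℂ) f / (χ : G → ℂ) 1 =
      ∑ g : G, f g * ((χ : G → ℂ) g / (χ : G → ℂ) 1) := by
    rw [lin_def, Finset.sum_div]
    refine Finset.sum_congr rfl fun g _ => ?_
    ring
  rw [h2]
  exact h1

/-- The central character as a function of the reduction: if `rd M f = 0` then the value is in
the local ideal. -/
theorem memLocalIdeal_lin [Fintype G] {χ : IrrCharacter G} {f : G → ℂ}
    (hf : IsClassFunction G f) (hfI : ∀ g, MemLocalIdeal M (f g)) :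
    MemLocalIdeal M (lin (χ : G → ℂ) f / (χ : G → ℂ) 1) := by
  obtain ⟨T, hT⟩ := ClassSum.exists_reps (G := G)
  have h2 : lin (χ : G → ℂ) f / (χ : G → ℂ) 1 =
      ∑ g : G, f g * ((χ : G → ℂ) g / (χ : G → ℂ) 1) := by
    rw [lin_def, Finset.sum_div]
    refine Finset.sum_congr rfl fun g _ => ?_
    ring
  rw [h2, hT f _ hf]
  refine memLocalIdeal_sum fun t _ => ?_
  rw [ClassSum.finsum_conj_div (isIrr_isClassFunction χ.2)]
  exact memLocalIdeal_mul_right (hfI t) (memLocalRing_of_isIntegral
    (CentralScalar.isIntegral_centralChar χ.2 t))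

end Cfsg.Agent.H592.Reduce
end

-- part: H592/Knorr
section
/-!
# Knörr's theorem on defect groups of covering blocks (helper592)

`exists_coeff` : if `B` covers the block `b` of the normal subgroup `N` and `Q` is a defect group
of `b`, then the idempotent of `B` has a unit coefficient at some element of `C_G(Q)`.
`exists_conj_coeff` : if `P` is a `p`-subgroup on whose centralizer the idempotent of `B` has a
unit coefficient, then some conjugate of `b` has a unit coefficient at an element centralizing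
`P ∩ N`.
-/

set_option autoImplicit false
set_option linter.unusedSectionVars false

open Cfsg

namespace Cfsg.Agent.H592.Knorr

open Cfsg.Agent.Characters.Core Cfsg.Agent.Blocks Cfsg.Agent.Blocks.Local
open Cfsg.Agent.Blocks.ConvCentral (conv conv_apply lin lin_def lin_conv isClassFunction_conv)
open Cfsg.Agent.Blocks.Central (ofFun coeff_ofFun ext_coeff coeff_mul_eq_sum mem_center_iff)
open Cfsg.Agent.Blocks.BlockIdem (eq_zero_of_lin isClassFunction_blockCoeff lin_blockCoeff
  conv_blockCoeff_self)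
open Cfsg.Agent.Blocks.Covering (conjIrr conjIrr_apply sameBlock_conjIrr conjIrr_conjIrr
  conjIrr_one conjIrr_at_one)
open Cfsg.Agent.H592.Reduce Cfsg.Agent.H592.KnorrAlg
open scoped ComplexConjugate

variable {G : Type*} [Group G] {p : ℕ} [hp : Fact p.Prime] {M : Ideal AlgInt}

/-- The central characters of `B` vanish modulo `M` off the classes meeting `C(D)`. -/
theorem centralChar_memLocalIdeal [Finite G] (hM : IsPModular p M) {B : Set (IrrCharacter G)}
    (hB : IsPBlock M B) {D : Subgroup G} (hD : IsDefectGroup p M B D) {χ : IrrCharacter G}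
    (hχ : χ ∈ B) (h : G)
    (hh : ∀ c : G, IsConj h c → c ∉ Subgroup.centralizer (D : Set G)) :
    MemLocalIdeal M (centralChar (χ : G → ℂ) h) := by
  by_contra hcon
  obtain ⟨g, hg, S, hS⟩ := hD
  obtain ⟨x, Q', hle⟩ := (Cfsg.Agent.S0911.result p M hM B hB g hg S h).2 ⟨χ, hχ, hcon⟩
  rw [← hS] at hle
  refine hh (x⁻¹ * h * x) (isConj_iff.2 ⟨x⁻¹, by group⟩) ?_
  rw [Subgroup.mem_centralizer_iff]
  intro d hd
  have h1 : x * d * x⁻¹ ∈ Subgroup.centralizer ({h} : Set G) :=
    (Subgroup.map_subtype_le (Q' : Subgroup (Subgroup.centralizer ({h} : Set G))))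
      (hle ⟨d, hd, rfl⟩)
  rw [Subgroup.mem_centralizer_singleton_iff] at h1
  calc d * (x⁻¹ * h * x) = x⁻¹ * ((x * d * x⁻¹) * h) * x := by group
    _ = x⁻¹ * (h * (x * d * x⁻¹)) * x := by rw [h1]
    _ = x⁻¹ * h * x * d := by group

theorem exists_lift [M.IsMaximal] : ∃ σ : ResField M → ℂ, (∀ x, MemLocalRing M (σ x)) ∧
    (∀ x, redC M (σ x) = x) ∧ σ 0 = 0 := by
  classical
  choose a ha using fun x : ResField M => exists_algInt_redC_eq (M := M) x
  refine ⟨fun x => if x = 0 then 0 else (a x : ℂ), fun x => ?_, fun x => ?_, if_pos rfl⟩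
  · change MemLocalRing M (if x = 0 then 0 else (a x : ℂ))
    split_ifs
    · exact memLocalRing_zero
    · exact memLocalRing_algInt _
  · change redC M (if x = 0 then 0 else (a x : ℂ)) = x
    split_ifs with h
    · rw [h, redC_zero]
    · exact ha x

/-- Central elements vanishing on `C(D)` are nilpotent on the block with defect group `D`. -/
theorem isNilpotent_mul_eB [M.IsPrime] [Finite G] (hM : IsPModular p M)
    {B : Set (IrrCharacter G)}
    (hB : IsPBlock M B) {D : Subgroup G} (hD : IsDefectGroup p M B D)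
    {z : MonoidAlgebra (ResField M) G}
    (hz : z ∈ Subalgebra.center (ResField M) (MonoidAlgebra (ResField M) G))
    (hzD : ∀ c ∈ Subgroup.centralizer (D : Set G), z.coeff c = 0) :
    IsNilpotent (z * eB M B) := by
  classical
  have := Fintype.ofFinite G
  have : M.IsMaximal := isMaximal_of_isPModular hM
  obtain ⟨σ, hσR, hσ, hσ0⟩ := exists_lift (M := M)
  let F : G → ℂ := fun g => σ (z.coeff g)
  have hF : IsClassFunction G F := by
    intro g h
    change σ _ = σ _
    rw [mem_center_iff.1 hz g h]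
  have hFR : ∀ g, MemLocalRing M (F g) := fun g => hσR _
  have hFz : rd M F = z := by
    refine ext_coeff fun g => ?_
    rw [coeff_rd]
    exact hσ _
  have heR : ∀ g, MemLocalRing M (blockCoeff B g) :=
    fun g => Cfsg.Agent.S0913.result p M hM B hB g
  have h1 : z * eB M B = rd M (conv F (blockCoeff B)) := by
    rw [rd_conv hFR heR, hFz]
    rfl
  rw [h1]
  refine isNilpotent_rd (isClassFunction_conv hF (isClassFunction_blockCoeff B))
    (memLocalRing_conv hFR heR) fun χ => ?_
  have hχ1 := Basic.irr_one_ne_zero χ.2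
  have h2 := lin_conv χ.2 (f := F) (f' := blockCoeff B) hF
  rw [lin_blockCoeff] at h2
  by_cases hχ : χ ∈ B
  · rw [if_pos hχ] at h2
    have h3 : lin (χ : G → ℂ) (conv F (blockCoeff B)) = lin (χ : G → ℂ) F :=
      mul_right_cancel₀ hχ1 h2
    rw [h3]
    obtain ⟨T, hT⟩ := ClassSum.exists_reps (G := G)
    have h4 : lin (χ : G → ℂ) F / (χ : G → ℂ) 1 =
        ∑ g : G, F g * ((χ : G → ℂ) g / (χ : G → ℂ) 1) := by
      rw [lin_def, Finset.sum_div]
      refine Finset.sum_congr rfl fun g _ => ?_
      ring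
    rw [h4, hT F _ hF]
    refine memLocalIdeal_sum fun t _ => ?_
    rw [ClassSum.finsum_conj_div (isIrr_isClassFunction χ.2)]
    by_cases ht : ∃ c : G, IsConj t c ∧ c ∈ Subgroup.centralizer (D : Set G)
    · obtain ⟨c, hc, hcD⟩ := ht
      have h5 : F t = 0 := by
        rw [classFunction_apply_eq hF hc]
        change σ (z.coeff c) = 0
        rw [hzD c hcD, hσ0]
      rw [h5, zero_mul]
      exact memLocalIdeal_zero
    · push Not at ht
      exact memLocalIdeal_mul_left (hFR t) (centralChar_memLocalIdeal hM hB hD hχ t ht)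
  · rw [if_neg hχ, mul_zero] at h2
    rw [(mul_eq_zero.1 h2).resolve_right hχ1, zero_div]
    exact memLocalIdeal_zero

/-! ### Conjugates of a block of a normal subgroup -/

section Conj

variable (N : Subgroup G) [hN : N.Normal]

/-- The conjugate of a set of characters of `N`. -/
def conjSet (g : G) (b : Set (IrrCharacter N)) : Set (IrrCharacter N) :=
  {θ | conjIrr N g θ ∈ b}

theorem mem_conjSet {g : G} {b : Set (IrrCharacter N)} {θ : IrrCharacter N} :
    θ ∈ conjSet N g b ↔ conjIrr N g θ ∈ b := Iff.rfl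

theorem conjIrr_inv_conjIrr (g : G) (θ : IrrCharacter N) :
    conjIrr N g⁻¹ (conjIrr N g θ) = θ := by
  rw [conjIrr_conjIrr, mul_inv_cancel, conjIrr_one]

theorem conjIrr_conjIrr_inv (g : G) (θ : IrrCharacter N) :
    conjIrr N g (conjIrr N g⁻¹ θ) = θ := by
  rw [conjIrr_conjIrr, inv_mul_cancel, conjIrr_one]

theorem isPBlock_conjSet [M.IsPrime] (g : G) {b : Set (IrrCharacter N)} (hb : IsPBlock M b) :
    IsPBlock M (conjSet N g b) := by
  obtain ⟨θ, rfl⟩ := hb
  refine ⟨conjIrr N g⁻¹ θ, ?_⟩
  ext ψ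
  rw [mem_conjSet, Basic.mem_blockOf, Basic.mem_blockOf]
  constructor
  · intro h
    have h1 := sameBlock_conjIrr (N := N) g⁻¹ h
    rwa [conjIrr_inv_conjIrr] at h1
  · intro h
    have h1 := sameBlock_conjIrr (N := N) g h
    rwa [conjIrr_conjIrr_inv] at h1

theorem blockCoeff_conjSet (g : G) (b : Set (IrrCharacter N)) (n : N) :
    blockCoeff (conjSet N g b) n = blockCoeff b (MulAut.conjNormal g⁻¹ n) := by
  rw [Basic.blockCoeff_def, Basic.blockCoeff_def]
  congr 1
  refine finsum_mem_eq_of_bijOn (conjIrr N g) ⟨fun θ hθ => hθ, ?_, ?_⟩ ?_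
  · intro θ _ ψ _ h
    have := congrArg (conjIrr N g⁻¹) h
    rwa [conjIrr_inv_conjIrr, conjIrr_inv_conjIrr] at this
  · intro θ hθ
    refine ⟨conjIrr N g⁻¹ θ, ?_, conjIrr_conjIrr_inv N g θ⟩
    rw [mem_conjSet, conjIrr_conjIrr_inv]
    exact hθ
  · intro θ _
    rw [conjIrr_at_one, conjIrr_apply]
    congr 3
    rw [← MulAut.mul_apply, ← map_mul, mul_inv_cancel, map_one]
    rfl

theorem charDegree_conjIrr (g : G) (θ : IrrCharacter N) :
    charDegree (conjIrr N g θ : N → ℂ) = charDegree (θ : N → ℂ) := by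
  rw [Basic.charDegree_def, Basic.charDegree_def, conjIrr_at_one]

theorem blockDefect_conjSet (p : ℕ) (g : G) (b : Set (IrrCharacter N)) :
    blockDefect p (conjSet N g b) = blockDefect p b := by
  rw [Basic.blockDefect_def, Basic.blockDefect_def]
  congr 2
  ext m
  constructor
  · rintro ⟨θ, hθ, rfl⟩
    refine ⟨conjIrr N g θ, hθ, ?_⟩
    change (charDegree (conjIrr N g θ : N → ℂ)).factorization p = _
    rw [charDegree_conjIrr]
  · rintro ⟨θ, hθ, rfl⟩
    refine ⟨conjIrr N g⁻¹ θ, ?_, ?_⟩
    · rw [mem_conjSet, conjIrr_conjIrr_inv]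
      exact hθ
    · change (charDegree (conjIrr N g⁻¹ θ : N → ℂ)).factorization p = _
      rw [charDegree_conjIrr]

/-- The set of conjugates of `b`. -/
noncomputable def orb [Fintype G] (b : Set (IrrCharacter N)) : Finset (Set (IrrCharacter N)) :=
  haveI := Classical.decEq (Set (IrrCharacter N))
  Finset.univ.image fun g : G => conjSet N g b

theorem mem_orb [Fintype G] {b b' : Set (IrrCharacter N)} :
    b' ∈ orb N b ↔ ∃ g : G, b' = conjSet N g b := by
  classical
  unfold orb
  rw [Finset.mem_image]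
  constructor
  · rintro ⟨g, -, rfl⟩
    exact ⟨g, rfl⟩
  · rintro ⟨g, rfl⟩
    exact ⟨g, Finset.mem_univ _, rfl⟩

/-- The union of the conjugates of `b`. -/
def orbU [Fintype G] (b : Set (IrrCharacter N)) : Set (IrrCharacter N) :=
  ⋃ b' ∈ (orb N b : Set (Set (IrrCharacter N))), b'

theorem mem_orbU [Fintype G] {b : Set (IrrCharacter N)} {θ : IrrCharacter N} :
    θ ∈ orbU N b ↔ ∃ g : G, conjIrr N g θ ∈ b := by
  unfold orbU
  rw [Set.mem_iUnion₂]
  constructor
  · rintro ⟨b', hb', hθ⟩
    obtain ⟨g, rfl⟩ := (mem_orb N).1 (Finset.mem_coe.1 hb')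
    exact ⟨g, hθ⟩
  · rintro ⟨g, hg⟩
    exact ⟨conjSet N g b, Finset.mem_coe.2 ((mem_orb N).2 ⟨g, rfl⟩), hg⟩

theorem blockCoeff_orbU [Fintype G] [M.IsPrime] {b : Set (IrrCharacter N)} (hb : IsPBlock M b)
    (n : N) : blockCoeff (orbU N b) n = ∑ b' ∈ orb N b, blockCoeff b' n := by
  have hfin : Finite (IrrCharacter N) := finite_irr
  have h1 : ∑ᶠ θ ∈ orbU N b, (θ : N → ℂ) 1 * conj ((θ : N → ℂ) n) =
      ∑ b' ∈ orb N b, ∑ᶠ θ ∈ b', (θ : N → ℂ) 1 * conj ((θ : N → ℂ) n) := by
    unfold orbU
    rw [finsum_mem_biUnion _ (Finset.finite_toSet _) (fun i _ => Set.toFinite i),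
      finsum_mem_coe_finset]
    intro b₁ hb₁ b₂ hb₂ hne
    obtain ⟨g₁, rfl⟩ := (mem_orb N).1 (Finset.mem_coe.1 hb₁)
    obtain ⟨g₂, rfl⟩ := (mem_orb N).1 (Finset.mem_coe.1 hb₂)
    exact Basic.isPBlock_disjoint (isPBlock_conjSet N g₁ hb) (isPBlock_conjSet N g₂ hb) hne
  rw [Basic.blockCoeff_def, h1, Finset.mul_sum]
  refine Finset.sum_congr rfl fun b' _ => ?_
  rw [Basic.blockCoeff_def]

theorem conjSet_orbU [Fintype G] (g : G) (b : Set (IrrCharacter N)) :
    conjSet N g (orbU N b) = orbU N b := by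
  ext θ
  rw [mem_conjSet, mem_orbU, mem_orbU]
  constructor
  · rintro ⟨h, hh⟩
    rw [conjIrr_conjIrr] at hh
    exact ⟨_, hh⟩
  · rintro ⟨h, hh⟩
    refine ⟨g⁻¹ * h, ?_⟩
    rw [conjIrr_conjIrr, mul_inv_cancel_left]
    exact hh

theorem blockCoeff_orbU_conj [Fintype G] (b : Set (IrrCharacter N)) (g : G) (n : N) :
    blockCoeff (orbU N b) (MulAut.conjNormal g n) = blockCoeff (orbU N b) n := by
  have h1 := blockCoeff_conjSet N g⁻¹ (orbU N b) n
  rw [conjSet_orbU, inv_inv] at h1
  exact h1.symm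

theorem isClassFunction_extend [Fintype G] (b : Set (IrrCharacter N)) :
    IsClassFunction G (extendByZero N (blockCoeff (orbU N b))) := by
  intro x g
  by_cases hx : x ∈ N
  · have h1 : g * x * g⁻¹ ∈ N := hN.conj_mem x hx g
    rw [extendByZero_of_mem N _ h1, extendByZero_of_mem N _ hx,
      ← blockCoeff_orbU_conj N b g ⟨x, hx⟩]
    congr 1
  · have h1 : g * x * g⁻¹ ∉ N := by
      intro h
      apply hx
      have h2 := hN.conj_mem _ h g⁻¹
      have h3 : g⁻¹ * (g * x * g⁻¹) * g⁻¹⁻¹ = x := by group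
      rwa [h3] at h2
    rw [extendByZero_of_notMem N _ h1, extendByZero_of_notMem N _ hx]

/-- `e_B e_S = e_B`, `S` the union of the conjugates of a block covered by `B`. -/
theorem conv_extend [Fintype G] [Fintype N] (hM : IsPModular p M) {B : Set (IrrCharacter G)}
    (hB : IsPBlock M B) {b : Set (IrrCharacter N)} (hb : IsPBlock M b)
    (hcov : ∃ χ ∈ B, ∃ θ ∈ b, classInner (fun n : N => (χ : G → ℂ) n) (θ : N → ℂ) ≠ 0) :
    conv (blockCoeff B) (extendByZero N (blockCoeff (orbU N b))) = blockCoeff B := by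
  classical
  have hprime : M.IsPrime := isPrime_of_isPModular hM
  obtain ⟨χ₀, hχ₀, θ₀, hθ₀, hc₀⟩ := hcov
  have hcB := isClassFunction_blockCoeff (G := G) B
  have hcE := isClassFunction_extend N b
  have h : (fun g => conv (blockCoeff B) (extendByZero N (blockCoeff (orbU N b))) g -
      blockCoeff B g) = 0 := by
    refine eq_zero_of_lin (fun g k => ?_) fun ψ => ?_
    · change conv _ _ (k * g * k⁻¹) - blockCoeff B (k * g * k⁻¹) = conv _ _ g - blockCoeff B g
      rw [isClassFunction_conv hcB hcE g k, hcB g k]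
    · have h1 := lin_conv ψ.2 (f := blockCoeff B)
        (f' := extendByZero N (blockCoeff (orbU N b))) hcB
      have hψ1 := Basic.irr_one_ne_zero ψ.2
      have h2 : lin (ψ : G → ℂ) (fun g =>
          conv (blockCoeff B) (extendByZero N (blockCoeff (orbU N b))) g - blockCoeff B g) =
          lin (ψ : G → ℂ) (conv (blockCoeff B) (extendByZero N (blockCoeff (orbU N b)))) -
          lin (ψ : G → ℂ) (blockCoeff B) := by
        rw [lin_def, lin_def, lin_def, ← Finset.sum_sub_distrib]
        refine Finset.sum_congr rfl fun x _ => ?_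
        ring
      rw [h2]
      rw [lin_blockCoeff] at h1 ⊢
      by_cases hψ : ψ ∈ B
      · rw [if_pos hψ] at h1 ⊢
        -- a constituent of the restriction
        obtain ⟨c, hc⟩ : ∃ c : IrrCharacter N,
            classInner (fun n : N => (ψ : G → ℂ) n) (c : N → ℂ) ≠ 0 := by
          by_contra hcon
          push Not at hcon
          have h3 := classFunction_eq_zero (G := N) (f := fun n : N => (ψ : G → ℂ) n)
            (isCharacter_isClassFunction
              (Cfsg.Agent.Characters.Clifford.isCharacter_restrict N (isIrr_isCharacter ψ.2)))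
            (fun c hc => hcon ⟨c, hc⟩)
          exact isIrr_apply_one_ne_zero ψ.2 (congrFun h3 1)
        obtain ⟨g, θ', hθ', hconj⟩ := Cfsg.Agent.S0964.result p M hM N B hB b hb χ₀ hχ₀ θ₀ hθ₀
          hc₀ ψ hψ c hc
        have hcS : c ∈ orbU N b := by
          rw [mem_orbU]
          refine ⟨g⁻¹, ?_⟩
          have h3 : c = conjIrr N g θ' := Subtype.ext (funext fun n => hconj n)
          rw [h3, conjIrr_inv_conjIrr]
          exact hθ'
        have h3 := Over.sum_mul_eq_of_over N ψ.2 c.2 hc (blockCoeff (orbU N b))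
          (blockCoeff_orbU_conj N b)
        have h4 : ∑ n : N, blockCoeff (orbU N b) n * (c : N → ℂ) n = (c : N → ℂ) 1 := by
          have h5 := lin_blockCoeff (orbU N b) c
          rw [if_pos hcS] at h5
          exact h5
        rw [h4, div_self (Basic.irr_one_ne_zero c.2)] at h3
        have h5 : lin (ψ : G → ℂ) (extendByZero N (blockCoeff (orbU N b))) = (ψ : G → ℂ) 1 := by
          have h6 : lin (ψ : G → ℂ) (extendByZero N (blockCoeff (orbU N b))) =
              ∑ n : N, blockCoeff (orbU N b) n * (ψ : G → ℂ) n := by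
            rw [lin_def]
            have h7 : ∀ g : G, extendByZero N (blockCoeff (orbU N b)) g * (ψ : G → ℂ) g =
                if g ∈ N then extendByZero N (blockCoeff (orbU N b)) g * (ψ : G → ℂ) g
                  else 0 := by
              intro g
              split_ifs with hg
              · rfl
              · rw [extendByZero_of_notMem N _ hg, zero_mul]
            rw [Finset.sum_congr rfl fun g _ => h7 g, ← Finset.sum_filter]
            rw [Finset.sum_subtype (Finset.univ.filter (· ∈ N)) (p := fun g => g ∈ N)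
              (by intro x; simp)]
            refine Finset.sum_congr rfl fun n _ => ?_
            rw [extendByZero_of_mem N _ n.2]
          rw [h6]
          exact (div_eq_one_iff_eq hψ1).1 h3
        rw [h5] at h1
        rw [mul_right_cancel₀ hψ1 h1, sub_self]
      · rw [if_neg hψ, zero_mul] at h1
        rw [if_neg hψ, (mul_eq_zero.1 h1).resolve_right hψ1, sub_self]
  funext g
  exact sub_eq_zero.1 (congrFun h g)

theorem inc_rd [Fintype G] [M.IsPrime] (f : N → ℂ) :
    inc N (rd M f) = rd M (extendByZero N f) := by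
  refine ext_coeff fun g => ?_
  rw [coeff_rd]
  by_cases hg : g ∈ N
  · rw [extendByZero_of_mem N f hg]
    exact (coeff_inc N (rd M f) ⟨g, hg⟩).trans (coeff_rd _ _)
  · rw [extendByZero_of_notMem N f hg, coeff_inc_of_notMem N _ hg, redC_zero]

/-- The reduction of `e_B = e_B ∑ e_{b'}`. -/
theorem eB_eq_sum [Fintype G] [Fintype N] [M.IsPrime] (hM : IsPModular p M)
    {B : Set (IrrCharacter G)}
    (hB : IsPBlock M B) {b : Set (IrrCharacter N)} (hb : IsPBlock M b)
    (hcov : ∃ χ ∈ B, ∃ θ ∈ b, classInner (fun n : N => (χ : G → ℂ) n) (θ : N → ℂ) ≠ 0) :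
    eB M B = ∑ b' ∈ orb N b, eB M B * inc N (eB M b') := by
  have hBR : ∀ g, MemLocalRing M (blockCoeff B g) :=
    fun g => Cfsg.Agent.S0913.result p M hM B hB g
  have hbR : ∀ b' ∈ orb N b, ∀ n, MemLocalRing M (blockCoeff b' n) := by
    intro b' hb' n
    obtain ⟨g, rfl⟩ := (mem_orb N).1 hb'
    exact Cfsg.Agent.S0913.result p M hM _ (isPBlock_conjSet N g hb) n
  have hSR : ∀ n, MemLocalRing M (blockCoeff (orbU N b) n) := by
    intro n
    rw [blockCoeff_orbU N hb n]
    exact memLocalRing_sum fun b' hb' => hbR b' hb' n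
  have hER : ∀ g, MemLocalRing M (extendByZero N (blockCoeff (orbU N b)) g) := by
    intro g
    by_cases hg : g ∈ N
    · rw [extendByZero_of_mem N _ hg]
      exact hSR _
    · rw [extendByZero_of_notMem N _ hg]
      exact memLocalRing_zero
  have h1 : eB M B = eB M B * inc N (eB M (orbU N b)) := by
    unfold eB
    rw [inc_rd, ← rd_conv hBR hER, conv_extend N hM hB hb hcov]
  have h2 : eB M (orbU N b) = ∑ b' ∈ orb N b, eB M b' := by
    refine ext_coeff fun n => ?_
    rw [coeff_finsetSum, coeff_eB, blockCoeff_orbU N hb n,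
      redC_sum fun b' hb' => hbR b' hb' n]
    exact Finset.sum_congr rfl fun b' _ => (coeff_eB _ _).symm
  rw [← Finset.mul_sum, ← map_sum, ← h2]
  exact h1

theorem eB_ne_zero [Finite G] [M.IsPrime] (hM : IsPModular p M) {B : Set (IrrCharacter G)}
    (hB : IsPBlock M B) : eB M B ≠ 0 := by
  intro h
  obtain ⟨g, hg⟩ := Cfsg.Agent.S0906.result p M hM B hB
  have h1 : (eB M B).coeff g = 0 := by rw [h]; simp
  rw [coeff_eB, redC_eq_zero_iff hg.1] at h1
  exact hg.2.1 h1

theorem inv_eB [Fintype G] [M.IsPrime] (B : Set (IrrCharacter G)) : Inv N (eB M B) := by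
  intro n _ g
  exact mem_center_iff.1 (eB_mem_center B) g n

theorem inv_inc_eB [Fintype G] [M.IsPrime] (b : Set (IrrCharacter N)) :
    Inv N (inc N (eB M b)) := inv_inc N (eB_mem_center b)

/-- The product with a conjugate of `e_b` is the conjugate of the product. -/
theorem mul_inc_conjSet_eq_zero [Fintype G] [M.IsPrime] (B : Set (IrrCharacter G))
    (b : Set (IrrCharacter N)) (g : G) (h : eB M B * inc N (eB M b) = 0) :
    eB M B * inc N (eB M (conjSet N g b)) = 0 := by
  refine ext_coeff fun x => ?_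
  have h1 : (eB M B * inc N (eB M (conjSet N g b))).coeff x =
      (eB M B * inc N (eB M b)).coeff (g⁻¹ * x * g) := by
    rw [coeff_mul_eq_sum, coeff_mul_eq_sum]
    refine Fintype.sum_equiv (MulAut.conj g⁻¹).toEquiv _ _ fun y => ?_
    have h2 : (eB M B).coeff ((MulAut.conj g⁻¹).toEquiv y) = (eB M B).coeff y :=
      mem_center_iff.1 (eB_mem_center B) y g⁻¹
    have h3 : ((MulAut.conj g⁻¹).toEquiv y)⁻¹ * (g⁻¹ * x * g) = g⁻¹ * (y⁻¹ * x) * g := by
      change (g⁻¹ * y * g⁻¹⁻¹)⁻¹ * (g⁻¹ * x * g) = g⁻¹ * (y⁻¹ * x) * g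
      group
    rw [h2, h3]
    congr 1
    by_cases hy : y⁻¹ * x ∈ N
    · have hy' : g⁻¹ * (y⁻¹ * x) * g ∈ N := by
        have := hN.conj_mem _ hy g⁻¹
        rwa [inv_inv] at this
      have e1 := coeff_inc N (eB M (conjSet N g b)) ⟨_, hy⟩
      have e2 := coeff_inc N (eB M b) ⟨_, hy'⟩
      rw [coeff_eB, blockCoeff_conjSet] at e1
      rw [coeff_eB] at e2
      refine e1.trans (Eq.trans ?_ e2.symm)
      congr 2
      apply Subtype.ext
      rw [MulAut.conjNormal_apply, inv_inv]
    · have hy' : g⁻¹ * (y⁻¹ * x) * g ∉ N := by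
        intro h4
        apply hy
        have := hN.conj_mem _ h4 g
        have h5 : g * (g⁻¹ * (y⁻¹ * x) * g) * g⁻¹ = y⁻¹ * x := by group
        rwa [h5] at this
      rw [coeff_inc_of_notMem N _ hy, coeff_inc_of_notMem N _ hy']
  rw [h1, h]
  simp

theorem eB_mul_inc_ne_zero [Fintype G] [Fintype N] [M.IsPrime] (hM : IsPModular p M)
    {B : Set (IrrCharacter G)}
    (hB : IsPBlock M B) {b : Set (IrrCharacter N)} (hb : IsPBlock M b)
    (hcov : ∃ χ ∈ B, ∃ θ ∈ b, classInner (fun n : N => (χ : G → ℂ) n) (θ : N → ℂ) ≠ 0) :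
    eB M B * inc N (eB M b) ≠ 0 := by
  intro h
  apply eB_ne_zero hM hB
  rw [eB_eq_sum N hM hB hb hcov]
  refine Finset.sum_eq_zero fun b' hb' => ?_
  obtain ⟨g, rfl⟩ := (mem_orb N).1 hb'
  exact mul_inc_conjSet_eq_zero N B b g h

/-- **Knörr, first half.** -/
theorem exists_coeff [Fintype G] [Fintype N] (hM : IsPModular p M)
    {b : Set (IrrCharacter N)} (hb : IsPBlock M b) {Q : Subgroup G} (hQN : Q ≤ N)
    (hQ : IsDefectGroup p M b (Q.subgroupOf N)) {B : Set (IrrCharacter G)} (hB : IsPBlock M B)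
    (hcov : ∃ χ ∈ B, ∃ θ ∈ b, classInner (fun n : N => (χ : G → ℂ) n) (θ : N → ℂ) ≠ 0) :
    ∃ c ∈ Subgroup.centralizer (Q : Set G), ¬ MemLocalIdeal M (blockCoeff B c) := by
  classical
  have hprime : M.IsPrime := isPrime_of_isPModular hM
  have hchar : CharP (ResField M) p := charP_resField hM
  by_contra hcon
  push Not at hcon
  have hBR : ∀ g, MemLocalRing M (blockCoeff B g) :=
    fun g => Cfsg.Agent.S0913.result p M hM B hB g
  have hQp : IsPGroup p Q := by
    have h1 := Defect.isPGroup_of_isDefectGroup hQ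
    exact h1.of_equiv (Subgroup.subgroupOfEquivOfLe hQN)
  have hvan : Van Q (eB M B) := by
    intro c hc
    rw [coeff_eB, redC_eq_zero_iff (hBR c)]
    exact hcon c hc
  have hne := eB_mul_inc_ne_zero N hM hB hb hcov
  apply hne
  let f : Subalgebra.center (ResField M) (MonoidAlgebra (ResField M) N) :=
    ⟨eB M b, eB_mem_center b⟩
  have hfinc : incZ N f = inc N (eB M b) := incZ_apply N f
  have hinvB : Inv N (eB M B) := inv_eB N B
  have hinvb : Inv N (inc N (eB M b)) := inv_inc_eB N b
  have hcomm : inc N (eB M b) * eB M B = eB M B * inc N (eB M b) :=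
    inc_mul_comm N (eB M b) hinvB
  have hbb : inc N (eB M b) * inc N (eB M b) = inc N (eB M b) := by
    rw [← map_mul, eB_mul_self hM hb]
  refine eq_zero_of_van N hQN hQp f (fun z hz => ?_) (hinvB.mul hinvb)
    (Van.mul hQN hQp hinvB hvan hinvb) ?_ ?_
  · have h1 : IsNilpotent ((z : MonoidAlgebra (ResField M) N) * eB M b) := by
      refine isNilpotent_mul_eB hM hb hQ z.2 fun c hc => hz c ?_
      rw [Subgroup.mem_centralizer_iff] at hc ⊢
      intro u hu
      have h2 := hc ⟨u, hQN hu⟩ (Subgroup.mem_subgroupOf.2 hu)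
      exact congrArg Subtype.val h2
    obtain ⟨n, hn⟩ := h1
    refine ⟨n, Subtype.ext ?_⟩
    rw [Subalgebra.coe_pow]
    exact hn
  · calc eB M B * inc N (eB M b) * (eB M B * inc N (eB M b))
        = eB M B * (inc N (eB M b) * eB M B) * inc N (eB M b) := by noncomm_ring
      _ = eB M B * eB M B * (inc N (eB M b) * inc N (eB M b)) := by
          rw [hcomm]; noncomm_ring
      _ = eB M B * inc N (eB M b) := by rw [hbb, eB_mul_self hM hB]
  · rw [hfinc, mul_assoc, hbb]

/-- **Knörr, second half.** -/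
theorem exists_conj_coeff [Fintype G] [Fintype N] (hM : IsPModular p M)
    {b : Set (IrrCharacter N)} (hb : IsPBlock M b) {B : Set (IrrCharacter G)}
    (hB : IsPBlock M B)
    (hcov : ∃ χ ∈ B, ∃ θ ∈ b, classInner (fun n : N => (χ : G → ℂ) n) (θ : N → ℂ) ≠ 0)
    {P : Subgroup G} (hP : IsPGroup p P) {c : G} (hc : c ∈ Subgroup.centralizer (P : Set G))
    (hcB : ¬ MemLocalIdeal M (blockCoeff B c)) :
    ∃ g : G, ∃ n : N, n ∈ Subgroup.centralizer (((P ⊓ N).subgroupOf N : Subgroup N) : Set N) ∧
      ¬ MemLocalIdeal M (blockCoeff (conjSet N g b) n) := by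
  classical
  have hprime : M.IsPrime := isPrime_of_isPModular hM
  have hchar : CharP (ResField M) p := charP_resField hM
  by_contra hcon
  push Not at hcon
  have hBR : ∀ g, MemLocalRing M (blockCoeff B g) :=
    fun g => Cfsg.Agent.S0913.result p M hM B hB g
  have hPN : IsPGroup p (P ⊓ N : Subgroup G) :=
    hP.to_le inf_le_left
  apply hcB
  rw [← redC_eq_zero_iff (hBR c), ← coeff_eB]
  rw [eB_eq_sum N hM hB hb hcov, coeff_finsetSum]
  refine Finset.sum_eq_zero fun b' hb' => ?_
  obtain ⟨g, rfl⟩ := (mem_orb N).1 hb'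
  have hinvB : Inv N (eB M B) := inv_eB N B
  rw [← inc_mul_comm N (eB M (conjSet N g b)) hinvB]
  refine Van.mul (Q := P ⊓ N) (N := N) inf_le_right hPN (inv_inc_eB N _) ?_ hinvB c ?_
  · intro x hx
    by_cases hxN : x ∈ N
    · have h1 := coeff_inc N (eB M (conjSet N g b)) ⟨x, hxN⟩
      refine h1.trans ?_
      rw [coeff_eB, redC_eq_zero_iff
        (Cfsg.Agent.S0913.result p M hM _ (isPBlock_conjSet N g hb) _)]
      refine hcon g ⟨x, hxN⟩ ?_
      rw [Subgroup.mem_centralizer_iff]
      intro u hu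
      apply Subtype.ext
      exact Subgroup.mem_centralizer_iff.1 hx (u : G) (Subgroup.mem_subgroupOf.1 hu)
    · exact coeff_inc_of_notMem N _ hxN
  · rw [Subgroup.mem_centralizer_iff] at hc ⊢
    intro u hu
    exact hc u hu.1

end Conj

end Cfsg.Agent.H592.Knorr
end
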