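import Cfsg.Agent.H955.FSDefs
import Cfsg.Agent.H955.FSAmb
import Cfsg.Agent.H955.FSZero
import Cfsg.Agent.H955.FSDihedral
import Cfsg.Agent.H955.QSpace
import Cfsg.Agent.H955.FSClifford_mg
set_option linter.all false

-- part: H592/FSFourDefs
section
/-!
# Definitions for the stabiliser of a totally singular plane with a form (T4)

* `qW κ QM` on `N × N × M`: `(a, b, m) ↦ polar κ a b + QM m`;
* `muS κ QM μ`: the pairs `(d, h) ∈ O κ × O QM` with `h ∘ μ = μ ∘ d`.
-/

set_option autoImplicit false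

universe u

namespace Cfsg.Agent.H592.FSFour

open Cfsg QuadraticMap
open Cfsg.Agent.LieClassical.OrthCore Cfsg.Agent.H955.FS

variable {F N M : Type u} [Field F] [AddCommGroup N] [Module F N] [AddCommGroup M] [Module F M]

/-- The pairs `(d, h)` with `h ∘ μ = μ ∘ d`. -/
def muS (κ : QuadraticForm F N) (QM : QuadraticForm F M) (μ : N →ₗ[F] M) :
    Subgroup (↥(O κ) × ↥(O QM)) where
  carrier := {p | ∀ x, (p.2 : M ≃ₗ[F] M) (μ x) = μ ((p.1 : N ≃ₗ[F] N) x)}
  one_mem' := fun _ => rfl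
  mul_mem' := by
    intro p q hp hq x
    show (p.2 : M ≃ₗ[F] M) ((q.2 : M ≃ₗ[F] M) (μ x)) = μ ((p.1 : N ≃ₗ[F] N) ((q.1 : N ≃ₗ[F] N) x))
    rw [hq, hp]
  inv_mem' := by
    intro p hp x
    show (p.2 : M ≃ₗ[F] M).symm (μ x) = μ ((p.1 : N ≃ₗ[F] N).symm x)
    rw [LinearEquiv.symm_apply_eq, hp, LinearEquiv.apply_symm_apply]

theorem mem_muS {κ : QuadraticForm F N} {QM : QuadraticForm F M} {μ : N →ₗ[F] M}
    {p : ↥(O κ) × ↥(O QM)} :
    p ∈ muS κ QM μ ↔ ∀ x, (p.2 : M ≃ₗ[F] M) (μ x) = μ ((p.1 : N ≃ₗ[F] N) x) := Iff.rfl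

end Cfsg.Agent.H592.FSFour
end

-- part: H955/FSPlane
section
/-!
# Nondegenerate planes in characteristic two (task 690, for helper955: S4940, S4972, S4973)

* `plane_compl` : the orthogonal group of a nondegenerate plane is generalised dihedral over an abelian group `C` of
  odd order;
* `plane_two_forms` : the same for the intersection of two such groups.
-/

set_option autoImplicit false
set_option linter.unusedSectionVars false

universe u

namespace Cfsg.Agent.H955.FS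

open Cfsg QuadraticMap
open Cfsg.Agent.LieClassical.OrthCore

namespace Plane

variable {F N : Type u} [Field F] [CharP F 2] [AddCommGroup N] [Module F N] {κ : QuadraticForm F N}

theorem polar_self0 (v : N) : polar κ v v = 0 := by
  rw [polar_self', CharTwo.two_eq_zero, zero_mul]

theorem Q_add' (x y : N) : κ (x + y) = κ x + κ y + polar κ x y := Q_add x y

theorem polar_comm' (x y : N) : polar κ x y = polar κ y x := polar_comm _ _ _

/-- expansion in a symplectic basis -/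
theorem expand (hd : Module.finrank F N = 2) [FiniteDimensional F N] {e₁ e₂ : N} (h12 : polar κ e₁ e₂ = 1) (v : N) :
    v = polar κ v e₂ • e₁ + polar κ v e₁ • e₂ := by
  have h21 : polar κ e₂ e₁ = 1 := by rw [polar_comm', h12]
  have hli : LinearIndependent F ![e₁, e₂] := by
    rw [LinearIndependent.pair_iff]
    intro s t h
    constructor
    · have h1 := congrArg (fun x => polar κ x e₂) h
      simpa [polar_add_left, polar_smul_left, h12, CharTwo.two_eq_zero, polar_zero_left] using h1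
    · have h1 := congrArg (fun x => polar κ x e₁) h
      simpa [polar_add_left, polar_smul_left, h21, CharTwo.two_eq_zero, polar_zero_left] using h1
  have hsp : Submodule.span F (Set.range ![e₁, e₂]) = ⊤ :=
    hli.span_eq_top_of_card_eq_finrank (by rw [hd]; rfl)
  have hv : v ∈ Submodule.span F (Set.range ![e₁, e₂]) := hsp ▸ Submodule.mem_top
  rw [Matrix.range_cons, Matrix.range_cons, Matrix.range_empty, Set.union_empty, Set.singleton_union,
    Submodule.mem_span_pair] at hv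
  obtain ⟨a, b, rfl⟩ := hv
  simp [polar_add_left, polar_smul_left, h12, h21, CharTwo.two_eq_zero]

theorem exists_pair (hκ : Nondeg κ) {v : N} (hv : v ≠ 0) : ∃ w, polar κ v w = 1 := hκ.exists_polar_eq hv 1

/-- orthogonal vectors in a plane are proportional -/
theorem prop_of_polar (hκ : Nondeg κ) (hd : Module.finrank F N = 2) [FiniteDimensional F N] {x y : N} (hx : x ≠ 0)
    (h : polar κ x y = 0) : ∃ s : F, y = s • x := by
  obtain ⟨w, hw⟩ := exists_pair hκ hx
  refine ⟨polar κ y w, ?_⟩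
  have h1 := expand hd hw y
  rw [polar_comm' y x, h, zero_smul, add_zero] at h1
  exact h1

theorem exists_ne_zero (hd : Module.finrank F N = 2) : ∃ v : N, v ≠ 0 := by
  have : Nontrivial N := Module.nontrivial_of_finrank_pos (R := F) (by omega)
  exact exists_ne 0

/-- the key lemma on proportional endomorphisms -/
theorem scalar_of (hκ : Nondeg κ) (hd : Module.finrank F N = 2) [FiniteDimensional F N] (g : N ≃ₗ[F] N)
    (D : N →ₗ[F] N) (h : ∀ v, polar κ (g v) (D v) = 0) : ∃ s : F, ∀ v, D v = s • g v := by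
  obtain ⟨v, hv⟩ := exists_ne_zero (F := F) hd
  obtain ⟨w, hw⟩ := exists_pair hκ hv
  have hw0 : w ≠ 0 := by
    rintro rfl
    rw [polar_zero_right] at hw
    exact zero_ne_one hw
  obtain ⟨e₁, rfl⟩ := g.surjective v
  obtain ⟨e₂, rfl⟩ := g.surjective w
  obtain ⟨s, hs⟩ := prop_of_polar hκ hd hv (h e₁)
  obtain ⟨t, ht⟩ := prop_of_polar hκ hd hw0 (h e₂)
  have h1 := h (e₁ + e₂)
  rw [map_add, map_add, polar_add_left, polar_add_right, polar_add_right, h, h, hs, ht, polar_smul_right,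
    polar_smul_right, hw, polar_comm' (g e₂), hw, zero_add, add_zero] at h1
  have hst : s = t := by
    simp only [smul_eq_mul, mul_one] at h1
    rw [CharTwo.add_eq_zero] at h1
    exact h1.symm
  subst hst
  refine ⟨s, fun x => ?_⟩
  have hx := expand hd hw (g x)
  have hx' : x = polar κ (g x) (g e₂) • e₁ + polar κ (g x) (g e₁) • e₂ := by
    apply g.injective
    rw [map_add, map_smul, map_smul]
    exact hx
  rw [hx', map_add, map_smul, map_smul, hs, ht, map_add, map_smul, map_smul]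
  module

/-- the endomorphism with `κ v = f (v, J v)` -/
theorem exists_J (hκ : Nondeg κ) (hd : Module.finrank F N = 2) [FiniteDimensional F N] :
    ∃ J : N →ₗ[F] N, ∀ v, polar κ v (J v) = κ v := by
  obtain ⟨e₁, hv⟩ := exists_ne_zero (F := F) hd
  obtain ⟨e₂, hw⟩ := exists_pair hκ hv
  refine ⟨(polarBilin κ e₂).smulRight (e₁ + κ e₁ • e₂) + (polarBilin κ e₁).smulRight (κ e₂ • e₁), fun v => ?_⟩
  have h1 := expand hd hw v
  have e1 : ((polarBilin κ e₂).smulRight (e₁ + κ e₁ • e₂) + (polarBilin κ e₁).smulRight (κ e₂ • e₁) : N →ₗ[F] N) v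
      = polar κ e₂ v • (e₁ + κ e₁ • e₂) + polar κ e₁ v • (κ e₂ • e₁) := rfl
  rw [e1]
  have e2 : κ v = (polar κ v e₂) ^ 2 * κ e₁ + (polar κ v e₁) ^ 2 * κ e₂ + polar κ v e₂ * polar κ v e₁ := by
    conv_lhs => rw [h1]
    rw [Q_add', QuadraticMap.map_smul, QuadraticMap.map_smul, polar_smul_left, polar_smul_right, hw]
    simp only [smul_eq_mul]
    ring
  rw [e2]
  simp only [polar_add_right, polar_smul_right, smul_eq_mul, polar_comm' e₁ v, polar_comm' e₂ v]
  ring

variable {J : N →ₗ[F] N} (hJ : ∀ v, polar κ v (J v) = κ v)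

include hJ in
theorem J_adj (v w : N) : polar κ v (J w) + polar κ w (J v) = polar κ v w := by
  have h := hJ (v + w)
  rw [map_add, polar_add_left, polar_add_right, polar_add_right, hJ, hJ, Q_add'] at h
  linear_combination h

include hJ in
theorem J_adj' (v w : N) : polar κ (J v) w + polar κ v (J w) = polar κ v w := by
  rw [polar_comm' (J v) w, add_comm]
  exact J_adj hJ v w

include hJ in
theorem J_sq (hκ : Nondeg κ) (hd : Module.finrank F N = 2) [FiniteDimensional F N] :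
    ∃ d : F, ∀ v, J (J v) = J v + d • v := by
  obtain ⟨d, h⟩ := scalar_of hκ hd (LinearEquiv.refl F N) (J ∘ₗ J + J) (fun v => by
    show polar κ v (J (J v) + J v) = 0
    have h1 := J_adj hJ v (J v)
    rw [polar_self0, add_zero] at h1
    rw [polar_add_right, h1]
    exact CharTwo.add_self_eq_zero _)
  refine ⟨d, fun v => ?_⟩
  have h1 : J (J v) + J v = d • v := h v
  rw [← h1, add_comm (J (J v)), ← add_assoc]
  have h2 : J v + J v = 0 := by
    rw [← two_smul F, CharTwo.two_eq_zero, zero_smul]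
  rw [h2, zero_add]

variable (κ J) in
/-- the centraliser of `J` -/
def C : Subgroup (N ≃ₗ[F] N) where
  carrier := {g | g ∈ O κ ∧ ∀ v, J (g v) = g (J v)}
  mul_mem' := fun {a b} ha hb => ⟨mul_mem ha.1 hb.1, fun v => by
    show J (a (b v)) = a (b (J v))
    rw [ha.2, hb.2]⟩
  one_mem' := ⟨one_mem _, fun v => rfl⟩
  inv_mem' := fun {a} ha => ⟨inv_mem ha.1, fun v => by
    show J (a.symm v) = a.symm (J v)
    apply a.injective
    rw [← ha.2, LinearEquiv.apply_symm_apply, LinearEquiv.apply_symm_apply]⟩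

theorem mem_C {g : N ≃ₗ[F] N} : g ∈ C κ J ↔ g ∈ O κ ∧ ∀ v, J (g v) = g (J v) := Iff.rfl

theorem C_le : C κ J ≤ O κ := fun _ h => h.1

theorem two_smul0 {F N : Type u} [Field F] [CharP F 2] [AddCommGroup N] [Module F N] (v : N) : v + v = 0 := by
  rw [← two_smul F, CharTwo.two_eq_zero, zero_smul]

include hJ in
/-- isometries commute with `J` up to `1` -/
theorem comm_or (hκ : Nondeg κ) (hd : Module.finrank F N = 2) [FiniteDimensional F N] {g : N ≃ₗ[F] N} (hg : g ∈ O κ) :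
    (∀ v, J (g v) = g (J v)) ∨ (∀ v, J (g v) = g (J v) + g v) := by
  obtain ⟨s, hs⟩ := scalar_of hκ hd g (J ∘ₗ g.toLinearMap - g.toLinearMap ∘ₗ J) (fun v => by
    show polar κ (g v) (J (g v) - g (J v)) = 0
    rw [polar_sub_right, hJ, mem_O.1 hg, polar_map hg, hJ, sub_self])
  have hs' : ∀ v, J (g v) = g (J v) + s • g v := by
    intro v
    have h1 : J (g v) - g (J v) = s • g v := hs v
    rw [← h1]
    abel
  obtain ⟨d, hdd⟩ := J_sq hJ hκ hd
  obtain ⟨v, hv⟩ := exists_ne_zero (F := F) hd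
  have h1 : J (J (g v)) = g (J (J v)) + (s * s) • g v := by
    rw [hs' v, map_add, map_smul, hs' (J v), hs' v, smul_add, smul_smul]
    have h2 : s • g (J v) + (s • g (J v) + (s * s) • g v) = (s * s) • g v := by
      rw [← add_assoc, two_smul0 (F := F), zero_add]
    rw [add_assoc, h2]
  have h3 : J (J (g v)) = g (J (J v)) + s • g v := by
    rw [hdd, hdd, hs' v, map_add, map_smul]
    abel
  have h4 : (s * s) • g v = s • g v := by
    rw [h1] at h3
    exact add_left_cancel h3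
  have hgv : g v ≠ 0 := by
    intro h
    exact hv ((LinearEquiv.map_eq_zero_iff g).1 h)
  have h5 : s * s = s := by
    by_contra h
    have h6 : (s * s - s) • g v = 0 := by rw [sub_smul, h4, sub_self]
    exact hgv ((smul_eq_zero.1 h6).resolve_left (sub_ne_zero.2 h))
  have h6 : s = 0 ∨ s = 1 := by
    have h7 : s * (s - 1) = 0 := by rw [mul_sub, h5, mul_one, sub_self]
    rcases mul_eq_zero.1 h7 with h | h
    · exact Or.inl h
    · exact Or.inr (sub_eq_zero.1 h)
  rcases h6 with rfl | rfl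
  · left
    intro v
    rw [hs' v, zero_smul, add_zero]
  · right
    intro v
    rw [hs' v, one_smul]

include hJ in
theorem twisted_of_not_mem (hκ : Nondeg κ) (hd : Module.finrank F N = 2) [FiniteDimensional F N] {g : N ≃ₗ[F] N}
    (hg : g ∈ O κ) (hgC : g ∉ C κ J) : ∀ v, J (g v) = g (J v) + g v :=
  (comm_or hJ hκ hd hg).resolve_left fun h => hgC ⟨hg, h⟩

include hJ in
/-- elements outside `C` are involutions -/
theorem sq_of_not_mem (hκ : Nondeg κ) (hd : Module.finrank F N = 2) [FiniteDimensional F N] {g : N ≃ₗ[F] N}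
    (hg : g ∈ O κ) (hgC : g ∉ C κ J) : g * g = 1 := by
  have hgJ := twisted_of_not_mem hJ hκ hd hg hgC
  obtain ⟨e₁, hv⟩ := exists_ne_zero (F := F) hd
  obtain ⟨e₂, hw⟩ := exists_pair hκ hv
  let B : N → N → F := fun v w => polar κ (g v) w + polar κ v (g w)
  have hBs : ∀ v, B v v = 0 := fun v => by
    show polar κ (g v) v + polar κ v (g v) = 0
    rw [polar_comm' (g v) v]
    exact CharTwo.add_self_eq_zero _
  have hBadd : ∀ u v w, B (u + v) w = B u w + B v w := fun u v w => by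
    simp only [B, map_add, polar_add_left]; ring
  have hBadd' : ∀ u v w, B u (v + w) = B u v + B u w := fun u v w => by
    simp only [B, map_add, polar_add_right]; ring
  have hBsm : ∀ (a : F) u v, B (a • u) v = a * B u v := fun a u v => by
    simp only [B, map_smul, polar_smul_left, smul_eq_mul]; ring
  have hBsm' : ∀ (a : F) u v, B u (a • v) = a * B u v := fun a u v => by
    simp only [B, map_smul, polar_smul_right, smul_eq_mul]; ring
  have hBJ : ∀ v w, B (J v) w + B v (J w) = 0 := by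
    intro v w
    have h1 : g (J v) = J (g v) + g v := by
      rw [hgJ v, add_assoc, two_smul0 (F := F), add_zero]
    have h2 : g (J w) = J (g w) + g w := by
      rw [hgJ w, add_assoc, two_smul0 (F := F), add_zero]
    show polar κ (g (J v)) w + polar κ (J v) (g w) + (polar κ (g v) (J w) + polar κ v (g (J w))) = 0
    rw [h1, h2, polar_add_left, polar_add_right]
    have h3 := J_adj' hJ (g v) w
    have h4 := J_adj' hJ v (g w)
    have h5 : (2 : F) = 0 := CharTwo.two_eq_zero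
    linear_combination h3 + h4 + h5 * (polar κ (g v) w + polar κ v (g w))
  have hB12 : B e₁ e₂ = 0 := by
    have h1 := hBJ e₁ e₂
    have h2 : J e₁ = polar κ (J e₁) e₂ • e₁ + polar κ (J e₁) e₁ • e₂ := expand hd hw _
    have h3 : J e₂ = polar κ (J e₂) e₂ • e₁ + polar κ (J e₂) e₁ • e₂ := expand hd hw _
    rw [h2, h3, hBadd, hBadd', hBsm, hBsm, hBsm', hBsm', hBs, hBs, mul_zero, mul_zero, add_zero, zero_add] at h1
    have h4 := J_adj' hJ e₁ e₂
    rw [hw, polar_comm' e₁ (J e₂)] at h4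
    linear_combination h1 - B e₁ e₂ * h4
  have hBsymm : ∀ v w, B v w = B w v := fun v w => by
    show polar κ (g v) w + polar κ v (g w) = polar κ (g w) v + polar κ w (g v)
    rw [polar_comm' (g v) w, polar_comm' v (g w), add_comm]
  have hB : ∀ v w, B v w = 0 := by
    intro v w
    rw [expand hd hw v, expand hd hw w]
    simp only [hBadd, hBadd', hBsm, hBsm', hBs, hB12, hBsymm e₂ e₁, mul_zero, add_zero]
  apply LinearEquiv.ext
  intro v
  show g (g v) = v
  rw [← sub_eq_zero]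
  refine hκ _ fun y => ?_
  obtain ⟨w, rfl⟩ := g.surjective y
  rw [polar_sub_left, polar_map hg]
  have h1 : polar κ (g v) w + polar κ v (g w) = 0 := hB v w
  have h5 : (2 : F) = 0 := CharTwo.two_eq_zero
  linear_combination h1 - h5 * polar κ v (g w)

include hJ in
/-- elements of `C` are fixed point free -/
theorem free (hκ : Nondeg κ) (hd : Module.finrank F N = 2) [FiniteDimensional F N] {a : N ≃ₗ[F] N}
    (ha : a ∈ C κ J) {v : N} (hv : v ≠ 0) (hav : a v = v) : a = 1 := by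
  obtain ⟨w, hw⟩ := exists_pair hκ hv
  have hO := ha.1
  have hx : polar κ v (a w - w) = 0 := by
    have h1 := polar_map hO v w
    rw [hav] at h1
    rw [polar_sub_right, h1, sub_self]
  obtain ⟨φ, hφ⟩ := prop_of_polar hκ hd hv hx
  have haw : a w = w + φ • v := by rw [← hφ]; abel
  have h1 : φ * φ * κ v + φ = 0 := by
    have h2 := mem_O.1 hO w
    rw [haw, Q_add', QuadraticMap.map_smul, polar_smul_right, polar_comm' w v, hw] at h2
    simp only [smul_eq_mul] at h2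
    linear_combination h2
  have h2 : J v = polar κ (J v) w • v + κ v • w := by
    have h3 := expand hd hw (J v)
    rwa [polar_comm' (J v) v, hJ] at h3
  have h3 : (κ v * φ) • v = 0 := by
    have h4 := ha.2 v
    rw [hav] at h4
    have h5 : a (J v) = J v + (κ v * φ) • v := by
      conv_lhs => rw [h2]
      rw [map_add, map_smul, map_smul, hav, haw]
      conv_rhs => rw [h2]
      module
    rw [h5] at h4
    exact (left_eq_add.1 h4)
  have h4 : κ v * φ = 0 := (smul_eq_zero.1 h3).resolve_right hv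
  have h5 : φ = 0 := by linear_combination h1 - φ * h4
  rw [h5, zero_smul, add_zero] at haw
  apply LinearEquiv.ext
  intro x
  rw [expand hd hw x, map_add, map_smul, map_smul, hav, haw]
  rfl

theorem exists_nonsing (hκ : Nondeg κ) (hd : Module.finrank F N = 2) : ∃ v, κ v ≠ 0 := by
  by_contra h
  push Not at h
  obtain ⟨v, hv⟩ := exists_ne_zero (F := F) hd
  exact hv (hκ v fun y => by simp [polar, h])

include hJ in
theorem refl_not_mem (hκ : Nondeg κ) (hd : Module.finrank F N = 2) [FiniteDimensional F N] {v : N} (hv : κ v ≠ 0) :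
    refl κ v hv ∉ C κ J := by
  intro h
  have hv0 : v ≠ 0 := by
    rintro rfl
    exact hv (by simp)
  have h1 : refl κ v hv = 1 := by
    refine free hJ hκ hd h hv0 ?_
    rw [refl_apply, polar_self0, mul_zero, zero_smul, sub_zero]
  obtain ⟨w, hw⟩ := exists_pair hκ hv0
  have h2 := refl_apply hv w
  rw [h1, hw, mul_one] at h2
  have h3 : (κ v)⁻¹ • v = 0 := by
    have h4 : w = w - (κ v)⁻¹ • v := h2
    exact sub_eq_self.1 h4.symm
  exact hv0 ((smul_eq_zero.1 h3).resolve_left (inv_ne_zero hv))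

include hJ in
theorem mul_not_mem (hκ : Nondeg κ) (hd : Module.finrank F N = 2) [FiniteDimensional F N] {g h : N ≃ₗ[F] N}
    (hg : g ∈ O κ) (hh : h ∈ O κ) (hgC : g ∉ C κ J) (hhC : h ∉ C κ J) : g * h ∈ C κ J := by
  refine ⟨mul_mem hg hh, fun v => ?_⟩
  show J (g (h v)) = g (h (J v))
  rw [twisted_of_not_mem hJ hκ hd hg hgC, twisted_of_not_mem hJ hκ hd hh hhC, map_add, add_assoc,
    two_smul0 (F := F), add_zero]

include hJ in
theorem inverts (hκ : Nondeg κ) (hd : Module.finrank F N = 2) [FiniteDimensional F N] {g a : N ≃ₗ[F] N}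
    (hg : g ∈ O κ) (hgC : g ∉ C κ J) (ha : a ∈ C κ J) : g * a * g⁻¹ = a⁻¹ := by
  have h1 := sq_of_not_mem hJ hκ hd hg hgC
  have h2 : g * a ∉ C κ J := fun h => hgC (by
    have := mul_mem h (inv_mem ha)
    rwa [mul_inv_cancel_right] at this)
  have h3 := sq_of_not_mem hJ hκ hd (mul_mem hg ha.1) h2
  have h4 : g⁻¹ = g := inv_eq_of_mul_eq_one_left h1
  rw [h4, eq_inv_iff_mul_eq_one, ← h3]
  group

include hJ in
theorem comm (hκ : Nondeg κ) (hd : Module.finrank F N = 2) [FiniteDimensional F N] {a b : N ≃ₗ[F] N}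
    (ha : a ∈ C κ J) (hb : b ∈ C κ J) : a * b = b * a := by
  obtain ⟨v, hv⟩ := exists_nonsing hκ hd
  have hr := refl_mem_O hv
  have hrC := refl_not_mem hJ hκ hd hv
  have h1 := inverts hJ hκ hd hr hrC ha
  have h2 := inverts hJ hκ hd hr hrC hb
  have h3 := inverts hJ hκ hd hr hrC (mul_mem ha hb)
  have h4 : refl κ v hv * (a * b) * (refl κ v hv)⁻¹ =
      (refl κ v hv * a * (refl κ v hv)⁻¹) * (refl κ v hv * b * (refl κ v hv)⁻¹) := by group
  rw [h3, h1, h2, mul_inv_rev] at h4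
  have h5 := congrArg (fun x => x⁻¹) h4
  simp only [mul_inv_rev, inv_inv] at h5
  exact h5

include hJ in
theorem odd_card (hκ : Nondeg κ) (hd : Module.finrank F N = 2) [FiniteDimensional F N] [Finite F] :
    Odd (Nat.card (C κ J)) := by
  have : Finite N := Module.finite_of_finite F
  have : Finite (N ≃ₗ[F] N) := Finite.of_injective (fun g : N ≃ₗ[F] N => (g : N → N)) DFunLike.coe_injective
  rw [← Nat.not_even_iff_odd]
  intro he
  have : Fact (Nat.Prime 2) := ⟨Nat.prime_two⟩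
  obtain ⟨⟨t, ht⟩, ht2⟩ := exists_prime_orderOf_dvd_card' 2 he.two_dvd
  have h1 : t * t = 1 := by
    have h2 := pow_orderOf_eq_one (⟨t, ht⟩ : C κ J)
    rw [ht2, pow_two] at h2
    exact congrArg Subtype.val h2
  have h3 : t ≠ 1 := by
    rintro rfl
    have : (⟨1, ht⟩ : C κ J) = 1 := rfl
    rw [this, orderOf_one] at ht2
    omega
  obtain ⟨w, hw⟩ : ∃ w, t w ≠ w := by
    by_contra h
    push Not at h
    exact h3 (LinearEquiv.ext h)
  apply h3
  refine free hJ hκ hd ht (v := t w - w) (sub_ne_zero.2 hw) ?_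
  have h4 : t (t w) = w := congrArg (fun f : N ≃ₗ[F] N => f w) h1
  rw [map_sub, h4]
  have h5 := two_smul0 (F := F) (w - t w)
  have h6 : t w - w = -(w - t w) := by abel
  rw [h6]
  exact eq_neg_of_add_eq_zero_left h5

include hJ in
/-- elements of `C` are `α + β J` -/
theorem eq_of_mem (hκ : Nondeg κ) (hd : Module.finrank F N = 2) [FiniteDimensional F N] {c : N ≃ₗ[F] N}
    (hc : c ∈ C κ J) (hc1 : c ≠ 1) : ∃ β : F, β ≠ 0 ∧ ∀ v, polar κ v (c v) = β * κ v := by
  obtain ⟨v, hv⟩ := exists_nonsing hκ hd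
  have hv0 : v ≠ 0 := by
    rintro rfl
    exact hv (by simp)
  -- `v, (κ v)⁻¹ J v` is a symplectic basis
  have h12 : polar κ v ((κ v)⁻¹ • J v) = 1 := by
    rw [polar_smul_right, hJ, smul_eq_mul, inv_mul_cancel₀ hv]
  obtain ⟨α, β, hαβ⟩ : ∃ α β : F, c v = α • v + β • J v := by
    refine ⟨polar κ (c v) ((κ v)⁻¹ • J v), polar κ (c v) v * (κ v)⁻¹, ?_⟩
    have h1 := expand hd h12 (c v)
    rw [smul_smul] at h1
    exact h1
  obtain ⟨d, hdd⟩ := J_sq hJ hκ hd
  have hcJ : c (J v) = α • J v + β • J (J v) := by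
    rw [← hc.2, hαβ, map_add, map_smul, map_smul]
  have hall : ∀ x, c x = α • x + β • J x := by
    intro x
    have h1 := expand hd h12 x
    rw [h1, map_add, map_smul, map_smul, map_smul, hαβ, hcJ, map_add, map_smul, map_smul, map_smul]
    module
  refine ⟨β, ?_, fun x => ?_⟩
  · rintro rfl
    apply hc1
    have hall' : ∀ x, c x = α • x := fun x => by rw [hall x, zero_smul, add_zero]
    have h1 := mem_O.1 hc.1 v
    rw [hall' v, QuadraticMap.map_smul, smul_eq_mul] at h1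
    have h2 : α * α = 1 := by
      have h3 : (α * α - 1) * κ v = 0 := by rw [sub_mul, h1, one_mul, sub_self]
      exact sub_eq_zero.1 ((mul_eq_zero.1 h3).resolve_right hv)
    have h3 : α = 1 := by
      have h4 : (α - 1) * (α - 1) = 0 := by
        have h5 : (2 : F) = 0 := CharTwo.two_eq_zero
        linear_combination h2 + h5 * (1 - α)
      exact sub_eq_zero.1 (mul_self_eq_zero.1 h4)
    apply LinearEquiv.ext
    intro x
    rw [hall' x, h3, one_smul]
    rfl
  · rw [hall x, polar_add_right, polar_smul_right, polar_smul_right, polar_self0, hJ, smul_eq_mul, smul_eq_mul,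
      mul_zero, zero_add]

/-- alternating forms on a plane are proportional -/
theorem polar_prop (hκ : Nondeg κ) (hd : Module.finrank F N = 2) [FiniteDimensional F N] (κ' : QuadraticForm F N) :
    ∃ γ : F, ∀ v w, polar κ' v w = γ * polar κ v w := by
  obtain ⟨e₁, hv⟩ := exists_ne_zero (F := F) hd
  obtain ⟨e₂, hw⟩ := exists_pair hκ hv
  refine ⟨polar κ' e₁ e₂, fun v w => ?_⟩
  have h1 : polar κ' v w = polar κ' (polar κ v e₂ • e₁ + polar κ v e₁ • e₂)
      (polar κ w e₂ • e₁ + polar κ w e₁ • e₂) := by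
    rw [← expand hd hw v, ← expand hd hw w]
  have h2 : polar κ v w = polar κ (polar κ v e₂ • e₁ + polar κ v e₁ • e₂)
      (polar κ w e₂ • e₁ + polar κ w e₁ • e₂) := by
    rw [← expand hd hw v, ← expand hd hw w]
  rw [h1, h2]
  simp only [polar_add_left, polar_add_right, polar_smul_left, polar_smul_right, polar_self0, smul_eq_mul, hw,
    polar_comm' e₂ e₁, mul_zero, zero_add, add_zero, mul_one]
  ring

end Plane

open Plane

theorem plane_compl {F N : Type u} [Field F] [Finite F] [CharP F 2] [AddCommGroup N] [Module F N]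
    [FiniteDimensional F N] (κ : QuadraticForm F N) (hκ : Nondeg κ) (hd : Module.finrank F N = 2) :
    ∃ C : Subgroup (N ≃ₗ[F] N), C ≤ O κ ∧ Odd (Nat.card C) ∧ (∀ g ∈ O κ, g ∉ C → g * g = 1) ∧ (∃ g ∈ O κ, g ∉ C) ∧
      (∀ a ∈ C, ∀ b ∈ C, a * b = b * a) ∧ (∀ g ∈ O κ, g ∉ C → ∀ a ∈ C, g * a * g⁻¹ = a⁻¹) ∧
      (∀ a ∈ C, ∀ v, v ≠ 0 → a v = v → a = 1) ∧ (∀ g ∈ O κ, ∀ h ∈ O κ, g ∉ C → h ∉ C → g * h ∈ C) := by
  obtain ⟨J, hJ⟩ := exists_J hκ hd
  obtain ⟨v, hv⟩ := exists_nonsing hκ hd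
  exact ⟨C κ J, C_le, odd_card hJ hκ hd, fun g hg hgC => sq_of_not_mem hJ hκ hd hg hgC,
    ⟨refl κ v hv, refl_mem_O hv, refl_not_mem hJ hκ hd hv⟩, fun a ha b hb => Plane.comm hJ hκ hd ha hb,
    fun g hg hgC a ha => inverts hJ hκ hd hg hgC ha, fun a ha v hv hav => free hJ hκ hd ha hv hav,
    fun g hg h hh hgC hhC => mul_not_mem hJ hκ hd hg hh hgC hhC⟩

theorem plane_two_forms {F N : Type u} [Field F] [Finite F] [CharP F 2] [AddCommGroup N] [Module F N]
    [FiniteDimensional F N] (κ κ' : QuadraticForm F N) (hκ : Nondeg κ) (hκ' : Nondeg κ')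
    (hd : Module.finrank F N = 2) :
    ∃ C' : Subgroup (N ≃ₗ[F] N), C' ≤ O κ ⊓ O κ' ∧ Odd (Nat.card C') ∧ (∀ g ∈ O κ ⊓ O κ', g ∉ C' → g * g = 1) ∧
      (C' = O κ ⊓ O κ' → C' = ⊥) := by
  obtain ⟨J, hJ⟩ := exists_J hκ hd
  obtain ⟨J', hJ'⟩ := exists_J hκ' hd
  have : Finite N := Module.finite_of_finite F
  have : Finite (N ≃ₗ[F] N) := Finite.of_injective (fun g : N ≃ₗ[F] N => (g : N → N)) DFunLike.coe_injective
  have hodd := odd_card hJ hκ hd
  refine ⟨C κ J ⊓ O κ', inf_le_inf_right _ C_le, ?_, ?_, ?_⟩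
  · exact hodd.of_dvd_nat (Subgroup.card_dvd_of_le inf_le_left)
  · intro g hg hgC
    exact sq_of_not_mem hJ hκ hd hg.1 fun h => hgC ⟨h, hg.2⟩
  · intro heq
    rw [eq_bot_iff]
    intro c hc
    rw [Subgroup.mem_bot]
    by_contra hc1
    -- `c` lies in `C κ' J'`
    have hc' : c ∈ C κ' J' := by
      by_contra h
      have h1 := sq_of_not_mem hJ' hκ' hd hc.2 h
      have h2 : orderOf (⟨c, hc.1⟩ : C κ J) ∣ 2 := orderOf_dvd_of_pow_eq_one (by
        rw [pow_two]
        exact Subtype.ext h1)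
      have h3 : orderOf (⟨c, hc.1⟩ : C κ J) ∣ Nat.card (C κ J) := orderOf_dvd_natCard _
      have h4 : orderOf (⟨c, hc.1⟩ : C κ J) = 1 :=
        Nat.eq_one_of_dvd_coprimes (Nat.coprime_two_left.2 hodd) h2 h3
      exact hc1 (congrArg Subtype.val (orderOf_eq_one_iff.1 h4))
    obtain ⟨β, hβ, h1⟩ := eq_of_mem hJ hκ hd hc.1 hc1
    obtain ⟨β', hβ', h2⟩ := eq_of_mem hJ' hκ' hd hc' hc1
    obtain ⟨γ, h3⟩ := polar_prop hκ hd κ'
    have h4 : ∀ v, κ' v = (β'⁻¹ * (γ * β)) * κ v := by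
      intro v
      have h5 := h2 v
      rw [h3, h1] at h5
      rw [mul_assoc, mul_assoc, h5, inv_mul_cancel_left₀ hβ']
    obtain ⟨v, hv⟩ := exists_nonsing hκ hd
    have h5 : refl κ v hv ∈ O κ ⊓ O κ' := by
      refine ⟨refl_mem_O hv, fun x => ?_⟩
      rw [h4, h4, mem_O.1 (refl_mem_O hv)]
    rw [← heq] at h5
    exact refl_not_mem hJ hκ hd hv h5.1

end Cfsg.Agent.H955.FS
end

-- part: H592/FSModel
section
/-!
# The model `N × N × M` of a quadratic space with a totally singular plane (characteristic two)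

`qW κ QM (a, b, m) = polar κ a b + QM m`; the plane is `N × 0 × 0`.
* `levi`, `zc`, `sg`: elements of the stabiliser; their relations;
* `Act g d h`: `g` acts as `d` on the plane and as `h` on `N^⊥ / N`;
* `exists_dec`: the decomposition of the elements.
-/

set_option autoImplicit false
set_option linter.unusedSectionVars false

universe u

namespace Cfsg.Agent.H592.FSFour

open Cfsg QuadraticMap
open Cfsg.Agent.LieClassical.OrthCore Cfsg.Agent.H955.FS

variable {F N M : Type u} [Field F] [CharP F 2] [AddCommGroup N] [Module F N] [AddCommGroup M]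
  [Module F M]

theorem two_smul_zero {V : Type*} [AddCommGroup V] [Module F V] (v : V) : v + v = 0 := by
  have h : (2 : F) • v = 0 := by
    rw [CharTwo.two_eq_zero, zero_smul]
  rwa [two_smul] at h

/-- The form `(a, b, m) ↦ polar κ a b + QM m`. -/
def qW (κ : QuadraticForm F N) (QM : QuadraticForm F M) : QuadraticForm F (N × N × M) :=
  (LinearMap.BilinMap.toQuadraticMap
    ((polarBilin κ).compl₁₂ (LinearMap.fst F N (N × M))
      (LinearMap.fst F N M ∘ₗ LinearMap.snd F N (N × M)))) +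
  QM.comp (LinearMap.snd F N M ∘ₗ LinearMap.snd F N (N × M))

variable (κ : QuadraticForm F N) (QM : QuadraticForm F M)

theorem qW_apply (v : N × N × M) : qW κ QM v = polar κ v.1 v.2.1 + QM v.2.2 := rfl

theorem polar_self0 (v : N) : polar κ v v = 0 := by
  rw [polar_self', CharTwo.two_eq_zero, zero_mul]

theorem polar_self0M (v : M) : polar QM v v = 0 := by
  rw [polar_self', CharTwo.two_eq_zero, zero_mul]

theorem polar_qW (v w : N × N × M) :
    polar (qW κ QM) v w = polar κ v.1 w.2.1 + polar κ w.1 v.2.1 + polar QM v.2.2 w.2.2 := by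
  have h1 : polar (qW κ QM) v w = qW κ QM (v + w) - qW κ QM v - qW κ QM w := rfl
  rw [h1, qW_apply, qW_apply, qW_apply]
  have h2 : polar QM v.2.2 w.2.2 = QM (v.2.2 + w.2.2) - QM v.2.2 - QM w.2.2 := rfl
  rw [h2]
  simp only [Prod.fst_add, Prod.snd_add, polar_add_left, polar_add_right]
  ring

theorem nondeg_qW (hκ : Nondeg κ) (hQM : Nondeg QM) : Nondeg (qW κ QM) := by
  rintro ⟨a, b, m⟩ h
  have h1 : a = 0 := hκ a fun y => by
    have := h (0, y, 0)
    rw [polar_qW] at this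
    simpa using this
  have h2 : b = 0 := hκ b fun y => by
    have := h (y, 0, 0)
    rw [polar_qW] at this
    simp only [polar_zero_right, add_zero, zero_add] at this
    rwa [polar_comm] at this
  have h3 : m = 0 := hQM m fun y => by
    have := h (0, 0, y)
    rw [polar_qW] at this
    simpa using this
  rw [h1, h2, h3]
  rfl

/-! ### The Levi complement -/

/-- `(a, b, m) ↦ (d a, d b, h m)` -/
def levi : (↥(O κ) × ↥(O QM)) →* ((N × N × M) ≃ₗ[F] (N × N × M)) where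
  toFun p := LinearEquiv.prodCongr (p.1 : N ≃ₗ[F] N)
    (LinearEquiv.prodCongr (p.1 : N ≃ₗ[F] N) (p.2 : M ≃ₗ[F] M))
  map_one' := rfl
  map_mul' _ _ := rfl

theorem levi_apply (p : ↥(O κ) × ↥(O QM)) (v : N × N × M) :
    levi κ QM p v = ((p.1 : N ≃ₗ[F] N) v.1, (p.1 : N ≃ₗ[F] N) v.2.1, (p.2 : M ≃ₗ[F] M) v.2.2) := rfl

theorem levi_mem_O (p : ↥(O κ) × ↥(O QM)) : levi κ QM p ∈ O (qW κ QM) := by
  intro v
  rw [levi_apply, qW_apply, qW_apply]
  simp only
  rw [polar_map p.1.2, p.2.2]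

/-! ### The elements `zc c` -/

/-- `(a, b, m) ↦ (a + c b, b, m)` -/
def zc (c : F) : (N × N × M) ≃ₗ[F] (N × N × M) :=
  LinearEquiv.ofLinearMap
    (LinearMap.id + c • (LinearMap.inl F N (N × M) ∘ₗ LinearMap.fst F N M ∘ₗ LinearMap.snd F N (N × M)))
    (LinearMap.id + c • (LinearMap.inl F N (N × M) ∘ₗ LinearMap.fst F N M ∘ₗ LinearMap.snd F N (N × M)))
    (by
      ext v <;> simp [two_smul_zero (F := F)])
    (by
      ext v <;> simp [two_smul_zero (F := F)])

theorem zc_apply (c : F) (v : N × N × M) : zc (M := M) c v = (v.1 + c • v.2.1, v.2.1, v.2.2) := by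
  show v + c • ((v.2.1, 0) : N × (N × M)) = _
  ext <;> simp

theorem zc_mem_O (c : F) : zc c ∈ O (qW κ QM) := by
  intro v
  rw [zc_apply, qW_apply, qW_apply]
  simp only
  rw [polar_add_left, polar_smul_left, polar_self0, smul_zero, add_zero]

theorem zc_mul (c d : F) : zc (N := N) (M := M) c * zc d = zc (c + d) := by
  ext v : 1
  show zc c (zc d v) = _
  rw [zc_apply, zc_apply, zc_apply]
  simp only [add_smul, Prod.mk.injEq, and_true]
  rw [add_assoc, add_comm (d • v.2.1)]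

theorem zc_zero : zc (N := N) (M := M) (0 : F) = 1 := by
  ext v : 1
  rw [zc_apply, zero_smul, add_zero]
  rfl

theorem zc_mul_self (c : F) : zc (N := N) (M := M) c * zc c = 1 := by
  rw [zc_mul, CharTwo.add_self_eq_zero, zc_zero]

theorem zc_inv (c : F) : (zc (N := N) (M := M) c)⁻¹ = zc c :=
  inv_eq_of_mul_eq_one_left (zc_mul_self c)

theorem levi_zc (p : ↥(O κ) × ↥(O QM)) (c : F) :
    levi κ QM p * zc c * (levi κ QM p)⁻¹ = zc c := by
  rw [mul_inv_eq_iff_eq_mul]
  ext v : 1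
  show levi κ QM p (zc c v) = zc c (levi κ QM p v)
  rw [zc_apply, levi_apply, levi_apply, zc_apply]
  simp

/-! ### The elements `sg n w` -/

/-- `(a, b, m) ↦ (a + f(w,m) n + Q(w) ω(n,b) n, b, m + ω(n,b) w)` -/
def sgLin (n : N) (w : M) : (N × N × M) →ₗ[F] (N × N × M) where
  toFun v := (v.1 + (polar QM w v.2.2 + QM w * polar κ n v.2.1) • n, v.2.1,
    v.2.2 + polar κ n v.2.1 • w)
  map_add' v v' := by
    simp only [Prod.fst_add, Prod.snd_add, polar_add_right, Prod.mk_add_mk, Prod.mk.injEq, true_and]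
    constructor <;> module
  map_smul' c v := by
    simp only [Prod.smul_fst, Prod.smul_snd, polar_smul_right, RingHom.id_apply, Prod.smul_mk,
      Prod.mk.injEq, true_and, smul_eq_mul]
    constructor <;> module

theorem sgLin_apply (n : N) (w : M) (v : N × N × M) :
    sgLin κ QM n w v = (v.1 + (polar QM w v.2.2 + QM w * polar κ n v.2.1) • n, v.2.1,
      v.2.2 + polar κ n v.2.1 • w) := rfl

theorem sgLin_comp (n : N) (w w' : M) (v : N × N × M) :
    sgLin κ QM n w (sgLin κ QM n w' v) = sgLin κ QM n (w + w') v := by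
  simp only [sgLin_apply, Prod.mk.injEq, true_and, polar_add_right, polar_smul_right, Q_add,
    polar_add_left, smul_eq_mul]
  constructor <;> module

theorem sgLin_zero (n : N) (v : N × N × M) : sgLin κ QM n 0 v = v := by
  rw [sgLin_apply]
  simp

/-- `(a, b, m) ↦ (a + f(w,m) n + Q(w) ω(n,b) n, b, m + ω(n,b) w)` -/
def sg (n : N) (w : M) : (N × N × M) ≃ₗ[F] (N × N × M) :=
  LinearEquiv.ofLinearMap (sgLin κ QM n w) (sgLin κ QM n w)
    (LinearMap.ext fun v => by
      rw [LinearMap.comp_apply, sgLin_comp, two_smul_zero (F := F), sgLin_zero]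
      rfl)
    (LinearMap.ext fun v => by
      rw [LinearMap.comp_apply, sgLin_comp, two_smul_zero (F := F), sgLin_zero]
      rfl)

theorem sg_apply (n : N) (w : M) (v : N × N × M) :
    sg κ QM n w v = (v.1 + (polar QM w v.2.2 + QM w * polar κ n v.2.1) • n, v.2.1,
      v.2.2 + polar κ n v.2.1 • w) := rfl

theorem sg_mem_O (n : N) (w : M) : sg κ QM n w ∈ O (qW κ QM) := by
  intro v
  rw [sg_apply, qW_apply, qW_apply]
  simp only
  rw [polar_add_left, polar_smul_left, Q_add, QuadraticMap.map_smul, polar_smul_right,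
    polar_comm QM v.2.2 w]
  simp only [smul_eq_mul]
  have h : polar κ v.1 v.2.1 + (polar QM w v.2.2 + QM w * polar κ n v.2.1) * polar κ n v.2.1 +
      (QM v.2.2 + polar κ n v.2.1 * polar κ n v.2.1 * QM w + polar κ n v.2.1 * polar QM w v.2.2)
      = polar κ v.1 v.2.1 + QM v.2.2 + 2 * (polar κ n v.2.1 * polar QM w v.2.2
        + QM w * polar κ n v.2.1 * polar κ n v.2.1) := by ring
  rw [h, CharTwo.two_eq_zero, zero_mul, add_zero]

theorem sg_mul (n : N) (w w' : M) : sg κ QM n w * sg κ QM n w' = sg κ QM n (w + w') :=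
  LinearEquiv.ext fun v => sgLin_comp κ QM n w w' v

theorem sg_zero (n : N) : sg κ QM n 0 = 1 :=
  LinearEquiv.ext fun v => sgLin_zero κ QM n v

theorem sg_mul_self (n : N) (w : M) : sg κ QM n w * sg κ QM n w = 1 := by
  rw [sg_mul, two_smul_zero (F := F), sg_zero]

theorem sg_inv (n : N) (w : M) : (sg κ QM n w)⁻¹ = sg κ QM n w :=
  inv_eq_of_mul_eq_one_left (sg_mul_self κ QM n w)

theorem sg_smul (c : F) (n : N) (w : M) : sg κ QM (c • n) w = sg κ QM n (c • w) := by
  ext v : 1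
  rw [sg_apply, sg_apply]
  simp only [polar_smul_left, QuadraticMap.map_smul, smul_eq_mul, Prod.mk.injEq, true_and]
  constructor <;> module

theorem levi_sg (p : ↥(O κ) × ↥(O QM)) (n : N) (w : M) :
    levi κ QM p * sg κ QM n w * (levi κ QM p)⁻¹
      = sg κ QM ((p.1 : N ≃ₗ[F] N) n) ((p.2 : M ≃ₗ[F] M) w) := by
  rw [mul_inv_eq_iff_eq_mul]
  ext v : 1
  show levi κ QM p (sg κ QM n w v) = sg κ QM _ _ (levi κ QM p v)
  rw [sg_apply, levi_apply, levi_apply, sg_apply]
  simp only [polar_map p.1.2, polar_map p.2.2, map_add, map_smul]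
  rw [p.2.2]

theorem zc_sg (c : F) (n : N) (w : M) : zc c * sg κ QM n w = sg κ QM n w * zc c := by
  ext v : 1
  show zc c (sg κ QM n w v) = sg κ QM n w (zc c v)
  rw [sg_apply, zc_apply, zc_apply, sg_apply]
  simp only [Prod.mk.injEq, and_true]
  module

/-- The identity in the plane `N`. -/
theorem plane_identity [FiniteDimensional F N] (hκ : Nondeg κ) (hN : Module.finrank F N = 2) (t n b : N) :
    polar κ t b • n + polar κ n b • t = polar κ t n • b := by
  by_cases ht : t = 0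
  · subst ht
    simp
  obtain ⟨u, hu⟩ := hκ.exists_polar_eq ht 1
  have hut : polar κ u t = 1 := by rw [polar_comm]; exact hu
  obtain ⟨x, y, hn⟩ : ∃ x y : F, n = x • t + y • u := ⟨_, _, H955.FS.Plane.expand hN hu n⟩
  obtain ⟨x', y', hb⟩ : ∃ x y : F, b = x • t + y • u := ⟨_, _, H955.FS.Plane.expand hN hu b⟩
  rw [hn, hb]
  simp only [polar_add_right, polar_smul_right, polar_add_left, polar_smul_left, hu, hut,
    polar_self0, smul_eq_mul, mul_zero, mul_one, add_zero, zero_add]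
  have h2 : (2 : F) = 0 := CharTwo.two_eq_zero
  have h3 : y' • (x • t + y • u) + (x' * y + y' * x) • t = y • (x' • t + y' • u)
      + (2 * (x * y')) • t := by module
  rw [h3, h2, zero_mul, zero_smul, add_zero]

/-- The commutator of `sg n w` and `sg t w'`. -/
theorem sg_comm [FiniteDimensional F N] (hκ : Nondeg κ) (hN : Module.finrank F N = 2) (n t : N)
    (w w' : M) : sg κ QM n w * sg κ QM t w' * (sg κ QM n w)⁻¹
      = zc (polar QM w w' * polar κ t n) * sg κ QM t w' := by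
  rw [mul_inv_eq_iff_eq_mul, mul_assoc]
  ext v : 1
  show sg κ QM n w (sg κ QM t w' v) = zc _ (sg κ QM t w' (sg κ QM n w v))
  rw [sg_apply, sg_apply, sg_apply, sg_apply, zc_apply]
  have h := plane_identity κ hκ hN t n v.2.1
  simp only [polar_add_right, polar_smul_right, smul_eq_mul, Prod.mk.injEq, true_and]
  constructor
  · have h4 : (polar QM w w' * polar κ t n) • v.2.1 = (polar QM w w') •
        (polar κ t v.2.1 • n + polar κ n v.2.1 • t) := by
      rw [h, smul_smul]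
    rw [h4, polar_comm QM w' w]
    have h2 : (2 : F) = 0 := CharTwo.two_eq_zero
    have h5 : ∀ X : N, X = X + (2 * (polar κ n v.2.1 * polar QM w w')) • t := by
      intro X
      rw [h2, zero_mul, zero_smul, add_zero]
    rw [h5 (v.1 + _ + _)]
    module
  · module

/-- `sg (n + n') w` -/
theorem sg_add [FiniteDimensional F N] (hκ : Nondeg κ) (hN : Module.finrank F N = 2) (n n' : N)
    (w : M) : sg κ QM (n + n') w = zc (QM w * polar κ n n') * (sg κ QM n w * sg κ QM n' w) := by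
  ext v : 1
  show sg κ QM (n + n') w v = zc _ (sg κ QM n w (sg κ QM n' w v))
  rw [sg_apply, sg_apply, sg_apply, zc_apply]
  have h := plane_identity κ hκ hN n n' v.2.1
  simp only [polar_add_left, polar_add_right, polar_smul_right, polar_self0M, smul_eq_mul,
    mul_zero, Prod.mk.injEq, true_and]
  constructor
  · have h4 : (QM w * polar κ n n') • v.2.1 = (QM w) •
        (polar κ n v.2.1 • n' + polar κ n' v.2.1 • n) := by
      rw [h, smul_smul]
    rw [h4]
    module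
  · module

/-! ### The action on the plane and on `N^⊥ / N` -/

/-- `g` acts as `d` on the plane and as `h` on `N^⊥/N`. -/
def Act (g : (N × N × M) ≃ₗ[F] (N × N × M)) (d : N ≃ₗ[F] N) (h : M ≃ₗ[F] M) : Prop :=
  g ∈ O (qW κ QM) ∧ (∀ a, g (a, 0, 0) = (d a, 0, 0)) ∧ ∀ m, (g (0, 0, m)).2.2 = h m

variable {κ QM}

theorem Act.mid (hκ : Nondeg κ) {g : (N × N × M) ≃ₗ[F] (N × N × M)} {d : N ≃ₗ[F] N}
    (hg : g ∈ O (qW κ QM)) (hga : ∀ a, g (a, 0, 0) = (d a, 0, 0)) (hd : d ∈ O κ)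
    (v : N × N × M) : (g v).2.1 = d v.2.1 := by
  rw [← sub_eq_zero]
  apply hκ
  intro y
  obtain ⟨a, rfl⟩ := d.surjective y
  have h1 := polar_map hg (a, 0, 0) v
  rw [hga, polar_qW, polar_qW] at h1
  simp only [polar_zero_right, polar_zero_left, add_zero] at h1
  rw [polar_sub_left, polar_comm κ (g v).2.1, h1, polar_map hd, polar_comm κ v.2.1, sub_self]

theorem split3 (v : N × N × M) : v = (v.1, 0, 0) + (0, v.2.1, 0) + (0, 0, v.2.2) := by
  ext <;> simp

theorem Act.snd {g : (N × N × M) ≃ₗ[F] (N × N × M)} {d : N ≃ₗ[F] N}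
    {h : M ≃ₗ[F] M} (hg : Act κ QM g d h) (a : N) (m : M) :
    (g (a, 0, m)).2.2 = h m := by
  have h1 : ((a, 0, m) : N × N × M) = (a, 0, 0) + (0, 0, m) := by simp
  rw [h1, map_add, hg.2.1, Prod.snd_add, Prod.snd_add, hg.2.2, zero_add]

theorem Act.one : Act κ QM 1 1 1 := ⟨one_mem _, fun _ => rfl, fun _ => rfl⟩

theorem Act.mul (hκ : Nondeg κ) {g g' : (N × N × M) ≃ₗ[F] (N × N × M)} {d d' : N ≃ₗ[F] N}
    {h h' : M ≃ₗ[F] M} (hd' : d' ∈ O κ) (hg : Act κ QM g d h) (hg' : Act κ QM g' d' h') :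
    Act κ QM (g * g') (d * d') (h * h') := by
  refine ⟨mul_mem hg.1 hg'.1, fun a => ?_, fun m => ?_⟩
  · show g (g' (a, 0, 0)) = _
    rw [hg'.2.1, hg.2.1]
    rfl
  · show (g (g' (0, 0, m))).2.2 = _
    have h1 : g' (0, 0, m) = ((g' (0, 0, m)).1, 0, (g' (0, 0, m)).2.2) := by
      have h2 := Act.mid hκ hg'.1 hg'.2.1 hd' (0, 0, m)
      rw [map_zero] at h2
      exact Prod.ext rfl (Prod.ext h2 rfl)
    rw [h1, Act.snd hg, hg'.2.2]
    rfl

theorem Act.levi (p : ↥(O κ) × ↥(O QM)) : Act κ QM (levi κ QM p) p.1 p.2 := by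
  refine ⟨levi_mem_O κ QM p, fun a => ?_, fun m => ?_⟩
  · rw [levi_apply]
    simp
  · rw [levi_apply]

theorem Act.eq {g : (N × N × M) ≃ₗ[F] (N × N × M)} {d d' : N ≃ₗ[F] N}
    {h h' : M ≃ₗ[F] M} (hg : Act κ QM g d h) (hg' : Act κ QM g d' h') : d = d' ∧ h = h' := by
  constructor
  · ext a
    have h1 := hg.2.1 a
    rw [hg'.2.1 a] at h1
    exact (congrArg Prod.fst h1).symm
  · ext m
    rw [← hg.2.2 m, hg'.2.2 m]

/-- Elements of the stabiliser act on both spaces. -/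
theorem exists_act [FiniteDimensional F M] (hκ : Nondeg κ) (hQM : Nondeg QM)
    {g : (N × N × M) ≃ₗ[F] (N × N × M)} {d : N ≃ₗ[F] N} (hg : g ∈ O (qW κ QM))
    (hga : ∀ a, g (a, 0, 0) = (d a, 0, 0)) (hd : d ∈ O κ) :
    ∃ h ∈ O QM, Act κ QM g d h := by
  let h₀ : M →ₗ[F] M := LinearMap.snd F N M ∘ₗ LinearMap.snd F N (N × M) ∘ₗ g.toLinearMap ∘ₗ
    LinearMap.inr F N (N × M) ∘ₗ LinearMap.inr F N M
  have hh : ∀ m, h₀ m = (g (0, 0, m)).2.2 := fun m => rfl
  have hmid : ∀ m, (g (0, 0, m)).2.1 = 0 := by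
    intro m
    rw [Act.mid hκ hg hga hd]
    exact map_zero d
  have hQ : ∀ m, QM (h₀ m) = QM m := by
    intro m
    have h1 := hg (0, 0, m)
    rw [qW_apply, qW_apply, hmid] at h1
    rw [hh]
    simpa using h1
  have hinj : Function.Injective h₀ := by
    rw [injective_iff_map_eq_zero]
    intro m hm
    apply hQM
    intro y
    have h1 : polar QM (h₀ m) (h₀ y) = polar QM m y := by
      simp only [polar, ← map_add, hQ]
    rw [← h1, hm, polar_zero_left]
  let h : M ≃ₗ[F] M := LinearEquiv.ofInjectiveEndo h₀ hinj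
  have hh' : ∀ m, h m = (g (0, 0, m)).2.2 := fun m => rfl
  exact ⟨h, fun m => hQ m, hg, hga, fun m => (hh' m).symm⟩

/-- The elements acting trivially on the plane `N` and on `N^⊥/N`. -/
def rad (κ : QuadraticForm F N) (QM : QuadraticForm F M) (hκ : Nondeg κ) :
    Subgroup ((N × N × M) ≃ₗ[F] (N × N × M)) where
  carrier := {g | Act κ QM g 1 1}
  one_mem' := Act.one
  mul_mem' := fun {a b} ha hb => by
    have := Act.mul hκ (one_mem _) ha hb
    rwa [one_mul, one_mul] at this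
  inv_mem' := fun {a} ha => by
    have h1 : ∀ b, a⁻¹ (b, 0, 0) = (b, 0, 0) := by
      intro b
      show a.symm (b, 0, 0) = (b, 0, 0)
      rw [LinearEquiv.symm_apply_eq, ha.2.1]
      rfl
    refine ⟨inv_mem ha.1, h1, fun m => ?_⟩
    have h2 : (a⁻¹ (0, 0, m)).2.1 = 0 := by
      have := Act.mid (d := 1) hκ (inv_mem ha.1) h1 (one_mem _) (0, 0, m)
      simpa using this
    have h3 : a⁻¹ (0, 0, m) = ((a⁻¹ (0, 0, m)).1, 0, (a⁻¹ (0, 0, m)).2.2) :=
      Prod.ext rfl (Prod.ext h2 rfl)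
    have h4 := Act.snd ha (a⁻¹ (0, 0, m)).1 (a⁻¹ (0, 0, m)).2.2
    rw [← h3] at h4
    have h5 : a (a⁻¹ (0, 0, m)) = (0, 0, m) := LinearEquiv.apply_symm_apply a _
    rw [h5] at h4
    exact h4.symm

theorem mem_rad {hκ : Nondeg κ} {g : (N × N × M) ≃ₗ[F] (N × N × M)} :
    g ∈ rad κ QM hκ ↔ Act κ QM g 1 1 := Iff.rfl

theorem zc_mem_rad (hκ : Nondeg κ) (c : F) : zc c ∈ rad κ QM hκ := by
  refine ⟨zc_mem_O κ QM c, fun a => ?_, fun m => ?_⟩
  · rw [zc_apply]
    simp
  · rw [zc_apply]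
    simp

theorem sg_mem_rad (hκ : Nondeg κ) (n : N) (w : M) : sg κ QM n w ∈ rad κ QM hκ := by
  refine ⟨sg_mem_O κ QM n w, fun a => ?_, fun m => ?_⟩
  · rw [sg_apply]
    simp
  · rw [sg_apply]
    simp

theorem dec_levi (hκ : Nondeg κ) {g : (N × N × M) ≃ₗ[F] (N × N × M)} {p : ↥(O κ) × ↥(O QM)}
    (hg : Act κ QM g p.1 p.2) : g * (levi κ QM p)⁻¹ ∈ rad κ QM hκ := by
  rw [← map_inv]
  have h1 := Act.mul hκ (p⁻¹).1.2 hg (Act.levi p⁻¹)
  have h2 : (p.1 : N ≃ₗ[F] N) * ((p⁻¹).1 : N ≃ₗ[F] N) = 1 := by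
    have : p.1 * (p⁻¹).1 = 1 := by
      rw [Prod.fst_inv, mul_inv_cancel]
    exact congrArg Subtype.val this
  have h3 : (p.2 : M ≃ₗ[F] M) * ((p⁻¹).2 : M ≃ₗ[F] M) = 1 := by
    have : p.2 * (p⁻¹).2 = 1 := by
      rw [Prod.snd_inv, mul_inv_cancel]
    exact congrArg Subtype.val this
  rw [h2, h3] at h1
  exact h1

/-- The elements of `rad` with trivial `M → N` component. -/
theorem exists_zc [FiniteDimensional F N] (hκ : Nondeg κ) (hQM : Nondeg QM)
    (hN : Module.finrank F N = 2) {g : (N × N × M) ≃ₗ[F] (N × N × M)} (hg : g ∈ rad κ QM hκ)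
    (h0 : ∀ m, (g (0, 0, m)).1 = 0) : ∃ c, g = zc c := by
  have hmid : ∀ v, (g v).2.1 = v.2.1 := fun v => Act.mid (d := 1) hκ hg.1 hg.2.1 (one_mem _) v
  have hm : ∀ m, g (0, 0, m) = (0, 0, m) := by
    intro m
    refine Prod.ext (h0 m) (Prod.ext (hmid _) (hg.2.2 m))
  have hb2 : ∀ b, (g (0, b, 0)).2.2 = 0 := by
    intro b
    apply hQM
    intro y
    have h1 := polar_map hg.1 (0, b, 0) (0, 0, y)
    rw [hm, polar_qW, polar_qW] at h1
    simpa using h1
  have hb1 : ∀ b, polar κ (g (0, b, 0)).1 b = 0 := by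
    intro b
    have h1 := hg.1 (0, b, 0)
    rw [qW_apply, qW_apply, hmid, hb2] at h1
    simpa using h1
  obtain ⟨e₁, he₁⟩ := H955.FS.Plane.exists_ne_zero hN (F := F) (N := N)
  obtain ⟨e₂, he⟩ := hκ.exists_polar_eq he₁ 1
  have he' : polar κ e₂ e₁ = 1 := by rw [polar_comm]; exact he
  let ψ : N →ₗ[F] N := LinearMap.fst F N (N × M) ∘ₗ g.toLinearMap ∘ₗ
    LinearMap.inr F N (N × M) ∘ₗ LinearMap.inl F N M
  have hψ : ∀ b, ψ b = (g (0, b, 0)).1 := fun b => rfl
  have hψ0 : ∀ b, polar κ (ψ b) b = 0 := hb1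
  have hψ1 : ∀ b b', polar κ (ψ b) b' = polar κ (ψ b') b := by
    intro b b'
    have h1 := hψ0 (b + b')
    rw [map_add, polar_add_left, polar_add_right, polar_add_right, hψ0, hψ0, zero_add,
      add_zero] at h1
    rwa [CharTwo.add_eq_zero] at h1
  refine ⟨polar κ (ψ e₁) e₂, ?_⟩
  have key : ∀ b, ψ b = polar κ (ψ e₁) e₂ • b := by
    intro b
    have h1 : ψ e₁ = polar κ (ψ e₁) e₂ • e₁ := by
      conv_lhs => rw [H955.FS.Plane.expand hN he (ψ e₁)]
      rw [hψ0, zero_smul, add_zero]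
    have h2 : ψ e₂ = polar κ (ψ e₁) e₂ • e₂ := by
      conv_lhs => rw [H955.FS.Plane.expand hN he (ψ e₂)]
      rw [hψ0, zero_smul, zero_add, hψ1]
    have h3 := H955.FS.Plane.expand hN he b
    conv_lhs => rw [h3, map_add, map_smul, map_smul, h1, h2]
    conv_rhs => rw [h3]
    module
  ext v : 1
  have h4 : g v = (v.1 + (g (0, v.2.1, 0)).1, v.2.1, v.2.2) := by
    conv_lhs => rw [split3 v, map_add, map_add, hg.2.1, hm]
    refine Prod.ext ?_ (Prod.ext ?_ ?_)
    · simp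
    · simp [hmid]
    · simp [hb2]
  rw [h4, zc_apply, ← hψ, key]

theorem exists_rep [FiniteDimensional F M] (hQM : Nondeg QM) (ℓ : M →ₗ[F] F) :
    ∃ w, ∀ m, polar QM w m = ℓ m := by
  have hB : (polarBilin QM).Nondegenerate := by
    refine ⟨hQM, fun y hy => hQM y fun x => ?_⟩
    rw [polar_comm]
    exact hy x
  refine ⟨(LinearMap.BilinForm.toDual (polarBilin QM) hB).symm ℓ, fun m => ?_⟩
  exact LinearMap.BilinForm.apply_toDual_symm_apply (hB := hB) ℓ m

/-- The decomposition of the elements of `rad`. -/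
theorem exists_dec [FiniteDimensional F N] [FiniteDimensional F M] (hκ : Nondeg κ)
    (hQM : Nondeg QM) (hN : Module.finrank F N = 2) {e₁ e₂ : N} (he : polar κ e₁ e₂ = 1)
    {g : (N × N × M) ≃ₗ[F] (N × N × M)} (hg : g ∈ rad κ QM hκ) :
    ∃ (c : F) (m₁ m₂ : M), g = zc c * (sg κ QM e₁ m₁ * sg κ QM e₂ m₂) := by
  let ℓ₁ : M →ₗ[F] F := (polarBilin κ).flip e₂ ∘ₗ LinearMap.fst F N (N × M) ∘ₗ g.toLinearMap ∘ₗ
    LinearMap.inr F N (N × M) ∘ₗ LinearMap.inr F N M
  let ℓ₂ : M →ₗ[F] F := (polarBilin κ).flip e₁ ∘ₗ LinearMap.fst F N (N × M) ∘ₗ g.toLinearMap ∘ₗ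
    LinearMap.inr F N (N × M) ∘ₗ LinearMap.inr F N M
  have hℓ₁ : ∀ m, ℓ₁ m = polar κ (g (0, 0, m)).1 e₂ := fun m => rfl
  have hℓ₂ : ∀ m, ℓ₂ m = polar κ (g (0, 0, m)).1 e₁ := fun m => rfl
  obtain ⟨m₁, hm₁⟩ := exists_rep hQM ℓ₁
  obtain ⟨m₂, hm₂⟩ := exists_rep hQM ℓ₂
  have h1 : g * (sg κ QM e₁ m₁ * sg κ QM e₂ m₂)⁻¹ ∈ rad κ QM hκ :=
    mul_mem hg (inv_mem (mul_mem (sg_mem_rad hκ _ _) (sg_mem_rad hκ _ _)))
  obtain ⟨c, hc⟩ := exists_zc hκ hQM hN h1 (by
    intro m
    have h2 : (g * (sg κ QM e₁ m₁ * sg κ QM e₂ m₂)⁻¹) (0, 0, m)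
        = g (sg κ QM e₂ m₂ (sg κ QM e₁ m₁ (0, 0, m))) := by
      rw [mul_inv_rev, sg_inv, sg_inv]
      rfl
    have h3 : sg κ QM e₂ m₂ (sg κ QM e₁ m₁ (0, 0, m))
        = ((polar QM m₁ m) • e₁ + (polar QM m₂ m) • e₂, 0, 0) + (0, 0, m) := by
      rw [sg_apply, sg_apply]
      simp
    rw [h2, h3, map_add, hg.2.1, hm₁, hm₂, hℓ₁, hℓ₂]
    show polar κ (g (0, 0, m)).1 e₂ • e₁ + polar κ (g (0, 0, m)).1 e₁ • e₂ + (g (0, 0, m)).1 = 0
    rw [← H955.FS.Plane.expand hN he]
    exact two_smul_zero (F := F) _)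
  refine ⟨c, m₁, m₂, ?_⟩
  rw [← hc, inv_mul_cancel_right]

end Cfsg.Agent.H592.FSFour
end

-- part: H592/FSFourLin
section
/-!
# The characters trivial on the centre of the unipotent radical (T4, first half)
-/

set_option autoImplicit false
set_option linter.unusedSectionVars false

universe u

namespace Cfsg.Agent.H592.FSFour

open Cfsg QuadraticMap
open Cfsg.Agent.LieClassical.OrthCore Cfsg.Agent.H955.FS

variable {F N M : Type u} [Field F] [CharP F 2] [AddCommGroup N] [Module F N] [AddCommGroup M]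
  [Module F M]

/-- The elements `zc c`. -/
def zg (F N M : Type u) [Field F] [CharP F 2] [AddCommGroup N] [Module F N] [AddCommGroup M]
    [Module F M] : Subgroup ((N × N × M) ≃ₗ[F] (N × N × M)) where
  carrier := Set.range (zc (F := F) (N := N) (M := M))
  one_mem' := ⟨0, zc_zero⟩
  mul_mem' := by
    rintro _ _ ⟨a, rfl⟩ ⟨b, rfl⟩
    exact ⟨a + b, (zc_mul a b).symm⟩
  inv_mem' := by
    rintro _ ⟨a, rfl⟩
    exact ⟨a, (zc_inv a).symm⟩

theorem mem_zg {g : (N × N × M) ≃ₗ[F] (N × N × M)} : g ∈ zg F N M ↔ ∃ c, zc c = g := Iff.rfl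

theorem finite_aut (F V : Type u) [Field F] [Finite F] [AddCommGroup V] [Module F V]
    [FiniteDimensional F V] : Finite (V ≃ₗ[F] V) := by
  have : Finite V := Module.finite_of_finite F
  exact Finite.of_injective (fun g : V ≃ₗ[F] V => (g : V → V)) DFunLike.coe_injective

/-- The stabiliser of the plane with its form, in the model. -/
abbrev XK (κ : QuadraticForm F N) (QM : QuadraticForm F M) :
    Subgroup ((N × N × M) ≃ₗ[F] (N × N × M)) :=
  planeK (qW κ QM) κ (LinearMap.inl F N (N × M))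

variable {κ : QuadraticForm F N} {QM : QuadraticForm F M}

theorem mem_XK {g : (N × N × M) ≃ₗ[F] (N × N × M)} : g ∈ XK κ QM ↔
    g ∈ O (qW κ QM) ∧ ∃ d ∈ O κ, ∀ a, g (a, 0, 0) = (d a, 0, 0) := Iff.rfl

theorem XK_exists_act [FiniteDimensional F M] (hκ : Nondeg κ) (hQM : Nondeg QM)
    {g : (N × N × M) ≃ₗ[F] (N × N × M)} (hg : g ∈ XK κ QM) :
    ∃ p : ↥(O κ) × ↥(O QM), Act κ QM g p.1 p.2 := by
  obtain ⟨hgO, d, hd, hda⟩ := hg
  obtain ⟨h, hh, hact⟩ := exists_act hκ hQM hgO hda hd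
  exact ⟨(⟨d, hd⟩, ⟨h, hh⟩), hact⟩

theorem rad_le_XK (hκ : Nondeg κ) : rad κ QM hκ ≤ XK κ QM := fun _ hg =>
  ⟨hg.1, 1, one_mem _, hg.2.1⟩

theorem levi_mem_XK (p : ↥(O κ) × ↥(O QM)) : levi κ QM p ∈ XK κ QM :=
  ⟨levi_mem_O κ QM p, p.1, p.1.2, (Act.levi p).2.1⟩

theorem zc_mem_XK (hκ : Nondeg κ) (c : F) : zc c ∈ XK κ QM := rad_le_XK hκ (zc_mem_rad hκ c)

theorem Act.inv [FiniteDimensional F M] (hκ : Nondeg κ) (hQM : Nondeg QM)
    {g : (N × N × M) ≃ₗ[F] (N × N × M)} {p : ↥(O κ) × ↥(O QM)} (hg : Act κ QM g p.1 p.2) :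
    Act κ QM g⁻¹ (p⁻¹).1 (p⁻¹).2 := by
  have h1 : g⁻¹ ∈ XK κ QM := inv_mem ⟨hg.1, p.1, p.1.2, hg.2.1⟩
  obtain ⟨q, hq⟩ := XK_exists_act hκ hQM h1
  have h2 := Act.mul hκ q.1.2 hg hq
  rw [mul_inv_cancel] at h2
  obtain ⟨h3, h4⟩ := Act.eq h2 Act.one
  have h5 : p * q = 1 := by
    refine Prod.ext (Subtype.ext ?_) (Subtype.ext ?_)
    · exact h3
    · exact h4
  have h6 : q = p⁻¹ := (inv_eq_of_mul_eq_one_right h5).symm
  rw [← h6]
  exact hq

theorem conj_mem_rad [FiniteDimensional F M] (hκ : Nondeg κ) (hQM : Nondeg QM)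
    {g r : (N × N × M) ≃ₗ[F] (N × N × M)} (hg : g ∈ XK κ QM) (hr : r ∈ rad κ QM hκ) :
    g * r * g⁻¹ ∈ rad κ QM hκ := by
  obtain ⟨p, hp⟩ := XK_exists_act hκ hQM hg
  have h1 := Act.mul hκ (p⁻¹).1.2 (Act.mul hκ (one_mem _) hp hr) (Act.inv hκ hQM hp)
  have h2 : (p.1 : N ≃ₗ[F] N) * 1 * ((p⁻¹).1 : N ≃ₗ[F] N) = 1 := by
    have : p.1 * (p⁻¹).1 = 1 := by
      rw [Prod.fst_inv, mul_inv_cancel]
    rw [mul_one]
    exact congrArg Subtype.val this
  have h3 : (p.2 : M ≃ₗ[F] M) * 1 * ((p⁻¹).2 : M ≃ₗ[F] M) = 1 := by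
    have : p.2 * (p⁻¹).2 = 1 := by
      rw [Prod.snd_inv, mul_inv_cancel]
    rw [mul_one]
    exact congrArg Subtype.val this
  rw [h2, h3] at h1
  exact h1

/-- `zc c` is centralised by the stabiliser. -/
theorem XK_zc (hκ : Nondeg κ) {g : (N × N × M) ≃ₗ[F] (N × N × M)} (hg : g ∈ XK κ QM) (c : F) :
    g * zc c = zc c * g := by
  obtain ⟨hgO, d, hd, hda⟩ := mem_XK.1 hg
  ext v : 1
  show g (zc c v) = zc c (g v)
  rw [zc_apply, zc_apply, Act.mid hκ hgO hda hd]
  have h1 : ((v.1 + c • v.2.1, v.2.1, v.2.2) : N × N × M) = v + c • (v.2.1, 0, 0) := by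
    ext <;> simp
  rw [h1, map_add, map_smul, hda]
  refine Prod.ext ?_ (Prod.ext ?_ ?_)
  · simp
  · simp [Act.mid hκ hgO hda hd]
  · simp

theorem sq_mem_zg [FiniteDimensional F N] (hκ : Nondeg κ) (hQM : Nondeg QM)
    (hN : Module.finrank F N = 2) {g : (N × N × M) ≃ₗ[F] (N × N × M)} (hg : g ∈ rad κ QM hκ) :
    g * g ∈ zg F N M := by
  obtain ⟨c, hc⟩ := exists_zc hκ hQM hN (mul_mem hg hg) (by
    intro m
    have h1 : g (0, 0, m) = ((g (0, 0, m)).1, 0, 0) + (0, 0, m) := by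
      refine Prod.ext ?_ (Prod.ext ?_ ?_)
      · simp
      · have := Act.mid (d := 1) hκ hg.1 hg.2.1 (one_mem _) (0, 0, m)
        simpa using this
      · have := hg.2.2 m
        simpa using this
    show (g (g (0, 0, m))).1 = 0
    rw [h1, map_add, hg.2.1, Prod.fst_add]
    exact two_smul_zero (F := F) _)
  exact ⟨c, hc.symm⟩

/-- The linear map attached to a linear character of the unipotent radical. -/
theorem exists_mu [Finite F] [FiniteDimensional F N] [FiniteDimensional F M] (hκ : Nondeg κ)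
    (hQM : Nondeg QM) (hN : Module.finrank F N = 2) {ψ : AddChar F ℂ} (hψ : ∃ a, ψ a ≠ 1)
    (lam : ((N × N × M) ≃ₗ[F] (N × N × M)) → ℂ)
    (hlam : ∀ a ∈ rad κ QM hκ, ∀ b ∈ rad κ QM hκ, lam (a * b) = lam a * lam b)
    (hz : ∀ c, lam (zc c) = 1) :
    ∃ μ : N →ₗ[F] M, ∀ n w, lam (sg κ QM n w) = ψ (polar QM (μ n) w) := by
  have h1 : lam 1 = 1 := by rw [← zc_zero (F := F) (N := N) (M := M)]; exact hz 0
  have hex : ∀ n : N, ∃ m : M, ∀ w, lam (sg κ QM n w) = ψ (polar QM m w) := by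
    intro n
    exact exists_dual hQM hψ
      { toFun := fun w => lam (sg κ QM n w)
        map_zero_eq_one' := by rw [sg_zero, h1]
        map_add_eq_mul' := fun w w' => by
          rw [← sg_mul, hlam _ (sg_mem_rad hκ _ _) _ (sg_mem_rad hκ _ _)] }
  choose μ₀ hμ₀ using hex
  have huniq : ∀ a b : M, (∀ w, ψ (polar QM a w) = ψ (polar QM b w)) → a = b := by
    intro a b hab
    apply polChar_injective hQM hψ
    ext w
    exact hab w
  refine ⟨⟨⟨μ₀, ?_⟩, ?_⟩, hμ₀⟩
  · intro n n'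
    apply huniq
    intro w
    rw [← hμ₀, sg_add κ QM hκ hN, hlam _ (zc_mem_rad hκ _) _ (mul_mem (sg_mem_rad hκ _ _)
      (sg_mem_rad hκ _ _)), hz, one_mul, hlam _ (sg_mem_rad hκ _ _) _ (sg_mem_rad hκ _ _), hμ₀,
      hμ₀, polar_add_left, AddChar.map_add_eq_mul]
  · intro c n
    apply huniq
    intro w
    show ψ (polar QM (μ₀ (c • n)) w) = ψ (polar QM (c • μ₀ n) w)
    rw [← hμ₀, sg_smul, hμ₀, polar_smul_left, polar_smul_right]

/-- **The characters of the stabiliser which are trivial on the centre of the unipotent radical.** -/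
theorem lin_case [Finite F] [FiniteDimensional F N] [FiniteDimensional F M] (hκ : Nondeg κ)
    (hQM : Nondeg QM) (hN : Module.finrank F N = 2) {w : Prop}
    (hμ : ∀ μ : N →ₗ[F] M, FSGood w (muS κ QM μ)) {χ : XK κ QM → ℂ}
    (hχ : IsIrrCharacter (XK κ QM) χ)
    (hker : ∀ c : F, χ ⟨zc c, zc_mem_XK hκ c⟩ = χ 1) : fsi χ = 1 ∨ (w ∧ fsi χ = 0) := by
  classical
  have hfin := finite_aut F (N × N × M)
  have hfN := finite_aut F N
  have hfM := finite_aut F M
  set R := rad κ QM hκ with hR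
  have hRX : R ≤ XK κ QM := rad_le_XK hκ
  obtain ⟨lam, hl1, hl2, hl3, hl4⟩ := exists_linear (R.subgroupOf (XK κ QM))
    ((zg F N M).subgroupOf (XK κ QM)) (by
      intro x hx
      rw [Subgroup.mem_subgroupOf] at hx ⊢
      obtain ⟨c, hc⟩ := hx
      rw [← hc]
      exact zc_mem_rad hκ c) (by
      intro a ha
      rw [Subgroup.mem_subgroupOf] at ha ⊢
      exact sq_mem_zg hκ hQM hN ha) hχ (by
      intro z hz
      rw [Subgroup.mem_subgroupOf] at hz
      obtain ⟨c, hc⟩ := hz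
      have : z = ⟨zc c, zc_mem_XK hκ c⟩ := Subtype.ext hc.symm
      rw [this]
      exact hker c)
  let lam' : ((N × N × M) ≃ₗ[F] (N × N × M)) → ℂ := fun g =>
    if h : ∃ hg : g ∈ XK κ QM, (⟨g, hg⟩ : XK κ QM) ∈ R.subgroupOf (XK κ QM) then
    lam ⟨⟨g, h.1⟩, h.2⟩ else 0
  have hl : ∀ (a : R.subgroupOf (XK κ QM)), lam' ((a : XK κ QM) : _) = lam a := by
    intro a
    simp only [lam']
    rw [dif_pos ⟨a.1.2, a.2⟩]
  have hl' : ∀ (a) (ha : a ∈ R), lam' a
      = lam ⟨⟨a, hRX ha⟩, Subgroup.mem_subgroupOf.2 ha⟩ := fun a ha =>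
    hl ⟨⟨a, hRX ha⟩, Subgroup.mem_subgroupOf.2 ha⟩
  have hm : ∀ a ∈ R, ∀ b ∈ R, lam' (a * b) = lam' a * lam' b := by
    intro a ha b hb
    rw [hl' _ (mul_mem ha hb), hl' _ ha, hl' _ hb, ← hl1]
    rfl
  have hp : ∀ a ∈ R, lam' a = 1 ∨ lam' a = -1 := by
    intro a ha
    rw [hl' _ ha]
    exact hl2 _
  have hz : ∀ c, lam' (zc c) = 1 := by
    intro c
    rw [hl' _ (zc_mem_rad hκ c)]
    apply hl3
    exact ⟨c, rfl⟩
  obtain ⟨ψ, hψ⟩ := exists_psi F
  obtain ⟨μ, hμψ⟩ := exists_mu hκ hQM hN hψ lam' hm hz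
  obtain ⟨e₁, he₁⟩ := H955.FS.Plane.exists_ne_zero hN (F := F) (N := N)
  obtain ⟨e₂, he⟩ := hκ.exists_polar_eq he₁ 1
  refine clifford_amb (XK κ QM) R hRX (fun x hx a ha => conj_mem_rad hκ hQM hx ha)
    (levi κ QM) levi_mem_XK ?_ ?_ lam' hm hp (muS κ QM μ) ?_ (hμ μ) hχ ?_
  · intro y hy
    obtain ⟨h1, h2⟩ := Act.eq (Act.levi y) hy
    exact Prod.ext (Subtype.ext h1) (Subtype.ext h2)
  · intro x hx
    obtain ⟨p, hp⟩ := XK_exists_act hκ hQM hx
    exact ⟨_, dec_levi hκ hp, p, (inv_mul_cancel_right x _).symm⟩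
  · intro y
    rw [mem_muS]
    constructor
    · intro hy a ha
      obtain ⟨c, m₁, m₂, rfl⟩ := exists_dec hκ hQM hN he ha
      have h1 : levi κ QM y * (zc c * (sg κ QM e₁ m₁ * sg κ QM e₂ m₂)) * (levi κ QM y)⁻¹
          = (levi κ QM y * zc c * (levi κ QM y)⁻¹) *
            ((levi κ QM y * sg κ QM e₁ m₁ * (levi κ QM y)⁻¹) *
            (levi κ QM y * sg κ QM e₂ m₂ * (levi κ QM y)⁻¹)) := by group
      rw [h1, levi_zc, levi_sg, levi_sg]
      rw [hm _ (zc_mem_rad hκ _) _ (mul_mem (sg_mem_rad hκ _ _) (sg_mem_rad hκ _ _)),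
        hm _ (sg_mem_rad hκ _ _) _ (sg_mem_rad hκ _ _),
        hm _ (zc_mem_rad hκ _) _ (mul_mem (sg_mem_rad hκ _ _) (sg_mem_rad hκ _ _)),
        hm _ (sg_mem_rad hκ _ _) _ (sg_mem_rad hκ _ _), hμψ, hμψ, hμψ, hμψ, ← hy, ← hy,
        polar_map y.2.2, polar_map y.2.2]
    · intro h x
      have h1 : ∀ w, ψ (polar QM (μ ((y.1 : N ≃ₗ[F] N) x)) ((y.2 : M ≃ₗ[F] M) w))
          = ψ (polar QM (μ x) w) := by
        intro w
        rw [← hμψ, ← hμψ, ← levi_sg]
        exact h _ (sg_mem_rad hκ _ _)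
      have h2 := polar_eq_of_psi QM hψ ((y.2 : M ≃ₗ[F] M) : M →ₗ[F] M) h1
      rw [← sub_eq_zero]
      apply hQM
      intro z
      obtain ⟨w, rfl⟩ := (y.2 : M ≃ₗ[F] M).surjective z
      rw [polar_sub_left, polar_map y.2.2]
      have h3 := h2 w
      rw [LinearEquiv.coe_coe] at h3
      rw [h3, sub_self]
  · intro h
    apply hl4
    rw [← h]
    let e : R.subgroupOf (XK κ QM) ≃ R := (Subgroup.subgroupOfEquivOfLe hRX).toEquiv
    refine finsum_eq_of_bijective e e.bijective (fun a => ?_)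
    rw [← hl a]
    rfl

end Cfsg.Agent.H592.FSFour
end

-- part: H592/FSFourDih
section
/-!
# The characters which are not trivial on the centre of the unipotent radical (T4, second half)
-/

set_option autoImplicit false
set_option linter.unusedSectionVars false

universe u

namespace Cfsg.Agent.H592.FSFour

open Cfsg QuadraticMap
open Cfsg.Agent.LieClassical.OrthCore Cfsg.Agent.H955.FS
open Cfsg.Agent.Characters.Core
open scoped ComplexConjugate

theorem good_of_sq {G : Type u} [Group G] [Finite G] (h : ∀ x : G, x * x = 1) :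
    FSGood False G := by
  refine FSGood.of_isConj_inv (FSGood.mono (fun _ => trivial) (fsGood_of_compl (⊥ : Subgroup G) ?_
    fun x _ => h x)) ?_
  · rw [Subgroup.card_bot]
    exact odd_one
  · intro g
    rw [inv_eq_of_mul_eq_one_left (h g)]

/-- Irreducible characters over `lam` are determined by their restrictions to the inertia group. -/
theorem eq_of_restrict {G : Type u} [Group G] [Finite G] (A T : Subgroup G) [hA : A.Normal]
    (hAT : A ≤ T) (lam : A → ℂ) (hlam : ∀ a b : A, lam (a * b) = lam a * lam b)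
    (hpm : ∀ a, lam a = 1 ∨ lam a = -1)
    (hT : ∀ g : G, g ∈ T ↔ ∀ a : A, lam ⟨g * a * g⁻¹, hA.conj_mem a a.2 g⟩ = lam a)
    {χ χ' : G → ℂ} (hχ : IsIrrCharacter G χ) (hχ' : IsIrrCharacter G χ')
    (hover : ∑ᶠ a : A, χ a * lam a ≠ 0) (heq : ∀ t ∈ T, χ t = χ' t) : χ = χ' := by
  classical
  have := Fintype.ofFinite G
  have := Fintype.ofFinite A
  have := Fintype.ofFinite T
  have hlamI : IsIrrCharacter A lam := isIrr_sign lam hlam hpm
  have hconj : ∀ a, conj (lam a) = lam a := by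
    intro a
    rcases hpm a with h | h <;> rw [h] <;> simp
  have hcon : classInner (fun n : A => χ n) lam ≠ 0 := by
    rw [finsum_eq_sum_of_fintype] at hover
    rw [classInner_def]
    refine mul_ne_zero (inv_ne_zero card_ne_zero_complex) ?_
    simp_rw [hconj]
    exact hover
  obtain ⟨ψ, hψ, hind, hcc⟩ := Cfsg.Agent.S0854.result A lam hlamI T hT hAT χ hχ hcon
  have h1 := CharactersDeep.NormalInd.classInner_indFun T ψ χ (isIrr_isClassFunction hχ)
  have h2 := CharactersDeep.NormalInd.classInner_indFun T ψ χ' (isIrr_isClassFunction hχ')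
  have h3 : (fun h : T => χ h) = fun h : T => χ' h := funext fun h => heq h h.2
  rw [h3, ← h2, hind, classInner_irr_self hχ] at h1
  by_contra hne
  rw [classInner_irr_ne hχ hχ' hne] at h1
  exact one_ne_zero h1

variable {F N M : Type u} [Field F] [CharP F 2] [AddCommGroup N] [Module F N] [AddCommGroup M]
  [Module F M]

/-- The elements of the stabiliser of the plane acting on it through `D`. -/
def XD (κ : QuadraticForm F N) (QM : QuadraticForm F M) (D : Subgroup (N ≃ₗ[F] N)) :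
    Subgroup ((N × N × M) ≃ₗ[F] (N × N × M)) where
  carrier := {g | g ∈ O (qW κ QM) ∧ ∃ d ∈ O κ ⊓ D, ∀ a, g (a, 0, 0) = (d a, 0, 0)}
  one_mem' := ⟨one_mem _, 1, one_mem _, fun _ => rfl⟩
  mul_mem' := by
    rintro a b ⟨ha, d, hd, hda⟩ ⟨hb, e, he, heb⟩
    refine ⟨mul_mem ha hb, d * e, mul_mem hd he, fun x => ?_⟩
    show a (b (x, 0, 0)) = _
    rw [heb, hda]
    rfl
  inv_mem' := by
    rintro a ⟨ha, d, hd, hda⟩
    refine ⟨inv_mem ha, d⁻¹, inv_mem hd, fun x => ?_⟩
    show a.symm (x, 0, 0) = (d.symm x, 0, 0)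
    rw [LinearEquiv.symm_apply_eq, hda, LinearEquiv.apply_symm_apply]

variable {κ : QuadraticForm F N} {QM : QuadraticForm F M}

theorem mem_XD {D : Subgroup (N ≃ₗ[F] N)} {g : (N × N × M) ≃ₗ[F] (N × N × M)} :
    g ∈ XD κ QM D ↔ g ∈ O (qW κ QM) ∧ ∃ d ∈ O κ ⊓ D, ∀ a, g (a, 0, 0) = (d a, 0, 0) := Iff.rfl

theorem XD_le {D : Subgroup (N ≃ₗ[F] N)} : XD κ QM D ≤ XK κ QM := by
  rintro g ⟨h1, d, hd, hda⟩
  exact ⟨h1, d, hd.1, hda⟩

theorem rad_le_XD (hκ : Nondeg κ) (D : Subgroup (N ≃ₗ[F] N)) : rad κ QM hκ ≤ XD κ QM D :=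
  fun _ hg => ⟨hg.1, 1, one_mem _, hg.2.1⟩

/-- The pair in the full Levi group. -/
def toPair {D : Subgroup (N ≃ₗ[F] N)} (p : ↥(O κ ⊓ D) × ↥(O QM)) : ↥(O κ) × ↥(O QM) :=
  (⟨(p.1 : N ≃ₗ[F] N), (Subgroup.mem_inf.1 p.1.2).1⟩, p.2)

/-- The Levi complement of `XD`. -/
def leviD (κ : QuadraticForm F N) (QM : QuadraticForm F M) (D : Subgroup (N ≃ₗ[F] N)) :
    (↥(O κ ⊓ D) × ↥(O QM)) →* ↥(XD κ QM D) where
  toFun p := ⟨levi κ QM (toPair p), levi_mem_O κ QM _, p.1, p.1.2, (Act.levi (toPair p)).2.1⟩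
  map_one' := rfl
  map_mul' _ _ := rfl

theorem leviD_coe {D : Subgroup (N ≃ₗ[F] N)} (p : ↥(O κ ⊓ D) × ↥(O QM)) :
    ((leviD κ QM D p : XD κ QM D) : (N × N × M) ≃ₗ[F] (N × N × M)) =
      levi κ QM (toPair p) := rfl

theorem leviD_injective {D : Subgroup (N ≃ₗ[F] N)} : Function.Injective (leviD κ QM D) := by
  rintro ⟨⟨d, hd⟩, ⟨h, hh⟩⟩ ⟨⟨d', hd'⟩, ⟨h', hh'⟩⟩ heq
  have h1 := congrArg Subtype.val heq
  rw [leviD_coe, leviD_coe] at h1
  have h2 := Act.levi (κ := κ) (QM := QM) (⟨d, hd.1⟩, ⟨h, hh⟩)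
  have h3 := Act.levi (κ := κ) (QM := QM) (⟨d', hd'.1⟩, ⟨h', hh'⟩)
  unfold toPair at h1
  simp only at h1
  rw [h1] at h2
  obtain ⟨h4, h5⟩ := Act.eq h2 h3
  exact Prod.ext (Subtype.ext h4) (Subtype.ext h5)

/-- The abelian group `{zc c * sg t w}`. -/
def At (κ : QuadraticForm F N) (QM : QuadraticForm F M) (t : N) :
    Subgroup ((N × N × M) ≃ₗ[F] (N × N × M)) where
  carrier := {g | ∃ (c : F) (w : M), g = zc c * sg κ QM t w}
  one_mem' := ⟨0, 0, by rw [zc_zero, sg_zero, one_mul]⟩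
  mul_mem' := by
    rintro _ _ ⟨c, w, rfl⟩ ⟨c', w', rfl⟩
    refine ⟨c + c', w + w', ?_⟩
    rw [← zc_mul, ← sg_mul]
    calc zc c * sg κ QM t w * (zc c' * sg κ QM t w')
        = zc c * (sg κ QM t w * zc c') * sg κ QM t w' := by group
      _ = zc c * (zc c' * sg κ QM t w) * sg κ QM t w' := by rw [zc_sg]
      _ = _ := by group
  inv_mem' := by
    rintro _ ⟨c, w, rfl⟩
    refine ⟨c, w, ?_⟩
    rw [mul_inv_rev, zc_inv, sg_inv, zc_sg]

theorem mem_At {t : N} {g : (N × N × M) ≃ₗ[F] (N × N × M)} :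
    g ∈ At κ QM t ↔ ∃ (c : F) (w : M), g = zc c * sg κ QM t w := Iff.rfl

theorem At_le_rad (hκ : Nondeg κ) (t : N) : At κ QM t ≤ rad κ QM hκ := by
  rintro _ ⟨c, w, rfl⟩
  exact mul_mem (zc_mem_rad hκ c) (sg_mem_rad hκ t w)

theorem At_mul (t : N) (c c' : F) (w w' : M) : zc c * sg κ QM t w * (zc c' * sg κ QM t w')
    = zc (c + c') * sg κ QM t (w + w') := by
  rw [← zc_mul, ← sg_mul]
  calc zc c * sg κ QM t w * (zc c' * sg κ QM t w')
      = zc c * (sg κ QM t w * zc c') * sg κ QM t w' := by group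
    _ = zc c * (zc c' * sg κ QM t w) * sg κ QM t w' := by rw [zc_sg]
    _ = _ := by group

theorem At_comm {t : N} {g g' : (N × N × M) ≃ₗ[F] (N × N × M)} (hg : g ∈ At κ QM t)
    (hg' : g' ∈ At κ QM t) : g * g' = g' * g := by
  obtain ⟨c, w, rfl⟩ := hg
  obtain ⟨c', w', rfl⟩ := hg'
  rw [At_mul, At_mul, add_comm c, add_comm w]

theorem At_sq {t : N} {g : (N × N × M) ≃ₗ[F] (N × N × M)} (hg : g ∈ At κ QM t) : g * g = 1 := by
  obtain ⟨c, w, rfl⟩ := hg
  rw [At_mul, CharTwo.add_self_eq_zero, two_smul_zero (F := F), zc_zero, sg_zero, one_mul]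

/-- The coordinate `c` of `zc c * sg t w`. -/
def cc (κ : QuadraticForm F N) (t b : N) (g : (N × N × M) ≃ₗ[F] (N × N × M)) : F :=
  polar κ t (g (0, b, 0)).1

theorem cc_eq {t b : N} (htb : polar κ t b = 1) (c : F) (w : M) :
    cc κ t b (zc c * sg κ QM t w) = c := by
  unfold cc
  show polar κ t (zc c (sg κ QM t w (0, b, 0))).1 = c
  rw [sg_apply, zc_apply]
  simp only [polar_zero_right, htb, mul_one, zero_add, polar_add_right, polar_smul_right,
    polar_self0, smul_eq_mul, mul_zero]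

/-- Conjugation on `At t`. -/
theorem conj_At [FiniteDimensional F N] [FiniteDimensional F M] (hκ : Nondeg κ) (hQM : Nondeg QM)
    (hN : Module.finrank F N = 2) {t b : N} (htb : polar κ t b = 1)
    {g : (N × N × M) ≃ₗ[F] (N × N × M)} {p : ↥(O κ) × ↥(O QM)} (hg : Act κ QM g p.1 p.2)
    (hpt : (p.1 : N ≃ₗ[F] N) t = t) : ∃ (c₀ : F) (m₁ m₂ : M),
      g = zc c₀ * (sg κ QM t m₁ * sg κ QM b m₂) * levi κ QM p ∧
      ∀ (c : F) (w : M), g * (zc c * sg κ QM t w) * g⁻¹ =
        zc (c + polar QM m₂ ((p.2 : M ≃ₗ[F] M) w)) * sg κ QM t ((p.2 : M ≃ₗ[F] M) w) := by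
  obtain ⟨c₀, m₁, m₂, h1⟩ := exists_dec hκ hQM hN htb (dec_levi hκ hg)
  refine ⟨c₀, m₁, m₂, by rw [← h1, inv_mul_cancel_right], fun c w => ?_⟩
  have hg' : g = zc c₀ * (sg κ QM t m₁ * sg κ QM b m₂) * levi κ QM p := by
    rw [← h1, inv_mul_cancel_right]
  have hgX : g ∈ XK κ QM := ⟨hg.1, p.1, p.1.2, hg.2.1⟩
  have h2 : g * (zc c * sg κ QM t w) * g⁻¹ = zc c * (g * sg κ QM t w * g⁻¹) := by
    have := XK_zc hκ hgX c
    calc g * (zc c * sg κ QM t w) * g⁻¹ = (g * zc c) * sg κ QM t w * g⁻¹ := by group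
      _ = (zc c * g) * sg κ QM t w * g⁻¹ := by rw [this]
      _ = _ := by group
  have h3 : g * sg κ QM t w * g⁻¹ = zc c₀ * (sg κ QM t m₁ * (sg κ QM b m₂ *
      (levi κ QM p * sg κ QM t w * (levi κ QM p)⁻¹) * (sg κ QM b m₂)⁻¹) * (sg κ QM t m₁)⁻¹) *
      (zc c₀)⁻¹ := by
    rw [hg']
    group
  rw [h2, h3, levi_sg, hpt, sg_comm κ QM hκ hN, htb, mul_one]
  have h4 : sg κ QM t m₁ * (zc (polar QM m₂ ((p.2 : M ≃ₗ[F] M) w)) *
      sg κ QM t ((p.2 : M ≃ₗ[F] M) w)) * (sg κ QM t m₁)⁻¹ =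
      zc (polar QM m₂ ((p.2 : M ≃ₗ[F] M) w)) * sg κ QM t ((p.2 : M ≃ₗ[F] M) w) := by
    rw [mul_inv_eq_iff_eq_mul]
    refine At_comm (t := t) ⟨0, m₁, by rw [zc_zero, one_mul]⟩ ⟨_, _, rfl⟩
  have h5 : zc c₀ * (zc (polar QM m₂ ((p.2 : M ≃ₗ[F] M) w)) *
      sg κ QM t ((p.2 : M ≃ₗ[F] M) w)) * (zc c₀)⁻¹ =
      zc (polar QM m₂ ((p.2 : M ≃ₗ[F] M) w)) * sg κ QM t ((p.2 : M ≃ₗ[F] M) w) := by
    rw [mul_inv_eq_iff_eq_mul]
    refine At_comm (κ := κ) (QM := QM) (t := t) ⟨c₀, 0, by rw [sg_zero, mul_one]⟩ ⟨_, _, rfl⟩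
  rw [h4, h5, ← mul_assoc, zc_mul]

theorem psi_sq {ψ : AddChar F ℂ} (c : F) : ψ c * ψ c = 1 := by
  rw [← AddChar.map_add_eq_mul, CharTwo.add_self_eq_zero, AddChar.map_zero_eq_one]

theorem psi_pm {ψ : AddChar F ℂ} (c : F) : ψ c = 1 ∨ ψ c = -1 :=
  mul_self_eq_one_iff.1 (psi_sq c)

theorem At_le_XD (hκ : Nondeg κ) (t : N) (D : Subgroup (N ≃ₗ[F] N)) : At κ QM t ≤ XD κ QM D :=
  (At_le_rad hκ t).trans (rad_le_XD hκ D)

/-- The character `zc c * sg t w ↦ ψ c` occurs in the restriction. -/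
theorem over_At [Finite F] [FiniteDimensional F N] [FiniteDimensional F M] (hκ : Nondeg κ)
    (hQM : Nondeg QM) (hN : Module.finrank F N = 2) {t b : N} (htb : polar κ t b = 1)
    (D : Subgroup (N ≃ₗ[F] N)) {ψ : AddChar F ℂ} (hψ : ∃ a, ψ a ≠ 1) {η : XD κ QM D → ℂ}
    (hη : IsIrrCharacter (XD κ QM D) η)
    (hηz : ∀ (c : F) (g : XD κ QM D),
      η (⟨zc c, rad_le_XD hκ D (zc_mem_rad hκ c)⟩ * g) = ψ c * η g) :
    ∑ᶠ a : (At κ QM t).subgroupOf (XD κ QM D), η a *
      ψ (cc κ t b ((a : XD κ QM D) : (N × N × M) ≃ₗ[F] (N × N × M))) ≠ 0 := by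
  classical
  have hfin := finite_aut F (N × N × M)
  have hAG : At κ QM t ≤ XD κ QM D := At_le_XD hκ t D
  obtain ⟨lam, hl1, hl2, -, hl4⟩ := exists_linear ((At κ QM t).subgroupOf (XD κ QM D)) ⊥ bot_le (by
    intro a ha
    rw [Subgroup.mem_subgroupOf] at ha
    exact Subgroup.mem_bot.2 (Subtype.ext (At_sq ha))) hη (by
    intro z hz
    rw [Subgroup.mem_bot.1 hz])
  have := Fintype.ofFinite ((At κ QM t).subgroupOf (XD κ QM D))
  rw [finsum_eq_sum_of_fintype] at hl4 ⊢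
  have hllam : ∀ a, lam a * lam a = 1 := fun a => mul_self_eq_one_iff.2 (hl2 a)
  let elt : F → M → (At κ QM t).subgroupOf (XD κ QM D) := fun c w =>
    ⟨⟨zc c * sg κ QM t w, hAG ⟨c, w, rfl⟩⟩, Subgroup.mem_subgroupOf.2 ⟨c, w, rfl⟩⟩
  have helt : ∀ a : (At κ QM t).subgroupOf (XD κ QM D), ∃ c w, a = elt c w := by
    intro a
    obtain ⟨c, w, h⟩ := Subgroup.mem_subgroupOf.1 a.2
    exact ⟨c, w, Subtype.ext (Subtype.ext h)⟩
  have hmul : ∀ c c' w w', elt c w * elt c' w' = elt (c + c') (w + w') := by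
    intro c c' w w'
    exact Subtype.ext (Subtype.ext (At_mul t c c' w w'))
  have h1 : elt 0 0 = 1 := by
    apply Subtype.ext
    apply Subtype.ext
    show zc (0 : F) * sg κ QM t 0 = 1
    rw [zc_zero, sg_zero, one_mul]
  have hlam1 : lam 1 = 1 := by
    have h2 := hl1 1 1
    rw [mul_one] at h2
    have h3 := hllam 1
    rw [← h2] at h3
    exact h3
  -- the values on `zc c`
  have hc : ∀ c, lam (elt c 0) = ψ c := by
    intro c
    have h2 : ∑ a : (At κ QM t).subgroupOf (XD κ QM D), η a * lam a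
        = (ψ c * lam (elt c 0)) * ∑ a : (At κ QM t).subgroupOf (XD κ QM D), η a * lam a := by
      rw [Finset.mul_sum]
      refine (Fintype.sum_equiv (Equiv.mulLeft (elt c 0)) _ _ fun a => ?_).symm
      rw [Equiv.coe_mulLeft, hl1]
      have h3 : (((elt c 0 * a : (At κ QM t).subgroupOf (XD κ QM D))) : XD κ QM D)
          = (⟨zc c, rad_le_XD hκ D (zc_mem_rad hκ c)⟩ : XD κ QM D) * a := by
        apply Subtype.ext
        show zc c * sg κ QM t 0 * _ = zc c * _
        rw [sg_zero, mul_one]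
      rw [h3, hηz]
      ring
    have h4 : ψ c * lam (elt c 0) = 1 := by
      exact mul_right_cancel₀ hl4 (h2.symm.trans (one_mul _).symm)
    have h6 := hllam (elt c 0)
    calc lam (elt c 0) = (ψ c * ψ c) * lam (elt c 0) := by rw [psi_sq, one_mul]
      _ = ψ c * (ψ c * lam (elt c 0)) := by ring
      _ = ψ c := by rw [h4, mul_one]
  obtain ⟨m', hm'⟩ := exists_dual hQM hψ
    { toFun := fun w => lam (elt 0 w)
      map_zero_eq_one' := by rw [h1, hlam1]
      map_add_eq_mul' := fun w w' => by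
        rw [← hl1, hmul, add_zero] }
  have hval : ∀ c w, lam (elt c w) = ψ c * ψ (polar QM m' w) := by
    intro c w
    have h2 : elt c w = elt c 0 * elt 0 w := by rw [hmul, add_zero, zero_add]
    rw [h2, hl1, hc]
    congr 1
    exact hm' w
  have hxr : sg κ QM b m' ∈ rad κ QM hκ := sg_mem_rad hκ b m'
  have hxG : sg κ QM b m' ∈ XD κ QM D := rad_le_XD hκ D hxr
  have hconj : ∀ c w, sg κ QM b m' * (zc c * sg κ QM t w) * (sg κ QM b m')⁻¹
      = zc (c + polar QM m' w) * sg κ QM t w := by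
    intro c w
    have h2 : sg κ QM b m' * (zc c * sg κ QM t w) * (sg κ QM b m')⁻¹
        = zc c * (sg κ QM b m' * sg κ QM t w * (sg κ QM b m')⁻¹) := by
      calc sg κ QM b m' * (zc c * sg κ QM t w) * (sg κ QM b m')⁻¹
          = (sg κ QM b m' * zc c) * sg κ QM t w * (sg κ QM b m')⁻¹ := by group
        _ = (zc c * sg κ QM b m') * sg κ QM t w * (sg κ QM b m')⁻¹ := by rw [← zc_sg]
        _ = _ := by group
    rw [h2, sg_comm κ QM hκ hN, htb, mul_one, ← mul_assoc, zc_mul]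
  have hcb : ∀ c w, cc κ t b (((elt c w : (At κ QM t).subgroupOf (XD κ QM D)) : XD κ QM D) :
      (N × N × M) ≃ₗ[F] (N × N × M)) = c := fun c w => cc_eq htb c w
  have hcl := isIrr_isClassFunction hη
  -- the bijection
  let e : (At κ QM t).subgroupOf (XD κ QM D) → (At κ QM t).subgroupOf (XD κ QM D) := fun a =>
    ⟨⟨sg κ QM b m', hxG⟩ * a * (⟨sg κ QM b m', hxG⟩ : XD κ QM D)⁻¹, by
      obtain ⟨c, w, rfl⟩ := helt a
      rw [Subgroup.mem_subgroupOf]
      exact ⟨_, _, hconj c w⟩⟩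
  have he : Function.Bijective e := by
    rw [← Finite.injective_iff_bijective]
    intro x y hxy
    have h2 := congrArg Subtype.val hxy
    exact Subtype.ext (mul_left_cancel (mul_right_cancel h2))
  have hfinal : ∑ a : (At κ QM t).subgroupOf (XD κ QM D), η a *
      ψ (cc κ t b ((a : XD κ QM D) : (N × N × M) ≃ₗ[F] (N × N × M)))
      = ∑ a : (At κ QM t).subgroupOf (XD κ QM D), η a * lam a := by
    refine Fintype.sum_equiv (Equiv.ofBijective e he) _ _ fun a => ?_
    rw [Equiv.ofBijective_apply]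
    obtain ⟨c, w, rfl⟩ := helt a
    have h2 : e (elt c w) = elt (c + polar QM m' w) w := Subtype.ext (Subtype.ext (hconj c w))
    have h3 : η ((e (elt c w) : (At κ QM t).subgroupOf (XD κ QM D)) : XD κ QM D) = η ((elt c w :
        (At κ QM t).subgroupOf (XD κ QM D)) : XD κ QM D) := hcl _ _
    rw [h3, h2, hval, hcb, AddChar.map_add_eq_mul, mul_assoc, psi_sq, mul_one]
  rw [hfinal]
  exact hl4

/-- The data of an element of `XD`. -/
theorem XD_exists_act [FiniteDimensional F M] (hκ : Nondeg κ) (hQM : Nondeg QM)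
    {D : Subgroup (N ≃ₗ[F] N)} {g : (N × N × M) ≃ₗ[F] (N × N × M)} (hg : g ∈ XD κ QM D) :
    ∃ p : ↥(O κ ⊓ D) × ↥(O QM), Act κ QM g p.1 p.2 := by
  obtain ⟨hgO, d, hd, hda⟩ := hg
  obtain ⟨h, hh, hact⟩ := exists_act hκ hQM hgO hda hd.1
  exact ⟨(⟨d, hd⟩, ⟨h, hh⟩), hact⟩

theorem conj_At_mem [FiniteDimensional F N] [FiniteDimensional F M] (hκ : Nondeg κ)
    (hQM : Nondeg QM) (hN : Module.finrank F N = 2) {t b : N} (htb : polar κ t b = 1)
    {D : Subgroup (N ≃ₗ[F] N)} (hDt : ∀ d ∈ O κ ⊓ D, d t = t)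
    {g a : (N × N × M) ≃ₗ[F] (N × N × M)} (hg : g ∈ XD κ QM D) (ha : a ∈ At κ QM t) :
    g * a * g⁻¹ ∈ At κ QM t := by
  obtain ⟨p, hp⟩ := XD_exists_act hκ hQM hg
  obtain ⟨c₀, m₁, m₂, -, h2⟩ := conj_At hκ hQM hN htb (p := toPair p) hp (hDt _ p.1.2)
  obtain ⟨c, w, rfl⟩ := ha
  rw [h2]
  exact ⟨_, _, rfl⟩

theorem At_normal [FiniteDimensional F N] [FiniteDimensional F M] (hκ : Nondeg κ)
    (hQM : Nondeg QM) (hN : Module.finrank F N = 2) {t b : N} (htb : polar κ t b = 1)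
    {D : Subgroup (N ≃ₗ[F] N)} (hDt : ∀ d ∈ O κ ⊓ D, d t = t) :
    ((At κ QM t).subgroupOf (XD κ QM D)).Normal := by
  refine ⟨fun a ha g => ?_⟩
  rw [Subgroup.mem_subgroupOf] at ha ⊢
  exact conj_At_mem hκ hQM hN htb hDt g.2 ha

theorem mem_AtG {t : N} {D : Subgroup (N ≃ₗ[F] N)} (x : XD κ QM D) :
    x ∈ (At κ QM t).subgroupOf (XD κ QM D) ↔
      ∃ (c : F) (w : M), (x : (N × N × M) ≃ₗ[F] (N × N × M)) = zc c * sg κ QM t w :=
  Subgroup.mem_subgroupOf

/-- The linear character of `At t`. -/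
noncomputable def lamAt (κ : QuadraticForm F N) (QM : QuadraticForm F M) (D : Subgroup (N ≃ₗ[F] N))
    (ψ : AddChar F ℂ) (t b : N) (a : (At κ QM t).subgroupOf (XD κ QM D)) : ℂ :=
  ψ (cc κ t b ((a : XD κ QM D) : (N × N × M) ≃ₗ[F] (N × N × M)))

theorem lamAt_eq {D : Subgroup (N ≃ₗ[F] N)} {ψ : AddChar F ℂ} {t b : N} (htb : polar κ t b = 1)
    (a : (At κ QM t).subgroupOf (XD κ QM D)) {c : F} {w : M}
    (h : ((a : XD κ QM D) : (N × N × M) ≃ₗ[F] (N × N × M)) = zc c * sg κ QM t w) :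
    lamAt κ QM D ψ t b a = ψ c := by
  unfold lamAt
  rw [h, cc_eq htb]

theorem lamAt_mul {D : Subgroup (N ≃ₗ[F] N)} {ψ : AddChar F ℂ} {t b : N} (htb : polar κ t b = 1)
    (a a' : (At κ QM t).subgroupOf (XD κ QM D)) :
    lamAt κ QM D ψ t b (a * a') = lamAt κ QM D ψ t b a * lamAt κ QM D ψ t b a' := by
  obtain ⟨c, w, h1⟩ := (mem_AtG _).1 a.2
  obtain ⟨c', w', h2⟩ := (mem_AtG _).1 a'.2
  have h3 : (((a * a' : (At κ QM t).subgroupOf (XD κ QM D)) : XD κ QM D) :
      (N × N × M) ≃ₗ[F] (N × N × M)) = zc (c + c') * sg κ QM t (w + w') := by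
    rw [← At_mul, ← h1, ← h2]
    rfl
  rw [lamAt_eq htb _ h1, lamAt_eq htb _ h2, lamAt_eq htb _ h3, AddChar.map_add_eq_mul]

/-- The inertia group of the linear character of `At t`. -/
theorem inertia_At [FiniteDimensional F N] [FiniteDimensional F M] (hκ : Nondeg κ)
    (hQM : Nondeg QM) (hN : Module.finrank F N = 2) {t b : N} (htb : polar κ t b = 1)
    {D : Subgroup (N ≃ₗ[F] N)} (hDt : ∀ d ∈ O κ ⊓ D, d t = t)
    (hAn : ((At κ QM t).subgroupOf (XD κ QM D)).Normal)
    {ψ : AddChar F ℂ} (hψ : ∃ a, ψ a ≠ 1) (g : XD κ QM D) :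
    g ∈ (At κ QM t).subgroupOf (XD κ QM D) ⊔ (leviD κ QM D).range ↔
      ∀ a : (At κ QM t).subgroupOf (XD κ QM D),
        lamAt κ QM D ψ t b ⟨g * a * g⁻¹, hAn.conj_mem a a.2 g⟩ = lamAt κ QM D ψ t b a := by
  have hAG : At κ QM t ≤ XD κ QM D := At_le_XD hκ t D
  constructor
  · intro hg a
    obtain ⟨x, hx, y, hy, hxy⟩ := Subgroup.mem_sup_of_normal_left.1 hg
    obtain ⟨p, rfl⟩ := hy
    obtain ⟨c, w, h1⟩ := (mem_AtG _).1 a.2
    have h2 : levi κ QM (toPair p) * (zc c * sg κ QM t w) * (levi κ QM (toPair p))⁻¹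
        = zc c * sg κ QM t ((p.2 : M ≃ₗ[F] M) w) := by
      have h3 : levi κ QM (toPair p) * (zc c * sg κ QM t w) * (levi κ QM (toPair p))⁻¹
          = (levi κ QM (toPair p) * zc c * (levi κ QM (toPair p))⁻¹) *
            (levi κ QM (toPair p) * sg κ QM t w * (levi κ QM (toPair p))⁻¹) := by group
      rw [h3, levi_zc, levi_sg]
      congr 2
      exact hDt _ p.1.2
    have h4 : (((⟨g * a * g⁻¹, hAn.conj_mem a a.2 g⟩ :
        (At κ QM t).subgroupOf (XD κ QM D)) : XD κ QM D) : (N × N × M) ≃ₗ[F] (N × N × M))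
        = zc c * sg κ QM t ((p.2 : M ≃ₗ[F] M) w) := by
      show (g : (N × N × M) ≃ₗ[F] (N × N × M)) * (a : XD κ QM D) *
        (g : (N × N × M) ≃ₗ[F] (N × N × M))⁻¹ = _
      have h5 : (g : (N × N × M) ≃ₗ[F] (N × N × M)) = x * levi κ QM (toPair p) := by
        rw [← hxy]
        rfl
      rw [h5, h1]
      have h6 : (x : (N × N × M) ≃ₗ[F] (N × N × M)) * levi κ QM (toPair p) *
          (zc c * sg κ QM t w) * ((x : (N × N × M) ≃ₗ[F] (N × N × M)) *
            levi κ QM (toPair p))⁻¹ = (x : (N × N × M) ≃ₗ[F] (N × N × M)) *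
              (levi κ QM (toPair p) * (zc c * sg κ QM t w) *
              (levi κ QM (toPair p))⁻¹) * (x : (N × N × M) ≃ₗ[F] (N × N × M))⁻¹ := by group
      rw [h6, h2, mul_inv_eq_iff_eq_mul]
      exact At_comm ((mem_AtG x).1 hx) ⟨_, _, rfl⟩
    rw [lamAt_eq htb _ h4, lamAt_eq htb _ h1]
  · intro h
    obtain ⟨p, hp⟩ := XD_exists_act hκ hQM g.2
    obtain ⟨c₀, m₁, m₂, h1, h2⟩ := conj_At hκ hQM hN htb (p := toPair p) hp (hDt _ p.1.2)
    have h3 : ∀ w : M, ψ (polar QM m₂ ((p.2 : M ≃ₗ[F] M) w)) = 1 := by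
      intro w
      have h4 := h ⟨⟨zc 0 * sg κ QM t w, hAG ⟨0, w, rfl⟩⟩,
        Subgroup.mem_subgroupOf.2 ⟨0, w, rfl⟩⟩
      rw [lamAt_eq htb _ (h2 0 w), lamAt_eq htb (c := 0) (w := w) _ rfl, zero_add,
        AddChar.map_zero_eq_one] at h4
      exact h4
    have h6 : m₂ = 0 := by
      apply hQM
      intro z
      refine eq_zero_of_psi hψ fun c => ?_
      obtain ⟨w, hw⟩ := (p.2 : M ≃ₗ[F] M).surjective (c • z)
      rw [← smul_eq_mul, ← polar_smul_right, ← hw]
      exact h3 w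
    rw [h6, sg_zero, mul_one] at h1
    rw [Subgroup.mem_sup_of_normal_left]
    refine ⟨⟨zc c₀ * sg κ QM t m₁, hAG ⟨c₀, m₁, rfl⟩⟩, Subgroup.mem_subgroupOf.2 ⟨c₀, m₁, rfl⟩,
      leviD κ QM D p, ⟨p, rfl⟩, Subtype.ext h1.symm⟩

/-- The indicators of the groups `XD` which fix a vector of the plane. -/
theorem fsi_XD [Finite F] [FiniteDimensional F N] [FiniteDimensional F M] (hκ : Nondeg κ)
    (hQM : Nondeg QM) (hN : Module.finrank F N = 2) {t b : N} (htb : polar κ t b = 1)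
    (D : Subgroup (N ≃ₗ[F] N)) (hDt : ∀ d ∈ O κ ⊓ D, d t = t)
    (hD : FSGood False ↥(O κ ⊓ D)) (hM : FSGood False ↥(O QM))
    {ψ : AddChar F ℂ} (hψ : ∃ a, ψ a ≠ 1) {η : XD κ QM D → ℂ}
    (hη : IsIrrCharacter (XD κ QM D) η)
    (hηz : ∀ (c : F) (g : XD κ QM D),
      η (⟨zc c, rad_le_XD hκ D (zc_mem_rad hκ c)⟩ * g) = ψ c * η g) : fsi η = 1 := by
  have hfin := finite_aut F (N × N × M)
  have hfN := finite_aut F N
  have hfM := finite_aut F M
  have hAn := At_normal (QM := QM) hκ hQM hN htb hDt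
  have hY : FSGood False (leviD κ QM D).range :=
    FSGood.of_mulEquiv (MonoidHom.ofInjective leviD_injective) (FSGood.prod hD hM)
  have hAY : (At κ QM t).subgroupOf (XD κ QM D) ⊓ (leviD κ QM D).range = ⊥ := by
    rw [eq_bot_iff]
    rintro x ⟨hx, p, rfl⟩
    have h1 : Act κ QM (levi κ QM (toPair p)) 1 1 := At_le_rad hκ t (Subgroup.mem_subgroupOf.1 hx)
    obtain ⟨h2, h3⟩ := Act.eq (Act.levi (toPair p)) h1
    have h4 : p = 1 := Prod.ext (Subtype.ext h2) (Subtype.ext h3)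
    rw [h4, map_one]
    exact Subgroup.mem_bot.2 rfl
  rcases clifford _ _ hAY (lamAt κ QM D ψ t b) (lamAt_mul htb) (fun a => psi_pm _)
    (inertia_At hκ hQM hN htb hDt hAn hψ) hY hη (over_At hκ hQM hN htb D hψ hη hηz) with h | h
  · exact h
  · exact h.1.elim

/-- Two characters over `ψ` which agree on the inertia group are equal. -/
theorem eq_of_At [Finite F] [FiniteDimensional F N] [FiniteDimensional F M] (hκ : Nondeg κ)
    (hQM : Nondeg QM) (hN : Module.finrank F N = 2) {t b : N} (htb : polar κ t b = 1)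
    (D : Subgroup (N ≃ₗ[F] N)) (hDt : ∀ d ∈ O κ ⊓ D, d t = t)
    {ψ : AddChar F ℂ} (hψ : ∃ a, ψ a ≠ 1) {η η' : XD κ QM D → ℂ}
    (hη : IsIrrCharacter (XD κ QM D) η) (hη' : IsIrrCharacter (XD κ QM D) η')
    (hηz : ∀ (c : F) (g : XD κ QM D),
      η (⟨zc c, rad_le_XD hκ D (zc_mem_rad hκ c)⟩ * g) = ψ c * η g)
    (heq : ∀ (c : F) (w : M) (p : ↥(O κ ⊓ D) × ↥(O QM)) (g : XD κ QM D),
      (g : (N × N × M) ≃ₗ[F] (N × N × M)) = zc c * sg κ QM t w * levi κ QM (toPair p) →
      η g = η' g) : η = η' := by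
  have hfin := finite_aut F (N × N × M)
  have hAn := At_normal (QM := QM) hκ hQM hN htb hDt
  refine eq_of_restrict _ _ le_sup_left (lamAt κ QM D ψ t b) (lamAt_mul htb) (fun a => psi_pm _)
    (inertia_At hκ hQM hN htb hDt hAn hψ) hη hη' (over_At hκ hQM hN htb D hψ hη hηz) ?_
  intro g hg
  obtain ⟨x, hx, y, ⟨p, rfl⟩, hxy⟩ := Subgroup.mem_sup_of_normal_left.1 hg
  obtain ⟨c, w, h1⟩ := (mem_AtG _).1 hx
  refine heq c w p g ?_
  rw [← hxy, ← h1]
  rfl

end Cfsg.Agent.H592.FSFour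
end

-- part: H592/FSFourNon
section
/-!
# The characters which are not trivial on the centre of the unipotent radical (T4, third part)
-/

set_option autoImplicit false
set_option linter.unusedSectionVars false

universe u

namespace Cfsg.Agent.H592.FSFour

open Cfsg QuadraticMap
open Cfsg.Agent.LieClassical.OrthCore Cfsg.Agent.H955.FS
open Cfsg.Agent.Characters.Core
open scoped ComplexConjugate

theorem central_mul {G : Type u} [Group G] [Finite G] {χ : G → ℂ} (hχ : IsIrrCharacter G χ)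
    {z : G} (hz : ∀ g, g * z = z * g) (g : G) : χ (z * g) = (χ z / χ 1) * χ g := by
  have := Fintype.ofFinite G
  have h1 := Characters.Central.sum_char_conj_mul hχ z g
  have h2 : ∀ a : G, a * z * a⁻¹ * g = z * g := by
    intro a
    rw [hz a]
    group
  rw [Finset.sum_congr rfl (fun a _ => by rw [h2 a]), Finset.sum_const, Finset.card_univ,
    nsmul_eq_mul, ← Nat.card_eq_fintype_card] at h1
  have h3 : (Nat.card G : ℂ) ≠ 0 := card_ne_zero_complex
  have h4 : (Nat.card G : ℂ) * χ (z * g) = (Nat.card G : ℂ) * ((χ z / χ 1) * χ g) := by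
    rw [h1]
    ring
  exact mul_left_cancel₀ h3 h4

theorem central_sq {G : Type u} [Group G] [Finite G] {χ : G → ℂ} (hχ : IsIrrCharacter G χ)
    {z : G} {a : ℂ} (hz : ∀ g, χ (z * g) = a * χ g) (hz2 : z * z = 1) : a * a = 1 := by
  have h1 : χ (z * (z * 1)) = a * (a * χ 1) := by rw [hz, hz]
  rw [mul_one, hz2, ← mul_assoc] at h1
  have h2 : χ 1 ≠ 0 := Characters.Central.irr_one_ne_zero hχ
  exact (mul_right_cancel₀ h2 ((one_mul _).trans h1)).symm

/-- The scalars agree. -/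
theorem central_eq {G : Type u} [Group G] [Finite G] {α β : G → ℂ} {z : G} {a b : ℂ}
    (hα : ∀ g, α (z * g) = a * α g) (hβ : ∀ g, β (z * g) = b * β g)
    (ha : a * a = 1) (hne : ∑ᶠ g, α g * β g ≠ 0) : a = b := by
  have := Fintype.ofFinite G
  rw [finsum_eq_sum_of_fintype] at hne
  have h1 : ∑ g, α g * β g = (a * b) * ∑ g, α g * β g := by
    rw [Finset.mul_sum]
    refine (Fintype.sum_equiv (Equiv.mulLeft z) _ _ fun g => ?_).symm
    rw [Equiv.coe_mulLeft, hα, hβ]
    ring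
  have h2 : a * b = 1 := mul_right_cancel₀ hne (h1.symm.trans (one_mul _).symm)
  calc a = a * (a * b) := by rw [h2, mul_one]
    _ = (a * a) * b := by ring
    _ = b := by rw [ha, one_mul]

variable {F N M : Type u} [Field F] [CharP F 2] [AddCommGroup N] [Module F N] [AddCommGroup M]
  [Module F M] {κ : QuadraticForm F N} {QM : QuadraticForm F M}

/-- The action on the plane. -/
noncomputable def actN (κ : QuadraticForm F N) (QM : QuadraticForm F M) :
    ↥(XK κ QM) →* (N ≃ₗ[F] N) where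
  toFun g := Classical.choose g.2.2
  map_one' := by
    have h := (Classical.choose_spec (1 : XK κ QM).2.2).2
    ext a
    have h1 := h a
    exact (congrArg Prod.fst h1).symm
  map_mul' g g' := by
    have h := (Classical.choose_spec (g * g').2.2).2
    have h1 := (Classical.choose_spec g.2.2).2
    have h2 := (Classical.choose_spec g'.2.2).2
    ext a
    have h3 := h a
    have h4 : ((g * g' : XK κ QM) : (N × N × M) ≃ₗ[F] (N × N × M)) (LinearMap.inl F N (N × M) a)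
        = (g : (N × N × M) ≃ₗ[F] (N × N × M)) ((g' : (N × N × M) ≃ₗ[F] (N × N × M))
          (LinearMap.inl F N (N × M) a)) := rfl
    rw [h4, h2, h1] at h3
    exact (congrArg Prod.fst h3).symm

theorem actN_mem (g : XK κ QM) : actN κ QM g ∈ O κ := (Classical.choose_spec g.2.2).1

theorem actN_apply (g : XK κ QM) (a : N) :
    (g : (N × N × M) ≃ₗ[F] (N × N × M)) (a, 0, 0) = (actN κ QM g a, 0, 0) :=
  (Classical.choose_spec g.2.2).2 a

theorem actN_eq {g : XK κ QM} {d : N ≃ₗ[F] N}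
    (h : ∀ a, (g : (N × N × M) ≃ₗ[F] (N × N × M)) (a, 0, 0) = (d a, 0, 0)) :
    actN κ QM g = d := by
  ext a
  have h1 := h a
  rw [actN_apply] at h1
  exact congrArg Prod.fst h1

theorem actN_levi (p : ↥(O κ) × ↥(O QM)) :
    actN κ QM ⟨levi κ QM p, levi_mem_XK p⟩ = p.1 := actN_eq (Act.levi p).2.1

theorem mem_XD_iff {D : Subgroup (N ≃ₗ[F] N)} (g : XK κ QM) :
    (g : (N × N × M) ≃ₗ[F] (N × N × M)) ∈ XD κ QM D ↔ g ∈ D.comap (actN κ QM) := by
  constructor
  · rintro ⟨-, d, hd, hda⟩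
    rw [Subgroup.mem_comap, actN_eq hda]
    exact hd.2
  · intro h
    exact ⟨g.2.1, actN κ QM g, ⟨actN_mem g, h⟩, actN_apply g⟩

/-- `XD` as a subgroup of `XK`. -/
noncomputable def eqD (κ : QuadraticForm F N) (QM : QuadraticForm F M)
    (D : Subgroup (N ≃ₗ[F] N)) : ↥(XD κ QM D) ≃* ↥(D.comap (actN κ QM)) where
  toFun g := ⟨⟨g, XD_le g.2⟩, (mem_XD_iff _).1 g.2⟩
  invFun g := ⟨((g : XK κ QM) : (N × N × M) ≃ₗ[F] (N × N × M)), (mem_XD_iff _).2 g.2⟩
  left_inv _ := rfl
  right_inv _ := rfl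
  map_mul' _ _ := rfl

/-- The elements `zc c` in `XK`. -/
def zX (hκ : Nondeg κ) (QM : QuadraticForm F M) (c : F) : XK κ QM := ⟨zc c, zc_mem_XK hκ c⟩

theorem zX_comm (hκ : Nondeg κ) (c : F) (g : XK κ QM) : g * zX hκ QM c = zX hκ QM c * g :=
  Subtype.ext (XK_zc hκ g.2 c)

theorem zX_mul (hκ : Nondeg κ) (c c' : F) : zX hκ QM c * zX hκ QM c' = zX hκ QM (c + c') :=
  Subtype.ext (zc_mul c c')

theorem zX_zero (hκ : Nondeg κ) : zX hκ QM 0 = 1 := Subtype.ext zc_zero

theorem zX_sq (hκ : Nondeg κ) (c : F) : zX hκ QM c * zX hκ QM c = 1 :=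
  Subtype.ext (zc_mul_self c)

theorem actN_zX (hκ : Nondeg κ) (c : F) : actN κ QM (zX hκ QM c) = 1 := by
  apply actN_eq
  intro a
  show zc c (a, 0, 0) = _
  rw [zc_apply]
  simp

theorem zX_mem (hκ : Nondeg κ) (c : F) (D : Subgroup (N ≃ₗ[F] N)) :
    zX hκ QM c ∈ D.comap (actN κ QM) := by
  rw [Subgroup.mem_comap, actN_zX]
  exact one_mem _

/-- `fsi_XD` inside `XK`. -/
theorem fsi_comap [Finite F] [FiniteDimensional F N] [FiniteDimensional F M] (hκ : Nondeg κ)
    (hQM : Nondeg QM) (hN : Module.finrank F N = 2) {t b : N} (htb : polar κ t b = 1)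
    (D : Subgroup (N ≃ₗ[F] N)) (hDt : ∀ d ∈ O κ ⊓ D, d t = t)
    (hD : FSGood False ↥(O κ ⊓ D)) (hM : FSGood False ↥(O QM))
    {ψ : AddChar F ℂ} (hψ : ∃ a, ψ a ≠ 1) {η : D.comap (actN κ QM) → ℂ}
    (hη : IsIrrCharacter (D.comap (actN κ QM)) η)
    (hηz : ∀ (c : F) (g : D.comap (actN κ QM)),
      η (⟨zX hκ QM c, zX_mem hκ c D⟩ * g) = ψ c * η g) : fsi η = 1 := by
  have hfin := finite_aut F (N × N × M)
  have h1 := fsi_comp (eqD κ QM D).toMonoidHom (eqD κ QM D).surjective η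
  rw [← h1]
  refine fsi_XD hκ hQM hN htb D hDt hD hM hψ
    (isIrr_comp (eqD κ QM D).toMonoidHom (eqD κ QM D).surjective hη) ?_
  intro c g
  exact hηz c (eqD κ QM D g)

/-- The kernel of the action on the plane. -/
noncomputable abbrev KN (κ : QuadraticForm F N) (QM : QuadraticForm F M) :
    Subgroup ↥(XK κ QM) := (⊥ : Subgroup (N ≃ₗ[F] N)).comap (actN κ QM)

theorem levi_conj_mul (d : ↥(O κ)) {t : N} (hdt : (d : N ≃ₗ[F] N) t = t) (c : F) (w : M)
    (q : ↥(O κ) × ↥(O QM)) (hq : q.1 = 1) :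
    levi κ QM (d, 1) * (zc c * sg κ QM t w * levi κ QM q) * (levi κ QM (d, 1))⁻¹
      = zc c * sg κ QM t w * levi κ QM q := by
  have h1 : levi κ QM (d, 1) * (zc c * sg κ QM t w * levi κ QM q) * (levi κ QM (d, 1))⁻¹
      = (levi κ QM (d, 1) * zc c * (levi κ QM (d, 1))⁻¹) *
        (levi κ QM (d, 1) * sg κ QM t w * (levi κ QM (d, 1))⁻¹) *
        (levi κ QM (d, 1) * levi κ QM q * (levi κ QM (d, 1))⁻¹) := by group
  have h2 : levi κ QM (d, 1) * levi κ QM q * (levi κ QM (d, 1))⁻¹ = levi κ QM q := by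
    rw [← map_inv, ← map_mul, ← map_mul]
    congr 1
    refine Prod.ext ?_ ?_
    · simp [hq]
    · simp
  rw [h1, levi_zc, levi_sg, h2]
  congr 3

/-- Invariance under an element of the plane group with a fixed vector. -/
theorem inv_of_fix [Finite F] [FiniteDimensional F N] [FiniteDimensional F M] (hκ : Nondeg κ)
    (hQM : Nondeg QM) (hN : Module.finrank F N = 2) {ψ : AddChar F ℂ} (hψ : ∃ a, ψ a ≠ 1)
    {Ψ : KN κ QM → ℂ} (hΨ : IsIrrCharacter (KN κ QM) Ψ)
    (hΨz : ∀ (c : F) (g : KN κ QM), Ψ (⟨zX hκ QM c, zX_mem hκ c ⊥⟩ * g) = ψ c * Ψ g)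
    (d : ↥(O κ)) {t : N} (ht : t ≠ 0) (hdt : (d : N ≃ₗ[F] N) t = t) (x : XK κ QM)
    (hx : (x : (N × N × M) ≃ₗ[F] (N × N × M)) = levi κ QM (d, 1)) (n : KN κ QM) :
    Ψ ⟨x * n * x⁻¹, (Subgroup.normal_comap (H := ⊥) (actN κ QM)).conj_mem n n.2 x⟩ = Ψ n := by
  have hfin := finite_aut F (N × N × M)
  obtain ⟨b, hb⟩ := hκ.exists_polar_eq ht 1
  have hnor : (KN κ QM).Normal := Subgroup.normal_comap (H := ⊥) (actN κ QM)
  have h1 := Characters.Clifford.isIrr_conjNormal hΨ x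
  have h2 : Ψ ∘ (eqD κ QM ⊥).toMonoidHom
      = (Ψ ∘ (MulAut.conjNormal x : MulAut (KN κ QM))) ∘ (eqD κ QM ⊥).toMonoidHom := by
    refine eq_of_At hκ hQM hN hb ⊥ ?_ hψ
      (isIrr_comp (eqD κ QM ⊥).toMonoidHom (eqD κ QM ⊥).surjective hΨ)
      (isIrr_comp (eqD κ QM ⊥).toMonoidHom (eqD κ QM ⊥).surjective h1) ?_ ?_
    · intro e he
      rw [(Subgroup.mem_bot.1 he.2)]
      rfl
    · intro c g
      exact hΨz c (eqD κ QM ⊥ g)
    · intro c w p g hg
      show Ψ (eqD κ QM ⊥ g) = Ψ (MulAut.conjNormal x (eqD κ QM ⊥ g))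
      congr 1
      apply Subtype.ext
      apply Subtype.ext
      rw [MulAut.conjNormal_apply]
      show (g : (N × N × M) ≃ₗ[F] (N × N × M)) = (x : (N × N × M) ≃ₗ[F] (N × N × M)) * g *
        (x : (N × N × M) ≃ₗ[F] (N × N × M))⁻¹
      rw [hx, hg, levi_conj_mul d hdt c w (toPair p)]
      exact Subtype.ext (Subgroup.mem_bot.1 p.1.2.2)
  have h3 := congrFun h2 ((eqD κ QM ⊥).symm n)
  simp only [Function.comp_apply, MulEquiv.coe_toMonoidHom, MulEquiv.apply_symm_apply] at h3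
  rw [h3]
  congr 1

theorem exists_fixed {d : N ≃ₗ[F] N} (hd : d * d = 1) (h1 : d ≠ 1) :
    ∃ t : N, t ≠ 0 ∧ d t = t := by
  obtain ⟨v, hv⟩ : ∃ v, d v ≠ v := by
    by_contra hcon
    push Not at hcon
    exact h1 (LinearEquiv.ext hcon)
  refine ⟨d v + v, ?_, ?_⟩
  · intro h0
    apply hv
    calc d v = d v + (v + v) := by rw [two_smul_zero (F := F), add_zero]
      _ = (d v + v) + v := by rw [add_assoc]
      _ = v := by rw [h0, zero_add]
  · have h2 : d (d v) = v := congrFun (congrArg DFunLike.coe hd) v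
    rw [map_add, h2, add_comm]

/-- Invariance under the whole stabiliser. -/
theorem inv_all [Finite F] [FiniteDimensional F N] [FiniteDimensional F M] (hκ : Nondeg κ)
    (hQM : Nondeg QM) (hN : Module.finrank F N = 2) {ψ : AddChar F ℂ} (hψ : ∃ a, ψ a ≠ 1)
    {Ψ : KN κ QM → ℂ} (hΨ : IsIrrCharacter (KN κ QM) Ψ)
    (hΨz : ∀ (c : F) (g : KN κ QM), Ψ (⟨zX hκ QM c, zX_mem hκ c ⊥⟩ * g) = ψ c * Ψ g)
    (x : XK κ QM) (n : KN κ QM) :
    Ψ ⟨x * n * x⁻¹, (Subgroup.normal_comap (H := ⊥) (actN κ QM)).conj_mem n n.2 x⟩ = Ψ n := by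
  have hfin := finite_aut F (N × N × M)
  have hnor : (KN κ QM).Normal := Subgroup.normal_comap (H := ⊥) (actN κ QM)
  obtain ⟨C, hCO, hCodd, hCsq, ⟨g₀, hg₀, hg₀C⟩, hCab, hCinv, hCfree, hCmul⟩ :=
    plane_compl κ hκ hN
  -- elements outside of `C`
  have key1 : ∀ d ∈ O κ, d ∉ C → ∃ t : N, t ≠ 0 ∧ d t = t := by
    intro d hd hdC
    refine exists_fixed (hCsq d hd hdC) ?_
    rintro rfl
    exact hdC (one_mem _)
  have hmul : ∀ (x y : XK κ QM),
      (∀ n : KN κ QM, Ψ ⟨x * n * x⁻¹, hnor.conj_mem n n.2 x⟩ = Ψ n) →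
      (∀ n : KN κ QM, Ψ ⟨y * n * y⁻¹, hnor.conj_mem n n.2 y⟩ = Ψ n) →
      (∀ n : KN κ QM, Ψ ⟨(x * y) * n * (x * y)⁻¹, hnor.conj_mem n n.2 (x * y)⟩ = Ψ n) := by
    intro x y hx hy n
    rw [← hy n, ← hx ⟨y * n * y⁻¹, hnor.conj_mem n n.2 y⟩]
    congr 1
  have hcl := isIrr_isClassFunction hΨ
  have hin : ∀ x ∈ KN κ QM, ∀ n : KN κ QM, Ψ ⟨x * n * x⁻¹, hnor.conj_mem n n.2 x⟩ = Ψ n := by
    intro x hx n
    exact hcl n ⟨x, hx⟩
  have hout : ∀ x : XK κ QM, actN κ QM x ∉ C →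
      ∀ n : KN κ QM, Ψ ⟨x * n * x⁻¹, hnor.conj_mem n n.2 x⟩ = Ψ n := by
    intro x hx
    obtain ⟨t, ht, hdt⟩ := key1 _ (actN_mem x) hx
    let l : XK κ QM := ⟨levi κ QM (⟨actN κ QM x, actN_mem x⟩, 1), levi_mem_XK _⟩
    have h1 := inv_of_fix hκ hQM hN hψ hΨ hΨz ⟨actN κ QM x, actN_mem x⟩ ht hdt l rfl
    have h2 : x * l⁻¹ ∈ KN κ QM := by
      rw [Subgroup.mem_comap, map_mul, map_inv, Subgroup.mem_bot]
      have h3 : actN κ QM l = actN κ QM x := actN_levi _
      rw [h3, mul_inv_cancel]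
    have h4 := hmul _ _ (hin _ h2) h1
    rwa [inv_mul_cancel_right] at h4
  by_cases hx : actN κ QM x ∈ C
  · let l : XK κ QM := ⟨levi κ QM (⟨g₀, hg₀⟩, 1), levi_mem_XK _⟩
    have h3 : actN κ QM l = g₀ := actN_levi _
    have h4 := hmul (x * l⁻¹) l (hout _ (by
      rw [map_mul, map_inv, h3]
      intro h5
      apply hg₀C
      have h6 := mul_mem (inv_mem h5) hx
      rwa [mul_inv_rev, inv_inv, mul_assoc, inv_mul_cancel, mul_one] at h6)) (hout _ (by
      rw [h3]
      exact hg₀C)) n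
    have h7 : x * l⁻¹ * l = x := inv_mul_cancel_right x l
    rw [← h4]
    congr 1
    apply Subtype.ext
    show x * n * x⁻¹ = x * l⁻¹ * l * n * (x * l⁻¹ * l)⁻¹
    rw [h7]
  · exact hout x hx n

theorem conj_of_sq {a : ℂ} (h : a * a = 1) : conj a = a := by
  rcases mul_self_eq_one_iff.1 h with h | h <;> rw [h] <;> simp

/-- **The characters of the stabiliser which are not trivial on the centre of the unipotent
radical.** -/
theorem nonlin_case [Finite F] [FiniteDimensional F N] [FiniteDimensional F M] (hκ : Nondeg κ)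
    (hQM : Nondeg QM) (hN : Module.finrank F N = 2) (hM : FSGood False ↥(O QM))
    {χ : XK κ QM → ℂ} (hχ : IsIrrCharacter (XK κ QM) χ)
    (hker : ∃ c : F, χ ⟨zc c, zc_mem_XK hκ c⟩ ≠ χ 1) : fsi χ = 1 := by
  classical
  have hfin := finite_aut F (N × N × M)
  have hfN := finite_aut F N
  have hfM := finite_aut F M
  have hnor : (KN κ QM).Normal := Subgroup.normal_comap (H := ⊥) (actN κ QM)
  obtain ⟨C, hCO, hCodd, hCsq, ⟨g₀, hg₀, hg₀C⟩, hCab, hCinv, hCfree, hCmul⟩ :=
    plane_compl κ hκ hN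
  have hχ1 : χ 1 ≠ 0 := Characters.Central.irr_one_ne_zero hχ
  have hz : ∀ (c : F) (g : XK κ QM), χ (zX hκ QM c * g) = (χ (zX hκ QM c) / χ 1) * χ g :=
    fun c g => central_mul hχ (zX_comm hκ c) g
  let ψ : AddChar F ℂ :=
    { toFun := fun c => χ (zX hκ QM c) / χ 1
      map_zero_eq_one' := by rw [zX_zero, div_self hχ1]
      map_add_eq_mul' := fun c c' => by
        rw [← zX_mul, hz]
        ring }
  have hψ : ∃ a, ψ a ≠ 1 := by
    obtain ⟨c, hc⟩ := hker
    refine ⟨c, fun h => hc ?_⟩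
    exact (div_eq_one_iff_eq hχ1).1 h
  have hχz : ∀ (c : F) (g : XK κ QM), χ (zX hκ QM c * g) = ψ c * χ g := hz
  -- the constituent of the restriction
  have := Fintype.ofFinite (KN κ QM)
  obtain ⟨Ψ, hΨ, hcon⟩ := Cfsg.Agent.H597.Base.exists_constituent
    (isCharacter_comp (KN κ QM).subtype (isIrr_isCharacter hχ)) (by
      show χ _ ≠ 0
      rw [map_one]
      exact hχ1)
  have hcon' : ∑ᶠ n : KN κ QM, χ n * conj (Ψ n) ≠ 0 := by
    rw [classInner_def] at hcon
    rw [finsum_eq_sum_of_fintype]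
    exact right_ne_zero_of_mul hcon
  have hzc : ∀ (D : Subgroup (N ≃ₗ[F] N)) (c : F) (g : D.comap (actN κ QM)),
      g * ⟨zX hκ QM c, zX_mem hκ c D⟩ = ⟨zX hκ QM c, zX_mem hκ c D⟩ * g :=
    fun D c g => Subtype.ext (zX_comm hκ c (g : XK κ QM))
  have hz2 : ∀ (D : Subgroup (N ≃ₗ[F] N)) (c : F),
      (⟨zX hκ QM c, zX_mem hκ c D⟩ : D.comap (actN κ QM)) * ⟨zX hκ QM c, zX_mem hκ c D⟩ = 1 :=
    fun D c => Subtype.ext (zX_sq hκ c)
  have hΨz : ∀ (c : F) (g : KN κ QM), Ψ (⟨zX hκ QM c, zX_mem hκ c ⊥⟩ * g) = ψ c * Ψ g := by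
    intro c g
    have h1 := central_mul hΨ (hzc ⊥ c)
    have h2 := central_sq hΨ h1 (hz2 ⊥ c)
    have h3 : Ψ ⟨zX hκ QM c, zX_mem hκ c ⊥⟩ / Ψ 1 = ψ c := by
      refine central_eq (α := fun n => conj (Ψ n)) (β := fun n : KN κ QM => χ n)
        (z := ⟨zX hκ QM c, zX_mem hκ c ⊥⟩) ?_ ?_ h2 ?_
      · intro n
        show conj (Ψ _) = _
        rw [h1, map_mul, conj_of_sq h2]
      · intro n
        exact hχz c n
      · intro h0
        apply hcon'
        rw [← h0]
        exact finsum_congr fun n => mul_comm _ _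
    rw [h1, h3]
  -- it is real and invariant
  obtain ⟨v, hv⟩ := H955.FS.Plane.exists_ne_zero hN (F := F) (N := N)
  obtain ⟨b, hb⟩ := hκ.exists_polar_eq hv 1
  have hΨ1 : fsi Ψ = 1 := by
    refine fsi_comap hκ hQM hN hb ⊥ ?_ ?_ hM hψ hΨ hΨz
    · intro e he
      rw [(Subgroup.mem_bot.1 he.2)]
      rfl
    · refine good_of_sq fun x => ?_
      have h1 : x = 1 := Subtype.ext (Subgroup.mem_bot.1 x.2.2)
      rw [h1, mul_one]
  have hreal : ∀ n, (Ψ n).im = 0 := real_of_fsi_ne_zero hΨ (by rw [hΨ1]; exact one_ne_zero)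
  have hΨinv := inv_all hκ hQM hN hψ hΨ hΨz
  have hconj : ∀ n, conj (Ψ n) = Ψ n := fun n => Complex.conj_eq_iff_im.2 (hreal n)
  -- the dihedral quotient
  have hD2 : ∀ x ∈ Subgroup.zpowers g₀, x = 1 ∨ x = g₀ := by
    intro x hx
    obtain ⟨k, rfl⟩ := Subgroup.mem_zpowers_iff.1 hx
    have hg2 : g₀ ^ (2 : ℤ) = 1 := by
      rw [zpow_two]
      exact hCsq g₀ hg₀ hg₀C
    rcases Int.even_or_odd' k with ⟨m, hm | hm⟩
    · left
      rw [hm, zpow_mul, hg2, one_zpow]
    · right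
      rw [hm, zpow_add, zpow_mul, hg2, one_zpow, one_mul, zpow_one]
  have hlev : ∀ (d : N ≃ₗ[F] N) (hd : d ∈ O κ), ∃ x : XK κ QM, actN κ QM x = d := fun d hd =>
    ⟨⟨levi κ QM (⟨d, hd⟩, 1), levi_mem_XK _⟩, actN_levi _⟩
  have hg₀1 : g₀ ≠ 1 := by
    rintro rfl
    exact hg₀C (one_mem _)
  obtain ⟨t, ht, hgt⟩ := exists_fixed (hCsq g₀ hg₀ hg₀C) hg₀1
  obtain ⟨b', hb'⟩ := hκ.exists_polar_eq ht 1
  have hnorC : (C.comap (actN κ QM)).Normal := by
    refine ⟨fun n hn g => ?_⟩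
    rw [Subgroup.mem_comap, map_mul, map_mul, map_inv] at *
    by_cases hgC : actN κ QM g ∈ C
    · exact mul_mem (mul_mem hgC hn) (inv_mem hgC)
    · rw [hCinv _ (actN_mem g) hgC _ hn]
      exact inv_mem hn
  refine dihedral_ext (KN κ QM) (C.comap (actN κ QM)) ((Subgroup.zpowers g₀).comap (actN κ QM))
    (Subgroup.comap_mono bot_le) (Subgroup.comap_mono bot_le) ?_ ?_ ?_ ?_ ?_ ?_ hΨ hreal hΨinv
    ?_ hχ ?_
  · -- index two
    rw [Subgroup.index_eq_two_iff]
    obtain ⟨x₀, hx₀⟩ := hlev g₀ hg₀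
    refine ⟨x₀, fun y => ?_⟩
    rw [Subgroup.mem_comap, Subgroup.mem_comap, map_mul, hx₀]
    by_cases hy : actN κ QM y ∈ C
    · right
      refine ⟨hy, fun h => hg₀C ?_⟩
      have h6 := mul_mem (inv_mem hy) h
      rwa [inv_mul_cancel_left] at h6
    · left
      exact ⟨hCmul _ (actN_mem y) _ hg₀ hy hg₀C, hy⟩
  · -- odd
    show Odd ((((⊥ : Subgroup (N ≃ₗ[F] N)).comap (actN κ QM))).relIndex (C.comap (actN κ QM)))
    rw [Subgroup.relIndex_comap, Subgroup.relIndex_bot_left]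
    exact Odd.of_dvd_nat hCodd (Subgroup.card_dvd_of_le (Subgroup.map_comap_le _ _))
  · -- intersection
    rw [← Subgroup.comap_inf]
    congr 1
    rw [eq_bot_iff]
    rintro x ⟨hx1, hx2⟩
    rcases hD2 x hx1 with h | h
    · exact Subgroup.mem_bot.2 h
    · rw [h] at hx2
      exact absurd hx2 hg₀C
  · intro hle
    obtain ⟨x₀, hx₀⟩ := hlev g₀ hg₀
    have h1 : x₀ ∈ (Subgroup.zpowers g₀).comap (actN κ QM) := by
      rw [Subgroup.mem_comap, hx₀]
      exact Subgroup.mem_zpowers _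
    have h2 := hle h1
    rw [Subgroup.mem_comap, hx₀] at h2
    exact hg₀C h2
  · intro a ha b hb
    rw [Subgroup.mem_comap] at ha hb ⊢
    rw [map_mul, map_mul, map_mul, map_inv, map_inv, hCab _ ha _ hb, Subgroup.mem_bot]
    group
  · intro x hx h hh
    rw [Subgroup.mem_comap] at hx hh ⊢
    rw [map_mul, map_mul, map_mul, map_inv, hCinv _ (actN_mem x) hx _ hh, inv_mul_cancel]
    exact one_mem _
  · intro η hη hηΨ
    refine fsi_comap hκ hQM hN hb' (Subgroup.zpowers g₀) ?_ ?_ hM hψ hη ?_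
    · intro e he
      rcases hD2 e he.2 with h | h
      · rw [h]
        rfl
      · rw [h]
        exact hgt
    · refine good_of_sq fun x => ?_
      apply Subtype.ext
      show (x : N ≃ₗ[F] N) * x = 1
      rcases hD2 x x.2.2 with h | h
      · rw [h, mul_one]
      · rw [h]
        exact hCsq g₀ hg₀ hg₀C
    · intro c g
      have h1 := central_mul hη (hzc _ c)
      have h2 := central_sq hη h1 (hz2 _ c)
      have h3 := central_eq (α := fun n : KN κ QM => η ⟨n, Subgroup.comap_mono bot_le n.2⟩)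
        (β := Ψ) (z := ⟨zX hκ QM c, zX_mem hκ c ⊥⟩) (fun n => h1 ⟨n, _⟩) (hΨz c) h2 hηΨ
      rw [h1, h3]
  · have h1 : (fun n : KN κ QM => χ n * Ψ n) = fun n : KN κ QM => χ n * conj (Ψ n) := by
      funext n
      rw [hconj]
    rw [h1]
    exact hcon'

end Cfsg.Agent.H592.FSFour
end

-- part: H592/FSFourEx
section
/-!
# Existence of the model (T4)
-/

set_option autoImplicit false
set_option linter.unusedSectionVars false

universe u

namespace Cfsg.Agent.H592.FSFour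

open Cfsg QuadraticMap
open Cfsg.Agent.LieClassical.OrthCore Cfsg.Agent.H955.FS
open Cfsg.Agent.H955 (res perp mem_perp mem_perp' res_apply polar_res)
open Cfsg.Agent.H955 (nondegenerate_of_nondeg)

section

variable {F V N : Type u} [Field F] [AddCommGroup V] [Module F V] [FiniteDimensional F V]
  [AddCommGroup N] [Module F N] [FiniteDimensional F N]

/-- Representation of functionals. -/
theorem exists_rep_hom {L : Type*} [AddCommGroup L] [Module F L] {Q : QuadraticForm F V}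
    (hQ : Nondeg Q) (B : L →ₗ[F] Module.Dual F V) :
    ∃ c : L →ₗ[F] V, ∀ x v, polar Q (c x) v = B x v := by
  refine ⟨((LinearMap.BilinForm.toDual (polarBilin Q) (nondegenerate_of_nondeg hQ)).symm :
    Module.Dual F V →ₗ[F] V) ∘ₗ B, fun x v => ?_⟩
  have h1 := LinearMap.BilinForm.toDual_def (B := polarBilin Q)
    (b := nondegenerate_of_nondeg hQ) (m := (LinearMap.BilinForm.toDual (polarBilin Q)
      (nondegenerate_of_nondeg hQ)).symm (B x)) (n := v)
  rw [LinearEquiv.apply_symm_apply] at h1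
  exact h1.symm

variable [CharP F 2]

theorem exists_comp {Q : QuadraticForm F V} (hQ : Nondeg Q) {κ : QuadraticForm F N}
    (hκ : Nondeg κ) {ι : N →ₗ[F] V} (hι : Function.Injective ι) (h0 : ∀ x, Q (ι x) = 0) :
    ∃ j : N →ₗ[F] V, (∀ a b, polar Q (ι a) (j b) = polar κ a b) ∧ ∀ b, Q (j b) = 0 := by
  obtain ⟨p, hp⟩ := ι.exists_leftInverse_of_injective (LinearMap.ker_eq_bot.2 hι)
  obtain ⟨j₀, hj₀⟩ := exists_rep_hom hQ (((LinearMap.lcomp F F p) ∘ₗ polarBilin κ) :
    N →ₗ[F] Module.Dual F V)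
  have hj : ∀ a b, polar Q (j₀ b) (ι a) = polar κ b a := by
    intro a b
    rw [hj₀]
    show polar κ b (p (ι a)) = _
    have := congrArg (fun f : N →ₗ[F] N => f a) hp
    simp only [LinearMap.comp_apply, LinearMap.id_apply] at this
    rw [this]
  obtain ⟨B, hB⟩ := LinearMap.BilinMap.toQuadraticMap_surjective (Q.comp j₀)
  obtain ⟨c, hc⟩ := exists_rep_hom hκ (LinearMap.flip B)
  have hpol : ∀ b, polar κ b (c b) = Q (j₀ b) := by
    intro b
    rw [polar_comm, hc]
    exact congrArg (fun q : QuadraticForm F N => q b) hB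
  refine ⟨j₀ + ι ∘ₗ c, fun a b => ?_, fun b => ?_⟩
  · have h1 : polar Q (ι a) (ι (c b)) = 0 := by
      rw [polar, ← map_add, h0, h0, h0]
      simp
    rw [LinearMap.add_apply, LinearMap.comp_apply, polar_add_right, h1, add_zero, polar_comm, hj,
      polar_comm]
  · rw [LinearMap.add_apply, LinearMap.comp_apply, Q_add, h0, add_zero, hj, hpol]
    exact CharTwo.add_self_eq_zero _

/-- **The model.** -/
theorem exists_model {Q : QuadraticForm F V} (hQ : Nondeg Q) {κ : QuadraticForm F N}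
    (hκ : Nondeg κ) {ι : N →ₗ[F] V} (hι : Function.Injective ι) (h0 : ∀ x, Q (ι x) = 0) :
    ∃ (M : Submodule F V) (e : (N × N × M) ≃ₗ[F] V), Nondeg (res Q M) ∧
      (∀ a, e (a, 0, 0) = ι a) ∧ ∀ v, Q (e v) = qW κ (res Q M) v := by
  obtain ⟨j, hj, hj0⟩ := exists_comp hQ hκ hι h0
  have hιι : ∀ a b, polar Q (ι a) (ι b) = 0 := by
    intro a b
    rw [polar, ← map_add, h0, h0, h0]
    simp
  have hjj : ∀ a b, polar Q (j a) (j b) = 0 := by
    intro a b
    rw [polar, ← map_add, hj0, hj0, hj0]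
    simp
  have hji : ∀ a b, polar Q (j b) (ι a) = polar κ a b := by
    intro a b
    rw [polar_comm, hj]
  let W : Submodule F V := LinearMap.range ι ⊔ LinearMap.range j
  let M : Submodule F V := perp Q W
  have hMι : ∀ m ∈ M, ∀ a, polar Q m (ι a) = 0 := fun m hm a =>
    (mem_perp'.1 hm) _ (Submodule.mem_sup_left ⟨a, rfl⟩)
  have hMj : ∀ m ∈ M, ∀ a, polar Q m (j a) = 0 := fun m hm a =>
    (mem_perp'.1 hm) _ (Submodule.mem_sup_right ⟨a, rfl⟩)
  let f : (N × N × M) →ₗ[F] V := ι.coprod (j.coprod M.subtype)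
  have hf : ∀ v, f v = ι v.1 + (j v.2.1 + v.2.2) := fun v => rfl
  have hinj : Function.Injective f := by
    rw [← LinearMap.ker_eq_bot, eq_bot_iff]
    rintro ⟨a, b, m⟩ hv
    rw [LinearMap.mem_ker, hf] at hv
    simp only at hv
    have h1 : a = 0 := by
      apply hκ
      intro y
      have h2 : polar Q (ι a + (j b + (m : V))) (j y) = 0 := by rw [hv, polar_zero_left]
      rwa [polar_add_left, polar_add_left, hj, hjj, hMj m m.2, add_zero, add_zero] at h2
    have h3 : b = 0 := by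
      apply hκ
      intro y
      have h2 : polar Q (ι a + (j b + (m : V))) (ι y) = 0 := by rw [hv, polar_zero_left]
      rw [polar_add_left, polar_add_left, hιι, hji, hMι m m.2, add_zero, zero_add] at h2
      rw [polar_comm]
      exact h2
    rw [h1, h3, map_zero, map_zero, zero_add, zero_add] at hv
    have h4 : m = 0 := Subtype.ext hv
    rw [h1, h3, h4]
    exact Submodule.mem_bot F |>.2 rfl
  have hsurj : Function.Surjective f := by
    intro v
    obtain ⟨b, hb⟩ := exists_rep_hom (L := F) hκ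
      (LinearMap.toSpanSingleton F _ ((LinearMap.lcomp F F ι) (polarBilin Q v)))
    obtain ⟨a, ha⟩ := exists_rep_hom (L := F) hκ
      (LinearMap.toSpanSingleton F _ ((LinearMap.lcomp F F j) (polarBilin Q v)))
    have hb1 : ∀ x, polar κ (b 1) x = polar Q v (ι x) := by
      intro x
      rw [hb, LinearMap.toSpanSingleton_apply, one_smul]
      rfl
    have ha1 : ∀ x, polar κ (a 1) x = polar Q v (j x) := by
      intro x
      rw [ha, LinearMap.toSpanSingleton_apply, one_smul]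
      rfl
    have hm : v - ι (a 1) - j (b 1) ∈ M := by
      rw [mem_perp']
      intro w hw
      obtain ⟨w₁, ⟨x, rfl⟩, w₂, ⟨y, rfl⟩, rfl⟩ := Submodule.mem_sup.1 hw
      rw [polar_add_right, polar_sub_left, polar_sub_left, polar_sub_left, polar_sub_left, hιι,
        hji, hj, hjj, sub_zero, sub_zero, polar_comm κ x, hb1, ha1]
      ring
    refine ⟨(a 1, b 1, ⟨_, hm⟩), ?_⟩
    rw [hf]
    simp only
    abel
  have hbij : Function.Bijective f := ⟨hinj, hsurj⟩
  refine ⟨M, LinearEquiv.ofBijective f hbij, ?_, ?_, ?_⟩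
  · intro m hm
    apply Subtype.ext
    apply hQ
    intro y
    obtain ⟨v, rfl⟩ := hsurj y
    have h1 := hm v.2.2
    rw [polar_res] at h1
    rw [hf, polar_add_right, polar_add_right, hMι m m.2, hMj m m.2, h1, add_zero, add_zero]
  · intro a
    show f (a, 0, 0) = ι a
    rw [hf]
    simp
  · intro v
    show Q (f v) = _
    rw [hf, qW_apply, Q_add, Q_add, h0, hj0, polar_add_right, hj,
      polar_comm Q (j v.2.1), hMj _ v.2.2.2, polar_comm Q (ι v.1), hMι _ v.2.2.2, res_apply]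
    ring

/-- Transport of automorphisms. -/
def trE {V' : Type*} [AddCommGroup V'] [Module F V'] (e : V' ≃ₗ[F] V) :
    (V' ≃ₗ[F] V') ≃* (V ≃ₗ[F] V) where
  toFun g := (e.symm.trans g).trans e
  invFun g := (e.trans g).trans e.symm
  left_inv g := by ext x; simp
  right_inv g := by ext x; simp
  map_mul' g h := by ext x; simp

theorem trE_apply {V' : Type*} [AddCommGroup V'] [Module F V'] (e : V' ≃ₗ[F] V)
    (g : V' ≃ₗ[F] V') (x : V) : trE e g x = e (g (e.symm x)) := rfl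

/-- Transport of the plane stabilisers. -/
theorem planeK_equiv {V' : Type u} [AddCommGroup V'] [Module F V'] {Q : QuadraticForm F V}
    {Q' : QuadraticForm F V'} {κ : QuadraticForm F N} {ι : N →ₗ[F] V} {ι' : N →ₗ[F] V'}
    (e : V' ≃ₗ[F] V) (he : ∀ v, Q (e v) = Q' v) (hι : ∀ a, e (ι' a) = ι a) [Finite (planeK Q' κ ι')]
    {w : Prop} (h : FSGood w (planeK Q' κ ι')) : FSGood w (planeK Q κ ι) := by
  have h1 : (planeK Q' κ ι').map (trE e).toMonoidHom = planeK Q κ ι := by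
    ext g
    rw [Subgroup.mem_map]
    constructor
    · rintro ⟨g', ⟨hg1, d, hd, hda⟩, rfl⟩
      refine ⟨?_, d, hd, ?_⟩
      · intro v
        show Q (e (g' (e.symm v))) = Q v
        rw [he, hg1, ← he, LinearEquiv.apply_symm_apply]
      · intro x
        show e (g' (e.symm (ι x))) = ι (d x)
        rw [← hι, ← hι, LinearEquiv.symm_apply_apply, hda]
    · rintro ⟨hg1, d, hd, hda⟩
      refine ⟨(trE e).symm g, ⟨?_, d, hd, ?_⟩, (trE e).apply_symm_apply g⟩
      · intro v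
        show Q' (e.symm (g (e v))) = Q' v
        rw [← he, ← he, LinearEquiv.apply_symm_apply, hg1]
      · intro x
        show e.symm (g (e (ι' x))) = ι' (d x)
        rw [LinearEquiv.symm_apply_eq, hι, hι, hda]
  exact FSGood.of_mulEquiv (((trE e).subgroupMap (planeK Q' κ ι')).trans
    (MulEquiv.subgroupCongr h1)) h

end

/-- Reduction of `T4` to the groups `muS`. -/
theorem T4_of_muS (n : ℕ) (h0 : ∀ m < n, T0.{u} m)
    (hmu : ∀ k < n, ∀ (F : Type u) [Field F] [Finite F] [CharP F 2] (N : Type u) [AddCommGroup N]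
      [Module F N] [FiniteDimensional F N] (M : Type u) [AddCommGroup M] [Module F M]
      [FiniteDimensional F M] (κ : QuadraticForm F N) (QM : QuadraticForm F M), Nondeg κ →
      Module.finrank F N = 2 → Nondeg QM → Module.finrank F M = 2 * k → ∀ μ : N →ₗ[F] M,
      FSGood (∃ x : N, x ≠ 0 ∧ κ x = 0) (muS κ QM μ)) : T4.{u} n := by
  intro F V _ _ _ _ _ _ Q hQ hV N _ _ _ κ hκ hN ι hι hι0
  obtain ⟨M, e, hM, he1, he2⟩ := exists_model hQ hκ hι hι0
  have hfin := finite_aut F (N × N × M)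
  have hdim := e.finrank_eq
  rw [Module.finrank_prod, Module.finrank_prod, hN, hV] at hdim
  obtain ⟨k, hk⟩ : ∃ k, n = k + 2 := ⟨n - 2, by omega⟩
  have hMk : Module.finrank F M = 2 * k := by omega
  have hkn : k < n := by omega
  refine planeK_equiv e he2 he1 (Q' := qW κ (res Q M)) (ι' := LinearMap.inl F N (N × M)) ?_
  intro χ hχ
  by_cases hker : ∀ c : F, χ ⟨zc c, zc_mem_XK hκ c⟩ = χ 1
  · exact lin_case hκ hM hN (hmu k hkn F N M κ (res Q M) hκ hN hM hMk) hχ hker
  · push Not at hker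
    exact Or.inl (nonlin_case hκ hM hN (h0 k hkn F M (res Q M) hM hMk) hχ hker)

end Cfsg.Agent.H592.FSFour
end

-- part: H592/FSFourInj
section
/-!
# The groups `muS κ QM μ` for `μ` injective or zero (T4)
-/

set_option autoImplicit false
set_option linter.unusedSectionVars false

universe u

namespace Cfsg.Agent.H592.FSFour

open Cfsg QuadraticMap
open Cfsg.Agent.LieClassical.OrthCore Cfsg.Agent.H955.FS
open Cfsg.Agent.H955 (res perp mem_perp mem_perp' res_apply polar_res)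
open Cfsg.Agent.H955 (nondegenerate_of_nondeg glue glue_left glue_right glue_mem_O nondeg_perp
  finrank_add_perp)

variable {F N M : Type u} [Field F] [Finite F] [CharP F 2] [AddCommGroup N] [Module F N]
  [FiniteDimensional F N] [AddCommGroup M] [Module F M] [FiniteDimensional F M]
  {κ : QuadraticForm F N} {QM : QuadraticForm F M} {μ : N →ₗ[F] M}

theorem good_plane (hκ : Nondeg κ) (hN : Module.finrank F N = 2) : FSGood False ↥(O κ) := by
  have hfN := finite_aut F N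
  obtain ⟨C, hCO, hCodd, hCsq, ⟨g₀, hg₀, hg₀C⟩, -⟩ := plane_compl κ hκ hN
  refine FSGood.mono ?_ (fsGood_of_compl (C.subgroupOf (O κ)) ?_ ?_)
  · intro h
    apply hg₀C
    have h1 : (⟨g₀, hg₀⟩ : O κ) ∈ C.subgroupOf (O κ) := by
      rw [h]
      exact Subgroup.mem_top _
    exact h1
  · rw [Nat.card_congr (Subgroup.subgroupOfEquivOfLe hCO).toEquiv]
    exact hCodd
  · intro x hx
    exact Subtype.ext (hCsq x x.2 hx)

theorem muS_zero {k : ℕ} (h0 : T0.{u} k) (hκ : Nondeg κ) (hN : Module.finrank F N = 2)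
    (hQM : Nondeg QM) (hM : Module.finrank F M = 2 * k) : FSGood False (muS κ QM 0) := by
  have hfN := finite_aut F N
  have hfM := finite_aut F M
  have h1 : FSGood False (↥(O κ) × ↥(O QM)) := FSGood.prod (good_plane hκ hN)
    (h0 F M QM hQM hM)
  have h2 : muS κ QM 0 = ⊤ := by
    rw [eq_top_iff]
    intro p _
    rw [mem_muS]
    intro x
    simp
  rw [h2]
  exact FSGood.of_mulEquiv Subgroup.topEquiv.symm h1

/-- For `μ` injective, `muS` is the stabiliser `planeK`. -/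
theorem muS_equiv (hμ : Function.Injective μ) {w : Prop} (h : FSGood w (planeK QM κ μ)) :
    FSGood w (muS κ QM μ) := by
  have hfM := finite_aut F M
  let f : muS κ QM μ →* planeK QM κ μ :=
    { toFun := fun p => ⟨((p : ↥(O κ) × ↥(O QM)).2 : M ≃ₗ[F] M),
        (p : ↥(O κ) × ↥(O QM)).2.2, (p : ↥(O κ) × ↥(O QM)).1, (p : ↥(O κ) × ↥(O QM)).1.2,
        fun x => (mem_muS.1 p.2 x)⟩
      map_one' := rfl
      map_mul' := fun _ _ => rfl }
  have hf : Function.Bijective f := by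
    constructor
    · intro p q hpq
      have h1 : ((p : ↥(O κ) × ↥(O QM)).2 : M ≃ₗ[F] M) = (q : ↥(O κ) × ↥(O QM)).2 :=
        congrArg (fun z : planeK QM κ μ => (z : M ≃ₗ[F] M)) hpq
      apply Subtype.ext
      refine Prod.ext (Subtype.ext ?_) (Subtype.ext h1)
      ext x
      apply hμ
      rw [← mem_muS.1 p.2 x, ← mem_muS.1 q.2 x, h1]
    · rintro ⟨g, hg, d, hd, hda⟩
      exact ⟨⟨(⟨d, hd⟩, ⟨g, hg⟩), mem_muS.2 hda⟩, rfl⟩
  exact FSGood.of_mulEquiv (MulEquiv.ofBijective f hf).symm h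

/-- two forms on the plane -/
theorem good_two_forms {κ' : QuadraticForm F N} (hκ : Nondeg κ) (hκ' : Nondeg κ')
    (hN : Module.finrank F N = 2) : FSGood False ↥(O κ ⊓ O κ') := by
  have hfN := finite_aut F N
  obtain ⟨C, hCO, hCodd, hCsq, hCtop⟩ := plane_two_forms κ κ' hκ hκ' hN
  by_cases hC : C = O κ ⊓ O κ'
  · have h1 := hCtop hC
    refine good_of_sq fun x => ?_
    have h2 : (x : N ≃ₗ[F] N) ∈ C := by
      rw [hC]
      exact x.2
    rw [h1] at h2
    have h3 : x = 1 := Subtype.ext (Subgroup.mem_bot.1 h2)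
    rw [h3, mul_one]
  · refine FSGood.mono ?_ (fsGood_of_compl (C.subgroupOf (O κ ⊓ O κ')) ?_ ?_)
    · intro h
      apply hC
      refine le_antisymm hCO ?_
      exact Subgroup.subgroupOf_eq_top.1 h
    · rw [Nat.card_congr (Subgroup.subgroupOfEquivOfLe hCO).toEquiv]
      exact hCodd
    · intro x hx
      exact Subtype.ext (hCsq x x.2 hx)

theorem polar_compμ (a b : N) : polar (QM.comp μ) a b = polar QM (μ a) (μ b) := by
  unfold polar
  rw [QuadraticMap.comp_apply, QuadraticMap.comp_apply, QuadraticMap.comp_apply, map_add]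

/-- The image of the plane is nondegenerate. -/
theorem planeK_nondeg {k : ℕ} (h0 : ∀ m ≤ k, T0.{u} m) (hκ : Nondeg κ)
    (hN : Module.finrank F N = 2) (hQM : Nondeg QM) (hM : Module.finrank F M = 2 * k)
    (hμ : Function.Injective μ) (hq : Nondeg (QM.comp μ)) : FSGood False (planeK QM κ μ) := by
  have hfN := finite_aut F N
  have hfM := finite_aut F M
  let U : Submodule F M := LinearMap.range μ
  let ε : N ≃ₗ[F] U := LinearEquiv.ofInjective μ hμ
  have hε : ∀ x, ((ε x : U) : M) = μ x := fun x => rfl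
  have hU : Nondeg (res QM U) := by
    intro x hx
    obtain ⟨a, rfl⟩ := ε.surjective x
    have h1 : a = 0 := by
      apply hq
      intro b
      rw [polar_compμ]
      exact hx (ε b)
    rw [h1, map_zero]
  have hU2 : Module.finrank F U = 2 := by rw [← ε.finrank_eq, hN]
  have hsum := finrank_add_perp hQM U
  rw [hU2, hM] at hsum
  have hP : FSGood False ↥(O (res QM (perp QM U))) :=
    h0 (k - 1) (by omega) F _ (res QM (perp QM U)) (nondeg_perp hQM hU) (by omega)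
  have hfP := finite_aut F (perp QM U)
  let f : (↥(O κ ⊓ O (QM.comp μ)) × ↥(O (res QM (perp QM U)))) →* (M ≃ₗ[F] M) :=
    (glue hU).comp (((trE ε).toMonoidHom.comp (O κ ⊓ O (QM.comp μ)).subtype).prodMap
      (O (res QM (perp QM U))).subtype)
  have hf : ∀ p, f p = glue hU (trE ε (p.1 : N ≃ₗ[F] N), (p.2 : perp QM U ≃ₗ[F] perp QM U)) :=
    fun p => rfl
  have hfμ : ∀ p x, f p (μ x) = μ ((p.1 : N ≃ₗ[F] N) x) := by
    intro p x
    rw [hf, ← hε, glue_left]
    show ((trE ε (p.1 : N ≃ₗ[F] N) (ε x) : U) : M) = _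
    rw [trE_apply, LinearEquiv.symm_apply_apply, hε]
  have hrange : f.range = planeK QM κ μ := by
    ext g
    constructor
    · rintro ⟨p, rfl⟩
      refine ⟨?_, p.1, p.1.2.1, hfμ p⟩
      rw [hf, glue_mem_O]
      refine ⟨?_, p.2.2⟩
      intro u
      obtain ⟨a, rfl⟩ := ε.surjective u
      show res QM U (trE ε (p.1 : N ≃ₗ[F] N) (ε a)) = res QM U (ε a)
      rw [trE_apply, LinearEquiv.symm_apply_apply]
      exact p.1.2.2 a
    · rintro ⟨hg, d, hd, hda⟩
      obtain ⟨p, hp1, hp2, hpg⟩ := exists_glue hU hg (by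
        rintro _ ⟨x, rfl⟩
        exact ⟨d x, (hda x).symm⟩)
      have hdq : d ∈ O (QM.comp μ) := by
        intro x
        show QM (μ (d x)) = QM (μ x)
        rw [← hda, hg]
      have h1 : p.1 = trE ε d := by
        ext u
        obtain ⟨a, rfl⟩ := ε.surjective u
        rw [trE_apply, LinearEquiv.symm_apply_apply, hε, ← hda, ← hpg, ← hε, glue_left]
      refine ⟨(⟨d, hd, hdq⟩, ⟨p.2, hp2⟩), ?_⟩
      rw [hf, ← hpg, ← h1]
  have h1 : FSGood False f.range := ((good_two_forms hκ hq hN).prod hP).of_surjective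
    f.rangeRestrict f.rangeRestrict_surjective
  rw [hrange] at h1
  exact h1

/-- The form does not vanish on the image of the plane, its polar form does. -/
theorem planeK_trans {k : ℕ} (h5 : T5.{u} k) (hκ : Nondeg κ)
    (hN : Module.finrank F N = 2) (hQM : Nondeg QM) (hM : Module.finrank F M = 2 * k)
    (hμ : Function.Injective μ) (hq : ∀ a b, polar QM (μ a) (μ b) = 0) (hq1 : ∃ u, QM (μ u) ≠ 0) :
    FSGood False (planeK QM κ μ) := by
  obtain ⟨v, hu⟩ := hq1
  have hadd : ∀ a b, QM (μ (a + b)) = QM (μ a) + QM (μ b) := by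
    intro a b
    rw [map_add, Q_add, hq, add_zero]
  have hsm : ∀ (c : F) a, QM (μ (c • a)) = c * c * QM (μ a) := by
    intro c a
    rw [map_smul, QuadraticMap.map_smul, smul_eq_mul]
  have hv0 : v ≠ 0 := by
    rintro rfl
    exact hu (by rw [map_zero, QuadraticMap.map_zero])
  obtain ⟨w, hw⟩ := hκ.exists_polar_eq hv0 1
  obtain ⟨c, hc⟩ := FiniteField.isSquare_of_char_two (ringChar.eq F 2) (QM (μ w) / QM (μ v))
  set s : N := w + c • v with hs
  have hself : ∀ x : N, polar κ x x = 0 := polar_self0 κ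
  have hvs : polar κ v s = 1 := by
    rw [hs, polar_add_right, polar_smul_right, hw, hself, smul_zero, add_zero]
  have hsv : polar κ s v = 1 := by rw [polar_comm, hvs]
  have hs0 : s ≠ 0 := by
    intro h
    rw [h, polar_zero_right] at hvs
    exact zero_ne_one hvs
  have hQs : QM (μ s) = 0 := by
    rw [hs, hadd, hsm, ← hc, div_mul_cancel₀ _ hu]
    exact CharTwo.add_self_eq_zero _
  clear_value s
  have hexp := fun x => H955.FS.Plane.expand hN hvs x
  let Γ : AddSubgroup F :=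
    { carrier := {γ | γ * γ * κ s + γ = 0}
      zero_mem' := by simp
      add_mem' := by
        intro a b ha hb
        show (a + b) * (a + b) * κ s + (a + b) = 0
        have ha' : a * a * κ s + a = 0 := ha
        have hb' : b * b * κ s + b = 0 := hb
        have h2 : (2 : F) = 0 := CharTwo.two_eq_zero
        linear_combination ha' + hb' + (a * b * κ s) * h2
      neg_mem' := by
        intro a ha
        show (-a) * (-a) * κ s + (-a) = 0
        have ha' : a * a * κ s + a = 0 := ha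
        have h2 : (2 : F) = 0 := CharTwo.two_eq_zero
        linear_combination ha' - a * h2 }
  have hΓ : ∀ γ, γ ∈ Γ ↔ γ * γ * κ s + γ = 0 := fun γ => Iff.rfl
  have hgroup : planeK QM κ μ = transV QM (μ s) (μ v) Γ := by
    ext g
    rw [mem_planeK, mem_transV]
    constructor
    · rintro ⟨hg, d, hd, hda⟩
      have hdq : ∀ x, QM (μ (d x)) = QM (μ x) := by
        intro x
        rw [← hda, hg]
      -- `d s`
      have h1 : d s = polar κ (d s) v • s := by
        have h2 := hexp (d s)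
        have h3 := hdq s
        rw [h2, hadd, hsm, hsm, hQs, mul_zero, add_zero] at h3
        have h4 : polar κ (d s) s = 0 := by
          rcases mul_eq_zero.1 h3 with h4 | h4
          · exact mul_self_eq_zero.1 h4
          · exact absurd h4 hu
        rw [h4, zero_smul, zero_add] at h2
        exact h2
      have h5 : polar κ (d v) s = 1 := by
        have h2 := hexp (d v)
        have h3 := hdq v
        rw [h2, hadd, hsm, hsm, hQs, mul_zero, add_zero] at h3
        have h4 : polar κ (d v) s * polar κ (d v) s = 1 :=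
          mul_right_cancel₀ hu (by rw [h3, one_mul])
        rcases mul_self_eq_one_iff.1 h4 with h6 | h6
        · exact h6
        · rw [h6]
          exact CharTwo.neg_eq 1
      have h6 : polar κ (d s) v = 1 := by
        have h7 := polar_map hd v s
        rw [h1, polar_smul_right, h5, hvs, smul_eq_mul, mul_one] at h7
        exact h7
      rw [h6, one_smul] at h1
      have h8 : d v = v + polar κ (d v) v • s := by
        conv_lhs => rw [hexp (d v), h5, one_smul]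
      refine ⟨hg, ?_, polar κ (d v) v, ?_, ?_⟩
      · rw [hda, h1]
      · rw [hΓ]
        have h9 := hd v
        rw [h8, Q_add, QuadraticMap.map_smul, polar_smul_right, hvs, smul_eq_mul, smul_eq_mul,
          mul_one] at h9
        rw [add_assoc] at h9
        exact left_eq_add.1 h9.symm
      · rw [hda, h8, map_add, map_smul]
        congr 2
        rw [← h8]
    · rintro ⟨hg, hgs, γ, hγ, hgv⟩
      refine ⟨hg, ?_⟩
      rw [hΓ] at hγ
      by_cases hγ0 : γ = 0
      · refine ⟨1, one_mem _, fun x => ?_⟩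
        show g (μ x) = μ x
        rw [hexp x, map_add, map_smul, map_smul, map_add, map_smul, map_smul, hgs, hgv, hγ0,
          zero_smul, add_zero]
      · have hκs : γ * κ s + 1 = 0 := by
          have h1 : γ * (γ * κ s + 1) = 0 := by
            linear_combination hγ
          exact (mul_eq_zero.1 h1).resolve_left hγ0
        have hκs0 : κ s ≠ 0 := by
          intro h
          rw [h, mul_zero, zero_add] at hκs
          exact one_ne_zero hκs
        have hγs : (κ s)⁻¹ = γ := by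
          have h1 : γ * κ s = 1 := by
            have h2 : (2 : F) = 0 := CharTwo.two_eq_zero
            linear_combination hκs - h2
          exact inv_eq_of_mul_eq_one_left h1
        refine ⟨refl κ s hκs0, refl_mem_O hκs0, fun x => ?_⟩
        have h1 : refl κ s hκs0 v = v + γ • s := by
          rw [refl_apply, hsv, mul_one, hγs, sub_eq_add_neg, ← neg_smul, CharTwo.neg_eq]
        have h2 : refl κ s hκs0 s = s := by
          rw [refl_apply, hself, mul_zero, zero_smul, sub_zero]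
        have h3 : refl κ s hκs0 x = polar κ x s • (v + γ • s) + polar κ x v • s := by
          conv_lhs => rw [hexp x]
          rw [map_add, map_smul, map_smul, h1, h2]
        rw [h3]
        conv_lhs => rw [hexp x]
        rw [map_add, map_smul, map_smul, map_add, map_smul, map_smul, hgs, hgv, map_add, map_smul,
          map_smul, map_add, map_smul]
  rw [hgroup]
  exact h5 F M QM hQM hM (μ s) (μ v) Γ (fun h => hs0 (hμ (by rw [h, map_zero]))) hQs hu (hq s v)

/-- **PIECE A.** -/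
theorem muS_inj {k : ℕ} (h0 : ∀ m ≤ k, T0.{u} m) (h4 : T4.{u} k) (h5 : T5.{u} k) (hκ : Nondeg κ)
    (hN : Module.finrank F N = 2) (hQM : Nondeg QM) (hM : Module.finrank F M = 2 * k)
    (hμ : Function.Injective μ) : FSGood (∃ x : N, x ≠ 0 ∧ κ x = 0) (muS κ QM μ) := by
  apply muS_equiv hμ
  by_cases hp : ∀ a b, polar QM (μ a) (μ b) = 0
  · by_cases h1 : ∀ x, QM (μ x) = 0
    · exact h4 F M QM hQM hM N κ hκ hN μ hμ h1
    · push Not at h1
      exact (planeK_trans h5 hκ hN hQM hM hμ hp h1).mono False.elim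
  · refine (planeK_nondeg h0 hκ hN hQM hM hμ ?_).mono False.elim
    obtain ⟨γ, hγ⟩ := H955.FS.Plane.polar_prop hκ hN (QM.comp μ)
    have hγ0 : γ ≠ 0 := by
      rintro rfl
      apply hp
      intro a b
      rw [← polar_compμ, hγ, zero_mul]
    intro x hx
    apply hκ
    intro y
    have h1 := hx y
    rw [hγ] at h1
    exact (mul_eq_zero.1 h1).resolve_left hγ0

end Cfsg.Agent.H592.FSFour
end

-- part: H869/MuRank
section
/-!
# The groups `muS κ QM μ` for `μ` of rank one (T4 of the project FS_even)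
-/

set_option autoImplicit false
set_option linter.unusedSectionVars false

universe u

namespace Cfsg.Agent.H869.MuRank

open Cfsg QuadraticMap
open Cfsg.Agent.LieClassical.OrthCore Cfsg.Agent.LieClassical.OrthTrans
open Cfsg.Agent.H955.FS Cfsg.Agent.H592.FSFour

/-- groups of exponent two -/
theorem fsGood_of_sq {G : Type u} [Group G] [Finite G] (h : ∀ x : G, x * x = 1) :
    FSGood False G := by
  classical
  have := Fintype.ofFinite G
  intro χ hχ
  left
  have h1 : fsi χ = χ 1 := by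
    rw [fsi_eq_sum]
    have h2 : ∑ s : G, χ (s * s) = (Nat.card G : ℂ) * χ 1 := by
      rw [Finset.sum_congr rfl (fun s _ => by rw [h s]), Finset.sum_const, Finset.card_univ,
        nsmul_eq_mul, Nat.card_eq_fintype_card]
    rw [h2, ← mul_assoc, inv_mul_cancel₀ Characters.Core.card_ne_zero_complex, one_mul]
  obtain ⟨n, hn, hn'⟩ := Characters.Core.isIrr_apply_one hχ
  rcases fsi_cases hχ with h3 | h3 | h3
  · rw [h1, hn'] at h3
    have : n = 0 := by exact_mod_cast h3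
    omega
  · exact h3
  · rw [h1, hn'] at h3
    have h4 : ((n : ℤ) : ℂ) = ((-1 : ℤ) : ℂ) := by push_cast; exact h3
    have h5 : (n : ℤ) = -1 := by exact_mod_cast h4
    omega

variable {F N M : Type u} [Field F] [Finite F] [CharP F 2] [AddCommGroup N] [Module F N]
  [FiniteDimensional F N] [AddCommGroup M] [Module F M] [FiniteDimensional F M]
  {κ : QuadraticForm F N} {QM : QuadraticForm F M} {μ : N →ₗ[F] M}

theorem mu_apply (hN : Module.finrank F N = 2) {e x₁ : N} (hex : polar κ e x₁ = 1)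
    (hμe : μ e = 0) (v : N) : μ v = polar κ v e • μ x₁ := by
  conv_lhs => rw [Plane.expand hN hex v]
  rw [map_add, map_smul, map_smul, hμe, smul_zero, zero_add]

theorem exists_beta (hκ : Nondeg κ) (hN : Module.finrank F N = 2) {e x₁ : N}
    (hex : polar κ e x₁ = 1) (he : e ≠ 0) (hμe : μ e = 0) (hm : μ x₁ ≠ 0)
    {p : ↥(O κ) × ↥(O QM)} (hp : p ∈ muS κ QM μ) :
    ∃ β : Fˣ, (p.1 : N ≃ₗ[F] N) e = β • e ∧ (p.2 : M ≃ₗ[F] M) (μ x₁) = β⁻¹ • μ x₁ := by
  have h1 : polar κ e ((p.1 : N ≃ₗ[F] N) e) = 0 := by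
    have h2 := (mem_muS.1 hp) e
    rw [hμe, map_zero, mu_apply hN hex hμe] at h2
    have h3 := (smul_eq_zero.1 h2.symm).resolve_right hm
    rwa [polar_comm] at h3
  obtain ⟨s, hs⟩ := Plane.prop_of_polar hκ hN he h1
  have h4 : s * polar κ e ((p.1 : N ≃ₗ[F] N) x₁) = 1 := by
    have h5 := polar_map p.1.2 e x₁
    rw [hs, polar_smul_left, hex, smul_eq_mul] at h5
    exact h5
  have hs0 : s ≠ 0 := left_ne_zero_of_mul_eq_one h4
  refine ⟨Units.mk0 s hs0, hs, ?_⟩
  rw [(mem_muS.1 hp) x₁, mu_apply hN hex hμe]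
  have h6 : polar κ ((p.1 : N ≃ₗ[F] N) x₁) e = s⁻¹ := by
    rw [polar_comm]
    exact eq_inv_of_mul_eq_one_right h4
  rw [h6]
  rfl

theorem finite_equiv (F N : Type u) [Field F] [Finite F] [AddCommGroup N] [Module F N]
    [FiniteDimensional F N] : Finite (N ≃ₗ[F] N) := by
  have : Finite N := Module.finite_of_finite F
  exact Finite.of_injective (fun e : N ≃ₗ[F] N => (e : N → N)) DFunLike.coe_injective

/-- an element fixing `e` and `x₁` is trivial -/
theorem eq_one_of_fix (hN : Module.finrank F N = 2) {e x₁ : N} (hex : polar κ e x₁ = 1)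
    {d : N ≃ₗ[F] N} (h1 : d e = e) (h2 : d x₁ = x₁) : d = 1 := by
  ext v
  rw [Plane.expand hN hex v, map_add, map_smul, map_smul, h1, h2]
  rfl

/-- The nonsingular kernel. -/
theorem rank_one_nonsing (hκ : Nondeg κ) (hN : Module.finrank F N = 2) (hQM : Nondeg QM) {k : ℕ}
    (hM : Module.finrank F M = 2 * k) (h1 : T1.{u} k) (h2 : T2.{u} k) {e x₁ : N}
    (hex : polar κ e x₁ = 1) (he : e ≠ 0) (hμe : μ e = 0) (hm : μ x₁ ≠ 0) (hκe : κ e ≠ 0) :
    FSGood False (muS κ QM μ) := by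
  classical
  have hfN := finite_equiv F N
  have hfM := finite_equiv F M
  -- the stabiliser of `e` in the plane
  have hsq : ∀ x : fixV κ e, x * x = 1 := by
    rintro ⟨d, hd, hde⟩
    apply Subtype.ext
    show d * d = 1
    have h3 : d x₁ = polar κ (d x₁) x₁ • e + x₁ := by
      have h4 := Plane.expand hN hex (d x₁)
      have h5 : polar κ (d x₁) e = 1 := by
        have h6 := polar_map hd e x₁
        rw [hde, hex, polar_comm] at h6
        exact h6
      rw [h5, one_smul] at h4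
      exact h4
    refine eq_one_of_fix hN hex ?_ ?_
    · show d (d e) = e
      rw [hde, hde]
    · show d (d x₁) = x₁
      rw [h3, map_add, map_smul, hde]
      have h7 : d x₁ - polar κ (d x₁) x₁ • e = x₁ := by
        conv_lhs => rw [h3]
        rw [polar_add_left, polar_smul_left, hex, Plane.polar_self0 x₁]
        simp
      have h8 : polar κ (d x₁) x₁ • e + d x₁ = d x₁ - polar κ (d x₁) x₁ • e := by
        have h9 : (2 : F) • (polar κ (d x₁) x₁ • e) = 0 := by
          rw [CharTwo.two_eq_zero, zero_smul]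
        rw [two_smul] at h9
        rw [sub_eq_add_neg, add_comm, ← eq_neg_of_add_eq_zero_left h9]
      rw [h8, h7]
  have hgood1 : FSGood False (fixV κ e) := fsGood_of_sq hsq
  have hgood2 : FSGood False (fixV QM (μ x₁)) := by
    by_cases h : QM (μ x₁) = 0
    · exact h1 F M QM hQM hM _ hm h
    · exact h2 F M QM hQM hM _ h
  let f : (fixV κ e) × (fixV QM (μ x₁)) →* muS κ QM μ :=
    { toFun := fun q => ⟨(⟨q.1.1, q.1.2.1⟩, ⟨q.2.1, q.2.2.1⟩), by
        intro v
        show (q.2 : M ≃ₗ[F] M) (μ v) = μ ((q.1 : N ≃ₗ[F] N) v)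
        rw [mu_apply hN hex hμe v, mu_apply hN hex hμe ((q.1 : N ≃ₗ[F] N) v), map_smul, q.2.2.2]
        congr 1
        have h3 := polar_map q.1.2.1 v e
        rw [q.1.2.2] at h3
        exact h3.symm⟩
      map_one' := rfl
      map_mul' := fun _ _ => rfl }
  refine FSGood.of_surjective f ?_ (hgood1.prod hgood2)
  rintro ⟨⟨⟨d, hd⟩, ⟨h, hh⟩⟩, hp⟩
  obtain ⟨β, hβ1, hβ2⟩ := exists_beta hκ hN hex he hμe hm hp
  have hβ : β = 1 := by
    have h3 : κ (d e) = κ e := hd e
    have h4 : d e = (β : F) • e := hβ1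
    rw [h4, QuadraticMap.map_smul, smul_eq_mul] at h3
    have h5 : ((β : F) - 1) * ((β : F) - 1) = 0 := by
      have h6 : ((β : F) * β - 1) * κ e = 0 := by linear_combination h3
      have h7 := (mul_eq_zero.1 h6).resolve_right hκe
      have h8 : (2 : F) = 0 := CharTwo.two_eq_zero
      linear_combination h7 + (1 - (β : F)) * h8
    exact Units.ext (sub_eq_zero.1 (mul_self_eq_zero.1 h5))
  subst hβ
  refine ⟨(⟨d, hd, ?_⟩, ⟨h, hh, ?_⟩), rfl⟩
  · exact hβ1.trans (one_smul _ _)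
  · exact hβ2.trans (by rw [inv_one]; exact one_smul _ _)

/-- injectivity of the second projection for a singular kernel -/
theorem eq_one_of_snd (hκ : Nondeg κ) (hN : Module.finrank F N = 2) {e x₁ : N}
    (hh : Hyp κ e x₁) (hμe : μ e = 0) (hm : μ x₁ ≠ 0)
    {p : ↥(O κ) × ↥(O QM)} (hp : p ∈ muS κ QM μ) (h2 : (p.2 : M ≃ₗ[F] M) = 1) : p = 1 := by
  obtain ⟨β, hβ1, hβ2⟩ := exists_beta hκ hN hh.pair hh.left_ne hμe hm hp
  have hβ : β = 1 := by
    rw [h2] at hβ2
    have h3 : μ x₁ = ((β⁻¹ : Fˣ) : F) • μ x₁ := hβ2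
    have h4 : (1 - ((β⁻¹ : Fˣ) : F)) • μ x₁ = 0 := by
      rw [sub_smul, one_smul, ← h3, sub_self]
    have h5 := (smul_eq_zero.1 h4).resolve_right hm
    have h6 : β⁻¹ = 1 := Units.ext (sub_eq_zero.1 h5).symm
    exact inv_eq_one.1 h6
  subst hβ
  rw [one_smul] at hβ1
  have h3 : (p.1 : N ≃ₗ[F] N) x₁ = x₁ := by
    have h4 := Plane.expand hN hh.pair ((p.1 : N ≃ₗ[F] N) x₁)
    have h5 : polar κ ((p.1 : N ≃ₗ[F] N) x₁) e = 1 := by
      have h6 := polar_map p.1.2 e x₁
      rw [hβ1, hh.pair, polar_comm] at h6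
      exact h6
    rw [h5, one_smul] at h4
    have h7 : κ ((p.1 : N ≃ₗ[F] N) x₁) = 0 := (p.1.2 x₁).trans hh.right
    rw [h4, Q_add, QuadraticMap.map_smul, hh.left, hh.right, polar_smul_left, hh.pair,
      smul_zero, zero_add, zero_add, smul_eq_mul, mul_one] at h7
    rw [h7, zero_smul, zero_add] at h4
    exact h4
  have h4 : (p.1 : N ≃ₗ[F] N) = 1 := eq_one_of_fix hN hh.pair hβ1 h3
  exact Prod.ext (Subtype.ext h4) (Subtype.ext h2)

/-- The singular kernel, singular image. -/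
theorem rank_one_sing_sing (hκ : Nondeg κ) (hN : Module.finrank F N = 2) (hQM : Nondeg QM) {k : ℕ}
    (hM : Module.finrank F M = 2 * k) (h3 : T3.{u} k) {e x₁ : N}
    (hh : Hyp κ e x₁) (hμe : μ e = 0) (hm : μ x₁ ≠ 0) (hs : QM (μ x₁) = 0) :
    FSGood True (muS κ QM μ) := by
  have hfN := finite_equiv F N
  have hfM := finite_equiv F M
  let f : muS κ QM μ →* lineV QM (μ x₁) :=
    { toFun := fun q => ⟨q.1.2, q.1.2.2, by
        obtain ⟨β, -, hβ⟩ := exists_beta hκ hN hh.pair hh.left_ne hμe hm q.2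
        exact ⟨β⁻¹, hβ⟩⟩
      map_one' := rfl
      map_mul' := fun _ _ => rfl }
  have hinj : Function.Injective f := by
    rw [injective_iff_map_eq_one]
    intro q hq
    exact Subtype.ext (eq_one_of_snd hκ hN hh hμe hm q.2 (congrArg Subtype.val hq))
  have hsurj : Function.Surjective f := by
    rintro ⟨h, hh1, β, hβ⟩
    have hd : lev hh (1, β⁻¹) ∈ O κ := (lev_mem_O hh).2 (one_mem _)
    have hde : lev hh (1, β⁻¹) e = β⁻¹ • e := lev_x hh _
    refine ⟨⟨(⟨lev hh (1, β⁻¹), hd⟩, ⟨h, hh1⟩), ?_⟩, rfl⟩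
    intro v
    show h (μ v) = μ (lev hh (1, β⁻¹) v)
    rw [mu_apply hN hh.pair hμe v, mu_apply hN hh.pair hμe (lev hh (1, β⁻¹) v), map_smul, hβ]
    have h4 := polar_map hd v e
    rw [hde] at h4
    have h5 : polar κ (lev hh (1, β⁻¹) v) ((β⁻¹ : Fˣ) • e) =
        ((β⁻¹ : Fˣ) : F) * polar κ (lev hh (1, β⁻¹) v) e := polar_smul_right _ _ _ _
    rw [h5] at h4
    have h6 : polar κ (lev hh (1, β⁻¹) v) e = (β : F) * polar κ v e := by
      rw [← h4, ← mul_assoc, ← Units.val_mul, mul_inv_cancel, Units.val_one, one_mul]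
    rw [h6, Units.smul_def, smul_smul, mul_comm]
  exact FSGood.of_mulEquiv (MulEquiv.ofBijective f ⟨hinj, hsurj⟩).symm
    (h3 F M QM hQM hM _ hm hs)

/-- The singular kernel, nonsingular image. -/
theorem rank_one_sing_nonsing (hκ : Nondeg κ) (hN : Module.finrank F N = 2) (hQM : Nondeg QM)
    {k : ℕ} (hM : Module.finrank F M = 2 * k) (h2 : T2.{u} k) {e x₁ : N}
    (hh : Hyp κ e x₁) (hμe : μ e = 0) (hs : QM (μ x₁) ≠ 0) :
    FSGood False (muS κ QM μ) := by
  have hfN := finite_equiv F N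
  have hfM := finite_equiv F M
  have hm : μ x₁ ≠ 0 := by
    intro h
    rw [h, QuadraticMap.map_zero] at hs
    exact hs rfl
  let f : muS κ QM μ →* fixV QM (μ x₁) :=
    { toFun := fun q => ⟨q.1.2, q.1.2.2, by
        obtain ⟨β, -, hβ⟩ := exists_beta hκ hN hh.pair hh.left_ne hμe hm q.2
        have h3 : QM ((q.1.2 : M ≃ₗ[F] M) (μ x₁)) = QM (μ x₁) := q.1.2.2 _
        have h4 : (q.1.2 : M ≃ₗ[F] M) (μ x₁) = ((β⁻¹ : Fˣ) : F) • μ x₁ := hβ
        rw [h4, QuadraticMap.map_smul, smul_eq_mul] at h3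
        have h5 : (((β⁻¹ : Fˣ) : F) - 1) * (((β⁻¹ : Fˣ) : F) - 1) = 0 := by
          have h6 : (((β⁻¹ : Fˣ) : F) * ((β⁻¹ : Fˣ) : F) - 1) * QM (μ x₁) = 0 := by
            linear_combination h3
          have h7 := (mul_eq_zero.1 h6).resolve_right hs
          have h8 : (2 : F) = 0 := CharTwo.two_eq_zero
          linear_combination h7 + (1 - ((β⁻¹ : Fˣ) : F)) * h8
        rw [h4, sub_eq_zero.1 (mul_self_eq_zero.1 h5), one_smul]⟩
      map_one' := rfl
      map_mul' := fun _ _ => rfl }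
  have hinj : Function.Injective f := by
    rw [injective_iff_map_eq_one]
    intro q hq
    exact Subtype.ext (eq_one_of_snd hκ hN hh hμe hm q.2 (congrArg Subtype.val hq))
  have hsurj : Function.Surjective f := by
    rintro ⟨h, hh1, hβ⟩
    refine ⟨⟨(1, ⟨h, hh1⟩), ?_⟩, rfl⟩
    intro v
    show h (μ v) = μ v
    rw [mu_apply hN hh.pair hμe v, map_smul, hβ]
  exact FSGood.of_mulEquiv (MulEquiv.ofBijective f ⟨hinj, hsurj⟩).symm
    (h2 F M QM hQM hM _ hs)

/-- **Rank one.** -/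
theorem muS_rank_one (κ : QuadraticForm F N) (hκ : Nondeg κ) (hN : Module.finrank F N = 2)
    (QM : QuadraticForm F M) (hQM : Nondeg QM) {k : ℕ} (hM : Module.finrank F M = 2 * k)
    (μ : N →ₗ[F] M) (h1 : T1.{u} k) (h2 : T2.{u} k) (h3 : T3.{u} k) {e : N} (he : e ≠ 0)
    (hμe : μ e = 0) (hμ : μ ≠ 0) : FSGood (∃ x : N, x ≠ 0 ∧ κ x = 0) (muS κ QM μ) := by
  obtain ⟨x₀, hx₀⟩ := Plane.exists_pair hκ he
  have hm : ∀ x : N, polar κ e x = 1 → μ x ≠ 0 := by
    intro x hx h
    apply hμ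
    ext v
    rw [mu_apply hN hx hμe, h, smul_zero]
    rfl
  by_cases hκe : κ e = 0
  · let x₁ : N := x₀ + κ x₀ • e
    have hh : Hyp κ e x₁ := by
      refine ⟨hκe, ?_, ?_⟩
      · show κ (x₀ + κ x₀ • e) = 0
        rw [Q_add, QuadraticMap.map_smul, hκe, smul_zero, add_zero, polar_smul_right, polar_comm,
          hx₀, smul_eq_mul, mul_one]
        exact CharTwo.add_self_eq_zero _
      · show polar κ e (x₀ + κ x₀ • e) = 1
        rw [polar_add_right, polar_smul_right, hx₀, Plane.polar_self0, smul_zero, add_zero]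
    by_cases hs : QM (μ x₁) = 0
    · exact (rank_one_sing_sing hκ hN hQM hM h3 hh hμe (hm x₁ hh.pair) hs).mono
        (fun _ => ⟨e, he, hκe⟩)
    · exact (rank_one_sing_nonsing hκ hN hQM hM h2 hh hμe hs).mono (fun h => h.elim)
  · exact (rank_one_nonsing hκ hN hQM hM h1 h2 hx₀ he hμe (hm x₀ hx₀) hκe).mono
      (fun h => h.elim)

end Cfsg.Agent.H869.MuRank
end

-- part: H592/FSFour
section
/-!
# The step for `T4`: stabilisers of totally singular planes with a form
-/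

set_option autoImplicit false

universe u

namespace Cfsg.Agent.H592.FSFour

open Cfsg QuadraticMap
open Cfsg.Agent.LieClassical.OrthCore Cfsg.Agent.H955.FS

/-- **The induction step for `T4`.** -/
theorem T4_step (n : ℕ) (ih : ∀ m < n, T0.{u} m ∧ T1.{u} m ∧ T2.{u} m ∧ T3.{u} m ∧ T4.{u} m ∧
    T5.{u} m) : T4.{u} n := by
  refine T4_of_muS n (fun m hm => (ih m hm).1) ?_
  intro k hk F _ _ _ N _ _ _ M _ _ _ κ QM hκ hN hQM hM μ
  obtain ⟨h0, h1, h2, h3, h4, h5⟩ := ih k hk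
  by_cases hμ0 : μ = 0
  · subst hμ0
    exact (muS_zero h0 hκ hN hQM hM).mono False.elim
  · by_cases hμ : Function.Injective μ
    · exact muS_inj (fun m hm => (ih m (lt_of_le_of_lt hm hk)).1) h4 h5 hκ hN hQM hM hμ
    · obtain ⟨e, he, he0⟩ : ∃ e, μ e = 0 ∧ e ≠ 0 := by
        rw [← LinearMap.ker_eq_bot] at hμ
        obtain ⟨e, he, he0⟩ := (Submodule.ne_bot_iff _).1 hμ
        exact ⟨e, LinearMap.mem_ker.1 he, he0⟩
      exact H869.MuRank.muS_rank_one κ hκ hN QM hQM hM μ h1 h2 h3 he0 he hμ0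

end Cfsg.Agent.H592.FSFour
end
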